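import Cfsg.Agent.Lib.TwoXDih.Interface
import Cfsg.Agent.Lib.Classical.DicksonSolvable
import Cfsg.Agent.Lib.Small.DegreePrimeSuccData

/-!
# The bridge from the hypothesis on the centralizer
-/

set_option autoImplicit false
set_option linter.unusedSectionVars false
set_option linter.style.haveILetI false

namespace Cfsg.Agent.TwoXDih

open Subgroup

universe u v

local notation "Z2" => Multiplicative (ZMod 2)

theorem psl_simple {F : Type v} [Field F] [Fintype F] (h4 : 3 < Fintype.card F) :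
    IsSimpleGroup (Matrix.ProjectiveSpecialLinearGroup (Fin 2) F) :=
  Matrix.ProjectiveSpecialLinearGroup.rank_two_simple (by rw [Nat.card_eq_fintype_card]; omega)

theorem psl_center {F : Type} [Field F] [Fintype F] (h4 : 3 < Fintype.card F) :
    center (Matrix.ProjectiveSpecialLinearGroup (Fin 2) F) = ⊥ := by
  haveI := psl_simple h4
  have h4' : 4 ≤ Nat.card F := by rw [Nat.card_eq_fintype_card]; omega
  rcases (inferInstance : (center (Matrix.ProjectiveSpecialLinearGroup (Fin 2) F)).Normal).eq_bot_or_eq_top with e | e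
  · exact e
  · exfalso
    refine Classical.byContradiction fun _ => Dickson.not_isSolvable_psl (F := F) h4' ?_
    exact Group.isSolvable_of_comm fun a b => mem_center_iff.1 (e ▸ mem_top b) a

theorem psl_perfect {F : Type} [Field F] [Fintype F] (h4 : 3 < Fintype.card F) :
    commutator (Matrix.ProjectiveSpecialLinearGroup (Fin 2) F) = ⊤ := by
  haveI := psl_simple h4
  have h4' : 4 ≤ Nat.card F := by rw [Nat.card_eq_fintype_card]; omega
  rcases (inferInstance : (commutator (Matrix.ProjectiveSpecialLinearGroup (Fin 2) F)).Normal).eq_bot_or_eq_top with e | e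
  · exfalso
    refine Dickson.not_isSolvable_psl (F := F) h4' (Group.isSolvable_of_comm fun a b => ?_)
    exact commutatorElement_eq_one_iff_mul_comm.1 (mem_bot.1 (e ▸ commutator_mem_commutator (mem_top a) (mem_top b)))
  · exact e

/-- Build the bridge. -/
theorem exists_bridge {G : Type u} [Group G] [Finite G] (t : G) (ht : orderOf t = 2) {F : Type v} [Field F]
    [Fintype F] (hF : 3 < Fintype.card F)
    (hL : Nonempty (↥(Subgroup.closure {x : (↥(Subgroup.centralizer ({t} : Set G)) ⧸ Cfsg.oddCore ↥(Subgroup.centralizer ({t} : Set G))) | ∃ k : ℕ, orderOf x = 2 ^ k}) ≃*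
      (Z2 × Matrix.ProjectiveSpecialLinearGroup (Fin 2) F))) :
    ∃ (K : Type) (_ : Field K) (_ : Fintype K), 3 < Fintype.card K ∧
      ∃ B : Bridge G (Matrix.ProjectiveSpecialLinearGroup (Fin 2) K), B.t = t := by
  haveI : Small.{0} F := Countable.toSmall F
  letI : Fintype (Shrink.{0} F) := Fintype.ofFinite _
  have hK : 3 < Fintype.card (Shrink.{0} F) := by
    rwa [Fintype.card_congr (equivShrink F).symm]
  refine ⟨Shrink.{0} F, inferInstance, inferInstance, hK, ?_⟩
  obtain ⟨η⟩ := PSucc.psl_congr (Shrink.ringEquiv.{0} F).symm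
  obtain ⟨e0⟩ := hL
  set C := centralizer ({t} : Set G) with hC
  set O := Cfsg.oddCore C with hO
  haveI : O.Normal := inferInstance
  set Lb := Subgroup.closure {x : C ⧸ O | ∃ k : ℕ, orderOf x = 2 ^ k} with hLb
  let e : Lb ≃* Z2 × Matrix.ProjectiveSpecialLinearGroup (Fin 2) (Shrink.{0} F) :=
    e0.trans (MulEquiv.prodCongr (MulEquiv.refl _) η)
  set q := QuotientGroup.mk' O with hq
  haveI hLn : Lb.Normal := ⟨fun x hx g => by
    induction hx using closure_induction with
    | mem y hy =>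
      obtain ⟨k, hk⟩ := hy
      refine subset_closure ⟨k, ?_⟩
      rw [← hk]
      exact orderOf_injective (MulAut.conj g).toMonoidHom (MulAut.conj g).injective y
    | one => simp
    | mul a b _ _ ha hb => rw [← conj_mul]; exact mul_mem ha hb
    | inv a _ ha => rw [← conj_inv]; exact inv_mem ha⟩
  set L := (Lb.comap q).map C.subtype with hL'
  have hLC : L ≤ C := map_subtype_le _
  have hLmem : ∀ {x : G} (hx : x ∈ C), x ∈ L ↔ q ⟨x, hx⟩ ∈ Lb := fun {x} hx => by
    constructor
    · rintro ⟨y, hy, e'⟩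
      rwa [show (⟨x, hx⟩ : C) = y from Subtype.ext e'.symm]
    · exact fun h => ⟨⟨x, hx⟩, h, rfl⟩
  have htC : t ∈ C := mem_centralizer_singleton_iff.2 rfl
  have htwo : ∀ x : G, x * t = t * x → (∃ n : ℕ, orderOf x = 2 ^ n) → x ∈ L := by
    rintro x hx ⟨n, hn⟩
    have hxC : x ∈ C := mem_centralizer_singleton_iff.2 hx
    refine (hLmem hxC).2 (subset_closure ?_)
    have h1 : orderOf (q ⟨x, hxC⟩) ∣ 2 ^ n := (orderOf_map_dvd q _).trans (by rw [Subgroup.orderOf_mk, hn])
    obtain ⟨k, -, hk⟩ := (Nat.dvd_prime_pow Nat.prime_two).1 h1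
    exact ⟨k, hk⟩
  have htL : t ∈ L := htwo t rfl ⟨1, by rw [ht, pow_one]⟩
  let φ0 : L →* Lb := (q.comp (inclusion hLC)).codRestrict Lb fun x => (hLmem (hLC x.2)).1 x.2
  let φ : L →* Z2 × Matrix.ProjectiveSpecialLinearGroup (Fin 2) (Shrink.{0} F) := e.toMonoidHom.comp φ0
  have hφ0 : Function.Surjective φ0 := by
    rintro ⟨y, hy⟩
    obtain ⟨x, rfl⟩ := QuotientGroup.mk'_surjective O y
    exact ⟨⟨x, (hLmem x.2).2 hy⟩, Subtype.ext rfl⟩
  have hker : Odd (Nat.card φ.ker) := by
    let f : φ.ker →* O :=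
      { toFun := fun x => ⟨inclusion hLC (x : L), by
          have h1 : φ0 (x : L) = 1 := e.injective ((MonoidHom.mem_ker.1 x.2).trans (map_one e).symm)
          exact (QuotientGroup.eq_one_iff _).1 (congrArg Subtype.val h1)⟩
        map_one' := Subtype.ext (Subtype.ext rfl)
        map_mul' := fun a b => Subtype.ext (Subtype.ext rfl) }
    refine (Nat.coprime_two_right.1 (PBasic.pPrimeCore_coprime (hp := ⟨Nat.prime_two⟩) 2 C)).of_dvd_nat
      (card_dvd_of_injective f fun a b hab => ?_)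
    exact Subtype.ext (Subtype.ext (congrArg (fun z : O => ((z : C) : G)) hab))
  have htt : t * t = 1 := by rw [← pow_two, ← ht, pow_orderOf_eq_one]
  have hφt : φ ⟨t, htL⟩ = (Multiplicative.ofAdd 1, 1) := by
    have hcen : ∀ y, φ ⟨t, htL⟩ * y = y * φ ⟨t, htL⟩ := fun y => by
      obtain ⟨x, rfl⟩ := e.surjective.comp hφ0 y
      show φ ⟨t, htL⟩ * φ x = φ x * φ ⟨t, htL⟩
      rw [← map_mul, ← map_mul]
      exact congrArg φ (Subtype.ext (mem_centralizer_singleton_iff.1 (hLC x.2)).symm)
    have h2 : (φ ⟨t, htL⟩).2 = 1 := by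
      have : (φ ⟨t, htL⟩).2 ∈ center (Matrix.ProjectiveSpecialLinearGroup (Fin 2) (Shrink.{0} F)) :=
        mem_center_iff.2 fun g => (congrArg Prod.snd (hcen (1, g))).symm
      rwa [psl_center hK, mem_bot] at this
    refine Prod.ext ((z2_cases _).resolve_left fun h1 => ?_) h2
    have hmem : (⟨t, htL⟩ : L) ∈ φ.ker := MonoidHom.mem_ker.2 (Prod.ext h1 h2)
    have ho : Odd (orderOf (⟨t, htL⟩ : L)) := hker.of_dvd_nat (φ.ker.orderOf_dvd_natCard hmem)
    rw [Subgroup.orderOf_mk, ht] at ho
    exact absurd ho (by decide)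
  refine ⟨⟨t, L, htt, htL, fun x hx => mem_centralizer_singleton_iff.1 (hLC hx), fun g hg x hx => ?_, htwo, φ,
    e.surjective.comp hφ0, hker, hφt, psl_perfect hK⟩, rfl⟩
  have hgC : g ∈ C := mem_centralizer_singleton_iff.2 hg
  refine (hLmem (mul_mem (mul_mem hgC (hLC hx)) (inv_mem hgC))).2 ?_
  exact hLn.conj_mem _ ((hLmem (hLC hx)).1 hx) (q ⟨g, hgC⟩)

end Cfsg.Agent.TwoXDih
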