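import Cfsg.Agent.Lib.SixInv.Count
import Cfsg.Agent.Lib.SixInv.Basic
import Cfsg.Agent.Lib.BrauerSuzuki.Isolated
import Cfsg.Agent.Lib.BrauerSuzuki.ZStar
import Cfsg.Agent.Lib.Transfer.Basic

/-!
# Transfer and isolated involutions
-/

set_option autoImplicit false
set_option linter.unusedSectionVars false
set_option linter.style.haveILetI false

namespace Cfsg.Agent.TwoXDih

open Subgroup

universe u

variable {G : Type u} [Group G] [Finite G]

/-- Thompson's transfer lemma with a conjugate having a large centralizer in the Sylow subgroup. -/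
theorem exists_extremal (h2 : ∀ H : Subgroup G, H.index ≠ 2) (S : Sylow 2 G) {M : Subgroup G}
    (hMS : M ≤ S) (hM : 2 * Nat.card M = Nat.card (S : Subgroup G)) {t : G} (ht : t * t = 1)
    {c : ℕ} (hc : 2 ^ c ∣ Nat.card (centralizer ({t} : Set G))) :
    ∃ v ∈ M, IsConj t v ∧ 2 ^ c ∣ Nat.card ↥((S : Subgroup G) ⊓ centralizer ({v} : Set G)) := by
  haveI : Fact (Nat.Prime 2) := ⟨Nat.prime_two⟩
  by_contra hno
  push Not at hno
  obtain ⟨s, hs⟩ := IsPGroup.iff_card.1 S.2
  cases c with
  | zero =>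
    have hnone : ∀ v ∈ M, ¬ IsConj t v := fun v hv hcv => hno v hv hcv (by simp)
    have h0 : Nat.card (SixInv.conjOf (M : Set G) t) = 0 := by
      have : SixInv.conjOf (M : Set G) t = ∅ := Set.eq_empty_iff_forall_notMem.2 fun v hv => hnone v hv.2 hv.1
      rw [this]; simp
    obtain ⟨u, hu⟩ : ∃ u, M.index = 4 * u + 2 := by
      have e1 := M.card_mul_index
      rw [← (S : Subgroup G).card_mul_index, ← hM, mul_comm 2 (Nat.card M), mul_assoc] at e1
      have e2 := Nat.eq_of_mul_eq_mul_left Nat.card_pos e1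
      obtain ⟨u, hu⟩ := Nat.odd_iff.2 (Nat.two_dvd_ne_zero.1 S.not_dvd_index)
      exact ⟨u, by rw [e2, hu]; ring⟩
    obtain ⟨H', hH'⟩ := SixInv.index_two_of_fix (H := M) ht (N := 0) (u := u)
      (by rw [h0, zero_mul, zero_mul]) (by rw [hu, zero_add])
    exact h2 H' hH'
  | succ c =>
    have hnormal : ∀ g ∈ (S : Subgroup G), ∀ v ∈ M, g * v * g⁻¹ ∈ M := by
      intro g hg v hv
      have hi : (M.subgroupOf S).index = 2 := by
        have e := (M.subgroupOf S).card_mul_index
        rw [Nat.card_congr (Subgroup.subgroupOfEquivOfLe hMS).toEquiv, ← hM, mul_comm 2] at e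
        exact Nat.eq_of_mul_eq_mul_left Nat.card_pos e
      exact (Subgroup.normal_of_index_eq_two hi).conj_mem ⟨v, hMS hv⟩ hv ⟨g, hg⟩
    have horb : ∀ v ∈ SixInv.conjOf (M : Set G) t,
        SixInv.orb (S : Subgroup G) v ⊆ SixInv.conjOf (M : Set G) t ∧
          2 ^ (s - c) ∣ (SixInv.orb (S : Subgroup G) v).ncard := by
      rintro v ⟨hcv, hvM⟩
      refine ⟨?_, ?_⟩
      · rintro _ ⟨g, hg, rfl⟩
        exact ⟨hcv.trans (isConj_iff.2 ⟨g, rfl⟩), hnormal g hg v hvM⟩
      · have hcard := SixInv.orb_card (S : Subgroup G) v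
        rw [hs] at hcard
        obtain ⟨e, -, he⟩ := (Nat.dvd_prime_pow Nat.prime_two).1 (Dvd.intro_left _ hcard)
        obtain ⟨f, hf, ho⟩ := (Nat.dvd_prime_pow Nat.prime_two).1 (Dvd.intro _ hcard)
        have hec : e ≤ c := by
          by_contra hlt
          exact hno v hvM hcv (he ▸ pow_dvd_pow 2 (by omega))
        rw [ho, he, ← pow_add] at hcard
        have := Nat.pow_right_injective le_rfl hcard
        rw [ho]
        exact pow_dvd_pow 2 (by omega)
    have hd : 2 ^ (s + 1) ∣ Nat.card (SixInv.conjOf (M : Set G) t) * Nat.card (centralizer ({t} : Set G)) := by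
      have h1 : 2 ^ (s - c) ∣ Nat.card (SixInv.conjOf (M : Set G) t) := by
        rw [Nat.card_coe_set_eq]
        exact SixInv.dvd_card_of_orb horb
      refine (pow_dvd_pow 2 (show s + 1 ≤ (s - c) + (c + 1) by omega)).trans ?_
      rw [pow_add]
      exact Nat.mul_dvd_mul h1 hc
    have hN := SixInv.card_fixOf_mul (x := t) (SixInv.inv_self_set M)
    set N := Nat.card (SixInv.fixOf M (M : Set G) t) with hNdef
    have h4 : 4 ∣ N := by
      rw [← hN, pow_succ', ← hs, ← hM, show 2 * (2 * Nat.card M) = 4 * Nat.card M by ring] at hd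
      exact Nat.dvd_of_mul_dvd_mul_right Nat.card_pos hd
    have hle : N ≤ M.index := by
      rw [Subgroup.index_eq_card]
      exact Nat.card_le_card_of_injective _ Subtype.val_injective
    obtain ⟨u, hu⟩ : ∃ u, M.index = 4 * u + 2 := by
      have e1 := M.card_mul_index
      rw [← (S : Subgroup G).card_mul_index, ← hM, mul_comm 2 (Nat.card M), mul_assoc] at e1
      have e2 := Nat.eq_of_mul_eq_mul_left Nat.card_pos e1
      obtain ⟨u, hu⟩ := Nat.odd_iff.2 (Nat.two_dvd_ne_zero.1 S.not_dvd_index)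
      exact ⟨u, by rw [e2, hu]; ring⟩
    obtain ⟨a, ha⟩ := h4
    obtain ⟨H', hH'⟩ := SixInv.index_two_of_fix (H := M) ht (N := N) (u := u - a) hN.symm (by omega)
    exact h2 H' hH'

/-- A non-abelian simple group has no isolated involution. -/
theorem exists_conj_ne [IsSimpleGroup G] (hG : ¬ IsMulCommutative G) (S : Sylow 2 G) {t : G}
    (ht : orderOf t = 2) (htS : t ∈ (S : Subgroup G)) :
    ∃ g : G, g * t * g⁻¹ ∈ (S : Subgroup G) ∧ g * t * g⁻¹ ≠ t := by
  by_contra hno
  push Not at hno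
  have hN := BrauerSuzuki.zStar G t ht (BrauerSuzuki.isIsolated_of_sylow ht htS hno)
  have ht1 : t ≠ 1 := fun e => by rw [e, orderOf_one] at ht; omega
  rcases (inferInstance : (Cfsg.pPrimeCore 2 G).Normal).eq_bot_or_eq_top with h | h
  · refine hG ?_
    have hcen : t ∈ Subgroup.center G := by
      rw [Subgroup.mem_center_iff]
      intro g
      have h1 := hN g
      rw [h, Subgroup.mem_bot, mul_inv_eq_one] at h1
      exact mul_inv_eq_iff_eq_mul.1 h1
    rcases (inferInstance : (Subgroup.center G).Normal).eq_bot_or_eq_top with hb | hb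
    · rw [hb, Subgroup.mem_bot] at hcen
      exact absurd hcen ht1
    · exact ⟨⟨fun a b => (Subgroup.mem_center_iff.1 (hb ▸ Subgroup.mem_top b) a)⟩⟩
  · haveI : Fact (Nat.Prime 2) := ⟨Nat.prime_two⟩
    have hodd := Cfsg.Agent.PBasic.pPrimeCore_coprime 2 G
    rw [h, Subgroup.card_top] at hodd
    exact absurd (Nat.dvd_gcd (ht ▸ orderOf_dvd_natCard t : 2 ∣ Nat.card G) dvd_rfl) (by rw [hodd]; omega)

end Cfsg.Agent.TwoXDih
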