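import Cfsg.Agent.Lib.TwoXDih.EightConj
import Cfsg.Agent.Lib.TwoXDih.Transfer

/-!
# The configuration `q = 8` has a subgroup of index two

There is a subgroup of index two in a Sylow 2-subgroup containing no conjugate of `t` with a centraliser
of order `16` there; by transfer the group has a subgroup of index two.
-/

set_option autoImplicit false
set_option linter.style.haveILetI false
set_option linter.unusedSectionVars false

namespace Cfsg.Agent.TwoXDih

open Subgroup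

universe u

namespace EightCfg

variable {G : Type u} [Group G]

/-- A subgroup with all squares and without a given element lies in one of index two without it. -/
theorem exists_index_two [Finite G] (S K : Subgroup G) (hKS : K ≤ S) (hsq : ∀ s ∈ S, s * s ∈ K) {t : G}
    (htS : t ∈ S) (ht : t ∉ K) :
    ∃ M, K ≤ M ∧ M ≤ S ∧ t ∉ M ∧ 2 * Nat.card M = Nat.card S := by
  classical
  obtain ⟨M, ⟨hKM, hMS, htM⟩, hmax⟩ := Set.Finite.exists_maximal
    (s := {M : Subgroup G | K ≤ M ∧ M ≤ S ∧ t ∉ M}) (Set.toFinite _) ⟨K, le_rfl, hKS, ht⟩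
  refine ⟨M, hKM, hMS, htM, ?_⟩
  have hsqM : ∀ s ∈ S, s * s ∈ M := fun s hs => hKM (hsq s hs)
  have hnorm : ∀ x ∈ S, ∀ m ∈ M, x * m * x⁻¹ ∈ M := fun x hx m hm => by
    rw [show x * m * x⁻¹ = (x * m * (x * m)) * (m⁻¹ * (x⁻¹ * x⁻¹)) by group]
    exact mul_mem (hsqM _ (mul_mem hx (hMS hm))) (mul_mem (inv_mem hm) (hsqM _ (inv_mem hx)))
  have hstep : ∀ x ∈ S, x ∉ M → t⁻¹ * x ∈ M := by
    intro x hx hxM
    let M' : Subgroup G :=
      { carrier := {y | y ∈ M ∨ x⁻¹ * y ∈ M}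
        one_mem' := Or.inl (one_mem _)
        mul_mem' := by
          rintro a b (ha | ha) (hb | hb)
          · exact Or.inl (mul_mem ha hb)
          · refine Or.inr ?_
            rw [show x⁻¹ * (a * b) = (x⁻¹ * a * x⁻¹⁻¹) * (x⁻¹ * b) by group]
            exact mul_mem (hnorm _ (inv_mem hx) a ha) hb
          · refine Or.inr ?_
            rw [← mul_assoc]
            exact mul_mem ha hb
          · refine Or.inl ?_
            rw [show a * b = (x * (x⁻¹ * a) * x⁻¹) * (x * x) * (x⁻¹ * b) by group]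
            exact mul_mem (mul_mem (hnorm x hx _ ha) (hsqM x hx)) hb
        inv_mem' := by
          rintro a (ha | ha)
          · exact Or.inl (inv_mem ha)
          · refine Or.inr ?_
            rw [show x⁻¹ * a⁻¹ = (x⁻¹ * (x⁻¹ * a)⁻¹ * x⁻¹⁻¹) * (x⁻¹ * x⁻¹) by group]
            exact mul_mem (hnorm _ (inv_mem hx) _ (inv_mem ha)) (hsqM _ (inv_mem hx)) }
    have hle : M ≤ M' := fun y hy => Or.inl hy
    have hxM' : x ∈ M' := Or.inr (by rw [inv_mul_cancel]; exact one_mem _)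
    have htM' : t ∈ M' := by
      by_contra h
      have hS' : M' ≤ S := by
        rintro y (hy | hy)
        · exact hMS hy
        · have := mul_mem hx (hMS hy)
          rwa [mul_inv_cancel_left] at this
      exact hxM (hmax ⟨hKM.trans hle, hS', h⟩ hle hxM')
    rcases htM' with h | h
    · exact absurd h htM
    · have := inv_mem h
      rwa [mul_inv_rev, inv_inv] at this
  have hi : (M.subgroupOf S).index = 2 := by
    rw [index_eq_two_iff_exists_notMem_and']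
    refine ⟨⟨t, htS⟩, htM, fun b => ?_⟩
    by_cases hb : (b : G) ∈ M
    · exact Or.inr hb
    · refine Or.inl ?_
      have h1 := hstep b b.2 hb
      have h2 : t * t ∈ M := hsqM t htS
      show t * (b : G) ∈ M
      rw [show t * (b : G) = (t * t) * (t⁻¹ * b) by group]
      exact mul_mem h2 h1
  have h := (M.subgroupOf S).card_mul_index
  rw [hi, Nat.card_congr (subgroupOfEquivOfLe hMS).toEquiv] at h
  omega

variable [Finite G] {C : EightCfg G} {R : Subgroup G} (F : C.Frame R)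
include F

theorem Frame.sq_outside {b : G} (hb : b ∈ R) (hbQ : b ∉ F.Q) {s : G} (hs : s ∈ R) (hsQ : s ∉ F.Q) :
    s * b⁻¹ ∈ F.Q := by
  have hbu : b * F.u * b⁻¹ = F.z * F.u := (F.moveu b hb).resolve_left fun e => hbQ (F.mem_Q_of_u hb e)
  have hsu : s * F.u * s⁻¹ = F.z * F.u := (F.moveu s hs).resolve_left fun e => hsQ (F.mem_Q_of_u hs e)
  refine F.mem_Q_of_u (mul_mem hs (inv_mem hb)) ?_
  have hzu : F.u = b⁻¹ * (F.z * F.u) * b := by rw [← hbu]; group
  have hfz : s * F.z * s⁻¹ = F.z := F.fixz s hs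
  have h1 : b⁻¹ * F.u * b = F.z * F.u := by
    have hz : b⁻¹ * F.z * b = F.z := by simpa using F.fixz b⁻¹ (inv_mem hb)
    calc b⁻¹ * F.u * b = b⁻¹ * (F.z * (F.z * F.u)) * b := by rw [← mul_assoc F.z F.z, C.sqD _ F.hz, one_mul]
      _ = b⁻¹ * F.z * b * (b⁻¹ * (F.z * F.u) * b) := by group
      _ = F.z * F.u := by rw [hz, ← hzu]
  calc s * b⁻¹ * F.u * (s * b⁻¹)⁻¹ = s * (b⁻¹ * F.u * b) * s⁻¹ := by group
    _ = s * F.z * s⁻¹ * (s * F.u * s⁻¹) := by rw [h1]; group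
    _ = F.u := by rw [hfz, hsu, ← mul_assoc, C.sqD _ F.hz, one_mul]

theorem Frame.Q_normal {q p : G} (hp : p ∈ R) (hq : q ∈ F.Q) : p * q * p⁻¹ ∈ F.Q := by
  refine F.mem_Q.2 ⟨mul_mem (mul_mem hp (F.Q_le hq)) (inv_mem hp), fun y hy => ?_⟩
  have h1 := F.conjU (inv_mem hp) hy
  have h2 := (F.mem_Q.1 hq).2 _ h1
  calc p * q * p⁻¹ * y * (p * q * p⁻¹)⁻¹ = p * (q * (p⁻¹ * y * p⁻¹⁻¹) * q⁻¹) * p⁻¹ := by group
    _ = p * (p⁻¹ * y * p⁻¹⁻¹) * p⁻¹ := by rw [h2]
    _ = y := by group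

theorem Frame.sq_avoid {b q : G} (hb : b ∈ R) (hbQ : b ∉ F.Q) (hq : q ∈ F.Q) :
    C.t * (q * b * (q * b)) ∉ C.D := fun h => by
  have hx : q * b * (q * b) ∈ C.T := C.mem_T.2 (Or.inr h)
  have hD : q * b * (q * b) ∉ C.D := fun h2 => C.tD (by
    have := mul_mem h (inv_mem h2)
    rwa [mul_inv_cancel_right] at this)
  have h1 := F.T_le_Q (C.cent F.big.pgroup F.big.le hx hD (mul_mem (F.Q_le hq) hb) (by group))
  exact hbQ (by
    have := mul_mem (inv_mem hq) h1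
    rwa [inv_mul_cancel_left] at this)

/-- The subgroup when `T` has no other conjugate. -/
theorem exists_K_single : ∃ K : Subgroup G, K ≤ R ∧ (∀ s ∈ R, s * s ∈ K) ∧ C.D ≤ K ∧ C.t ∉ K := by
  classical
  obtain ⟨b, hb, hbQ, -, hbb⟩ := F.exists_b
  have hDR : C.D ≤ R := C.D_le.trans F.big.le
  haveI hn : (C.D.subgroupOf R).Normal := ⟨fun d hd p => F.big.conjD p.2 hd⟩
  set π := QuotientGroup.mk' (C.D.subgroupOf R) with hπ
  let QR : Subgroup R := F.Q.subgroupOf R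
  let bR : R := ⟨b, hb⟩
  have hmem1 : ∀ x : R, π x = 1 ↔ (x : G) ∈ C.D := fun x => QuotientGroup.eq_one_iff x
  have hcomm : ∀ x y : R, (x : G) ∈ F.Q → (y : G) ∈ F.Q → π x * π y = π y * π x := fun x y hx hy => by
    rw [← map_mul, ← map_mul, ← mul_inv_eq_one, ← map_inv, ← map_mul, hmem1]
    rw [Subgroup.coe_mul, Subgroup.coe_mul, InvMemClass.coe_inv, Subgroup.coe_mul]
    rw [show (x : G) * y * ((y : G) * x)⁻¹ =
      ((x : G) * y * ((x : G) * y)) * (((y : G)⁻¹ * ((x : G) * x) * (y : G)⁻¹⁻¹)⁻¹ * ((y : G) * y)⁻¹) by group]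
    exact mul_mem (F.sq_Q (mul_mem hx hy))
      (mul_mem (inv_mem (F.big.conjD (inv_mem y.2) (F.sq_Q hx))) (inv_mem (F.sq_Q hy)))
  have hbQ' : ∀ x : QR, ((bR * x * bR⁻¹ : R) : G) ∈ F.Q := fun x => F.Q_normal hb x.2
  let δ : QR →* R ⧸ C.D.subgroupOf R :=
    MonoidHom.mk' (fun q => π q * π (bR * q * bR⁻¹)) fun q q' => by
      have e : π (bR * ((q * q' : QR) : R) * bR⁻¹) = π (bR * q * bR⁻¹) * π (bR * q' * bR⁻¹) := by
        rw [← map_mul]; congr 1; rw [Subgroup.coe_mul]; group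
      rw [e, Subgroup.coe_mul, map_mul]
      calc π q * π q' * (π (bR * q * bR⁻¹) * π (bR * q' * bR⁻¹)) =
            π q * (π q' * π (bR * q * bR⁻¹)) * π (bR * q' * bR⁻¹) := by group
        _ = π q * (π (bR * q * bR⁻¹) * π q') * π (bR * q' * bR⁻¹) := by rw [hcomm _ _ q'.2 (hbQ' q)]
        _ = _ := by group
  have hδ : ∀ q : QR, δ q = π ((q : R) * bR * ((q : R) * bR)) := fun q => by
    show π q * π (bR * q * bR⁻¹) = _
    rw [show (q : R) * bR * ((q : R) * bR) = (q : R) * (bR * q * bR⁻¹) * (bR * bR) by group,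
      map_mul π ((q : R) * (bR * q * bR⁻¹)) (bR * bR), (hmem1 (bR * bR)).2 hbb, mul_one,
      map_mul π (q : R) (bR * q * bR⁻¹)]
  refine ⟨(δ.range.comap π).map R.subtype, map_subtype_le _, ?_, ?_, ?_⟩
  · intro s hs
    refine ⟨⟨s, hs⟩ * ⟨s, hs⟩, ?_, rfl⟩
    show π (⟨s, hs⟩ * ⟨s, hs⟩) ∈ δ.range
    by_cases hsQ : s ∈ F.Q
    · rw [(hmem1 _).2 (F.sq_Q hsQ)]
      exact one_mem _
    · refine ⟨⟨⟨s, hs⟩ * bR⁻¹, F.sq_outside hb hbQ hs hsQ⟩, ?_⟩
      rw [hδ]
      show π ((⟨s, hs⟩ : R) * bR⁻¹ * bR * ((⟨s, hs⟩ : R) * bR⁻¹ * bR)) = _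
      rw [inv_mul_cancel_right]
  · intro d hd
    refine ⟨⟨d, hDR hd⟩, ?_, rfl⟩
    show π ⟨d, hDR hd⟩ ∈ δ.range
    rw [(hmem1 _).2 hd]
    exact one_mem _
  · rintro ⟨x, ⟨q, hq⟩, hxt⟩
    rw [hδ, hπ, QuotientGroup.mk'_eq_mk'] at hq
    obtain ⟨d, hd, e⟩ := hq
    have e' : ((q : R) : G) * b * (((q : R) : G) * b) * (d : G) = C.t := by
      rw [← hxt, ← e]; rfl
    refine F.sq_avoid hb hbQ (q := ((q : R) : G)) q.2 ?_
    have hd' : (d : G) ∈ C.D := hd
    have e2 : ((q : R) : G) * b * (((q : R) : G) * b) = C.t * (d : G)⁻¹ := by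
      rw [← e']; group
    rw [e2, ← mul_assoc, C.ht, one_mul]
    exact inv_mem hd'

/-- The subgroup when there is a second conjugate of `T`. -/
theorem exists_K_pair (S : Sylow 2 G) (hR : R = (S : Subgroup G) ⊓ normalizer (C.T : Set G)) {g₀ : G}
    (hgR : cj g₀ C.T ≤ R) (hne : cj g₀ C.T ≠ C.T) :
    ∃ K : Subgroup G, K ≤ (S : Subgroup G) ∧ (∀ s ∈ (S : Subgroup G), s * s ∈ K) ∧ C.D ≤ K ∧ C.t ∉ K ∧
      cj g₀ C.D ≤ K ∧ C.t * (g₀ * C.t * g₀⁻¹) ∈ K := by
  classical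
  set X := cj g₀ C.T with hXdef
  set E := cj g₀ C.D with hEdef
  have hX : C.IsTc X := ⟨g₀, rfl⟩
  have hXQ := F.tc_le_Q hX hgR hne
  have hW := F.inter_eq hX hgR hne
  have hRS : R ≤ (S : Subgroup G) := hR ▸ inf_le_left
  have hUE : ∀ y ∈ F.U, y ∈ E := fun y hy => by
    have h1 : y ∈ X ⊓ C.T := hW.symm ▸ hy
    by_contra hE
    exact C.ncls y (F.U_le hy) ((C.cls_cj h1.1).2 hE)
  have hEX : E ≤ X := map_mono C.D_le
  have hXn : ∀ p ∈ R, cj p X = X := fun p hp => by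
    refine F.tc_unique hX hgR hne (hX.cjTc p) (fun y hy => ?_) fun e => hne ?_
    · rw [mem_cj] at hy
      have := mul_mem (mul_mem hp (hgR hy)) (inv_mem hp)
      rwa [show p * (p⁻¹ * y * p) * p⁻¹ = y by group] at this
    · have h1 := cj_inv e
      rw [← h1, cj_eq_self_iff]
      exact F.big.norm (inv_mem hp)
  have hEn : ∀ p ∈ R, cj p E = E := fun p hp => by
    rw [hEdef, ← cj_mul]
    exact C.cj_D_eq (by rw [cj_mul]; exact hXn p hp)
  have hparX : ∀ a ∈ X, ∀ b ∈ X, (a * b ∈ E ↔ (a ∈ E ↔ b ∈ E)) := by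
    have hi : (E.subgroupOf X).index = 2 := by
      have h := (E.subgroupOf X).card_mul_index
      rw [Nat.card_congr (subgroupOfEquivOfLe hEX).toEquiv, show Nat.card E = 8 by rw [hEdef, card_cj, C.cardD],
        hX.card] at h
      omega
    exact fun a ha b hb => mul_mem_iff_of_index_two hi (a := ⟨a, ha⟩) (b := ⟨b, hb⟩)
  have hparT : ∀ a ∈ C.T, ∀ b ∈ C.T, (a * b ∈ C.D ↔ (a ∈ C.D ↔ b ∈ C.D)) := by
    have hi : (C.D.subgroupOf C.T).index = 2 := by
      have h := (C.D.subgroupOf C.T).card_mul_index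
      rw [Nat.card_congr (subgroupOfEquivOfLe C.D_le).toEquiv, C.cardD, C.card_T] at h
      omega
    exact fun a ha b hb => mul_mem_iff_of_index_two hi (a := ⟨a, ha⟩) (b := ⟨b, hb⟩)
  let Par : Prop → G → Prop := fun P x => ∃ y ∈ C.T, ∃ y' ∈ X, x = y * y' ∧ ((y ∈ C.D ↔ y' ∈ E) ↔ P)
  have hmul : ∀ {P P' : Prop} {x x' : G}, Par P x → Par P' x' → Par (P ↔ P') (x * x') := by
    rintro P P' x x' ⟨y, hy, y', hy', rfl, hp⟩ ⟨v, hv, v', hv', rfl, hp'⟩
    have hvR : v ∈ R := F.big.le hv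
    have h2 : v⁻¹ * y' * v ∈ X := by
      have h0 : y' ∈ cj v X := (hXn v hvR).symm ▸ hy'
      exact mem_cj.1 h0
    refine ⟨y * v, mul_mem hy hv, v⁻¹ * y' * v * v', mul_mem h2 hv', by group, ?_⟩
    have hE2 : v⁻¹ * y' * v ∈ E ↔ y' ∈ E := by
      conv_rhs => rw [← hEn v hvR, mem_cj]
    rw [hparT y hy v hv, hparX _ h2 v' hv', hE2]
    tauto
  have hiff : ∀ {P P' : Prop} {x : G}, (P ↔ P') → Par P x → Par P' x := by
    rintro P P' x e ⟨y, hy, y', hy', hx, hp⟩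
    exact ⟨y, hy, y', hy', hx, hp.trans e⟩
  let M : Submonoid G :=
    { carrier := {x | Par True x}
      one_mem' := ⟨1, one_mem _, 1, one_mem _, (one_mul 1).symm, by simp [one_mem]⟩
      mul_mem' := fun {a b} ha hb => hiff (by simp) (hmul ha hb) }
  let K : Subgroup G :=
    { M with
      inv_mem' := fun {a} ha => by
        have h1 : a ^ (orderOf a - 1) ∈ M := pow_mem ha _
        rw [inv_eq_of_mul_eq_one_right (show a * a ^ (orderOf a - 1) = 1 by
          rw [← pow_succ', Nat.sub_add_cancel (orderOf_pos a), pow_orderOf_eq_one])]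
        exact h1 }
  have hmemK : ∀ {x : G}, x ∈ K ↔ Par True x := fun {x} => Iff.rfl
  have hDK : C.D ≤ K := fun d hd => hmemK.2 ⟨d, C.D_le hd, 1, one_mem _, (mul_one d).symm,
    by simp [hd, one_mem]⟩
  have hEK : E ≤ K := fun d hd => hmemK.2 ⟨1, one_mem _, d, hEX hd, (one_mul d).symm, by simp [hd, one_mem]⟩
  have hconj : ∀ {p x : G} {P : Prop}, p ∈ R → Par P x → Par P (p * x * p⁻¹) := by
    rintro p x P hp ⟨y, hy, y', hy', rfl, hP⟩
    refine ⟨p * y * p⁻¹, (mem_normalizer_iff.1 (F.big.norm hp) y).1 hy, p * y' * p⁻¹,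
      hXn p hp ▸ conj_mem_cj hy', by group, ?_⟩
    have h1 : p * y * p⁻¹ ∈ C.D ↔ y ∈ C.D := by
      refine ⟨fun h => ?_, fun h => F.big.conjD hp h⟩
      have := F.big.conjD (inv_mem hp) h
      rwa [show p⁻¹ * (p * y * p⁻¹) * p⁻¹⁻¹ = y by group] at this
    have h2 : p * y' * p⁻¹ ∈ E ↔ y' ∈ E := by
      conv_lhs => rw [← hEn p hp, mem_cj, show p⁻¹ * (p * y' * p⁻¹) * p = y' by group]
    rw [h1, h2]
    exact hP
  refine ⟨K, ?_, ?_, hDK, ?_, hEK, ?_⟩
  · rintro x ⟨y, hy, y', hy', rfl, -⟩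
    exact hRS (mul_mem (F.big.le hy) (hgR hy'))
  · intro s hs
    by_cases hsR : s ∈ R
    · by_cases hsQ : s ∈ F.Q
      · exact hDK (F.sq_Q hsQ)
      · obtain ⟨b, hb, hbQ, -, hbb⟩ := F.exists_b
        set q := s * b⁻¹ with hq
        obtain ⟨y, hy, y', hy', e⟩ := F.exists_factor hX hgR hne (F.sq_outside hb hbQ hsR hsQ)
        have h1 : Par (y ∈ C.D ↔ y' ∈ E) q := ⟨y, hy, y', hy', e, Iff.rfl⟩
        have h2 : q * (b * q * b⁻¹) ∈ K := hmemK.2 (hiff (by simp) (hmul h1 (hconj hb h1)))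
        have h3 := mul_mem h2 (hDK hbb)
        rwa [show q * (b * q * b⁻¹) * (b * b) = s * s by rw [hq]; group] at h3
    · have htcS : ∀ Y, C.IsTc Y → Y ≤ R → cj s Y ≤ R := fun Y hY hYR =>
        tc_le_normalizer S hR F (hY.cjTc s) fun y hy => by
          rw [mem_cj] at hy
          have := mul_mem (mul_mem hs (hRS (hYR hy))) (inv_mem hs)
          rwa [show s * (s⁻¹ * y * s) * s⁻¹ = y by group] at this
      have hsT : cj s C.T = X := by
        refine F.tc_unique hX hgR hne ⟨s, rfl⟩ (htcS _ isTc_T F.big.le) fun e => hsR ?_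
        rw [hR]
        exact ⟨hs, cj_eq_self_iff.1 e⟩
      have hsX : cj s X = C.T := by
        by_contra hne2
        have h1 : cj s X = cj s C.T := (F.tc_unique hX hgR hne (hX.cjTc s) (htcS _ hX hgR) hne2).trans hsT.symm
        have h2 := cj_inv h1
        rw [← cj_mul, inv_mul_cancel, cj_one] at h2
        exact hne h2.symm
      have hsD : cj s C.D = E := C.cj_D_eq hsT
      have hsE : cj s E = C.D := by
        rw [hEdef, ← cj_mul]
        exact (C.cj_D_eq (g := s * g₀) (h := 1) (by rw [cj_mul, cj_one]; exact hsX)).trans (cj_one _)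
      have hsU : ∀ y ∈ F.U, s * y * s⁻¹ ∈ F.U := fun y hy => by
        have h1 : y ∈ X ⊓ C.T := hW.symm ▸ hy
        rw [← hW]
        exact ⟨hsT ▸ conj_mem_cj h1.2, hsX ▸ conj_mem_cj h1.1⟩
      have hssR : s * s ∈ R := by
        rw [hR]
        exact ⟨mul_mem hs hs, cj_eq_self_iff.1 (by rw [cj_mul, hsT, hsX])⟩
      have hssQ : s * s ∈ F.Q := by
        refine F.mem_Q_of_u hssR ((F.moveu _ hssR).resolve_right fun hbad => ?_)
        have hzfix := F.fixz _ hssR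
        have h1 := hsU F.z (Or.inr (Or.inl rfl))
        have h2 : s * s * (s * F.z * s⁻¹) * (s * s)⁻¹ = s * F.z * s⁻¹ := by
          calc s * s * (s * F.z * s⁻¹) * (s * s)⁻¹ = s * (s * s * F.z * (s * s)⁻¹) * s⁻¹ := by group
            _ = _ := by rw [hzfix]
        have hsz : s * F.z * s⁻¹ = F.z := by
          rcases F.mem_U.1 h1 with h | h | h | h
          · exact absurd (conj_eq_one_iff.1 h) F.z1
          · exact h
          · rw [h, hbad] at h2
            exact absurd (mul_eq_right.1 h2) F.z1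
          · rw [h, show s * s * (F.z * F.u) * (s * s)⁻¹ = s * s * F.z * (s * s)⁻¹ * (s * s * F.u * (s * s)⁻¹) by
              group, hzfix, hbad, ← mul_assoc, C.sqD _ F.hz, one_mul] at h2
            exact absurd (mul_eq_right.1 h2.symm) F.z1
        have h3 := hsU F.u (Or.inr (Or.inr (Or.inl rfl)))
        rcases F.mem_U.1 h3 with h | h | h | h
        · exact F.u1 (conj_eq_one_iff.1 h)
        · exact F.uz (mul_left_cancel (mul_right_cancel (h.trans hsz.symm)))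
        · have : s * s * F.u * (s * s)⁻¹ = F.u := by
            calc s * s * F.u * (s * s)⁻¹ = s * (s * F.u * s⁻¹) * s⁻¹ := by group
              _ = F.u := by rw [h, h]
          exact F.z1 (mul_eq_right.1 (hbad.symm.trans this))
        · have : s * s * F.u * (s * s)⁻¹ = F.u := by
            calc s * s * F.u * (s * s)⁻¹ = s * (s * F.u * s⁻¹) * s⁻¹ := by group
              _ = s * (F.z * F.u) * s⁻¹ := by rw [h]
              _ = s * F.z * s⁻¹ * (s * F.u * s⁻¹) := by group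
              _ = F.u := by rw [hsz, h, ← mul_assoc, C.sqD _ F.hz, one_mul]
          exact F.z1 (mul_eq_right.1 (hbad.symm.trans this))
      obtain ⟨y, hy, y', hy', e⟩ := F.exists_factor hX hgR hne hssQ
      refine hmemK.2 ⟨y, hy, y', hy', e, iff_true_intro ?_⟩
      have hy1 : s * y' * s⁻¹ ∈ C.T := hsX ▸ conj_mem_cj hy'
      have hy1' : s * y * s⁻¹ ∈ X := hsT ▸ conj_mem_cj hy
      have hE2 : s * y' * s⁻¹ ∈ C.D ↔ y' ∈ E := by
        conv_lhs => rw [← hsE, mem_cj, show s⁻¹ * (s * y' * s⁻¹) * s = y' by group]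
      set y1 := s * y' * s⁻¹ with hy1d
      have hv : y1⁻¹ * (s * y * s⁻¹) * y1 ∈ X :=
        mem_cj.1 ((hXn y1 (F.big.le hy1)).symm ▸ hy1')
      have heq : y * y' = y1 * (y1⁻¹ * (s * y * s⁻¹) * y1) := by
        calc y * y' = s * (s * s) * s⁻¹ := by rw [← e]; group
          _ = (s * y * s⁻¹) * y1 := by rw [e, hy1d]; group
          _ = _ := by group
      have hdiff : y⁻¹ * y1 ∈ F.U := by
        rw [← hW]
        refine mem_inf.2 ⟨?_, mul_mem (inv_mem hy) hy1⟩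
        have e2 : y⁻¹ * y1 = y' * (y1⁻¹ * (s * y * s⁻¹) * y1)⁻¹ := by
          calc y⁻¹ * y1 = y⁻¹ * (y1 * (y1⁻¹ * (s * y * s⁻¹) * y1)) * (y1⁻¹ * (s * y * s⁻¹) * y1)⁻¹ := by group
            _ = _ := by rw [← heq]; group
        rw [e2]
        exact mul_mem hy' (inv_mem hv)
      have h5 := (hparT _ (inv_mem hy) _ hy1).1 (F.U_le hdiff)
      rw [inv_mem_iff, hE2] at h5
      exact h5
  · rintro ⟨y, hy, y', hy', e, hP⟩
    have hy2 : y' ∈ C.T := by
      rw [show y' = y⁻¹ * C.t by rw [e, inv_mul_cancel_left]]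
      exact mul_mem (inv_mem hy) C.t_mem
    have hyU : y' ∈ F.U := hW ▸ (⟨hy', hy2⟩ : y' ∈ X ⊓ C.T)
    have hyD : y ∈ C.D := (hP.2 trivial).2 (hUE _ hyU)
    exact C.tD (e ▸ mul_mem hyD (F.U_le hyU))
  · refine hmemK.2 ⟨C.t, C.t_mem, g₀ * C.t * g₀⁻¹, conj_mem_cj C.t_mem, rfl, iff_true_intro ?_⟩
    refine iff_of_false C.tD fun h => ?_
    rw [hEdef, mem_cj, show g₀⁻¹ * (g₀ * C.t * g₀⁻¹) * g₀ = C.t by group] at h
    exact C.tD h

end EightCfg

open EightCfg in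
/-- The configuration has a subgroup of index two. -/
theorem eight_false {G : Type u} [Group G] [Finite G] (C : EightCfg G) (h2 : ∀ H : Subgroup G, H.index ≠ 2) :
    False := by
  classical
  haveI : Fact (Nat.Prime 2) := ⟨Nat.prime_two⟩
  obtain ⟨R₀, hR₀, hTR₀, hR₀n, hR₀c⟩ := C.exists_big
  obtain ⟨S, hS⟩ := hR₀.exists_le_sylow
  set R := (S : Subgroup G) ⊓ normalizer (C.T : Set G) with hR
  have hB : C.Big R := ⟨S.2.to_le inf_le_left, hTR₀.trans (le_inf hS hR₀n), inf_le_right,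
    hR₀c.trans (card_le_of_le (le_inf hS hR₀n))⟩
  obtain ⟨F⟩ := exists_frame C hB
  have hRS : R ≤ (S : Subgroup G) := inf_le_left
  -- the subgroup `K`
  obtain ⟨K, hKS, hsq, hDK, htK, hX⟩ : ∃ K : Subgroup G, K ≤ (S : Subgroup G) ∧
      (∀ s ∈ (S : Subgroup G), s * s ∈ K) ∧ C.D ≤ K ∧ C.t ∉ K ∧
      ∀ g, cj g C.T ≤ R → cj g C.T ≠ C.T → ∀ x ∈ cj g C.T, x ∉ cj g C.D → C.t * x ∈ K := by
    by_cases hex : ∃ g, cj g C.T ≤ R ∧ cj g C.T ≠ C.T
    · obtain ⟨g₀, hgR, hne⟩ := hex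
      obtain ⟨K, h1, h3, h4, h5, h6, h7⟩ := exists_K_pair F S hR hgR hne
      refine ⟨K, h1, h3, h4, h5, fun g hg hgne x hx hxD => ?_⟩
      have e : cj g C.T = cj g₀ C.T := F.tc_unique ⟨g₀, rfl⟩ hgR hne ⟨g, rfl⟩ hg hgne
      rw [C.cj_D_eq e] at hxD
      rw [e, mem_cj] at hx
      have hx2 : g₀⁻¹ * x * g₀ ∉ C.D := fun h => hxD (mem_cj.2 h)
      obtain ⟨d, hd, he⟩ := C.exists_decomp hx hx2
      have : C.t * x = C.t * (g₀ * C.t * g₀⁻¹) * (g₀ * d * g₀⁻¹) := by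
        calc C.t * x = C.t * (g₀ * (g₀⁻¹ * x * g₀) * g₀⁻¹) := by group
          _ = _ := by rw [he]; group
      rw [this]
      exact mul_mem h7 (h6 (conj_mem_cj hd))
    · push Not at hex
      obtain ⟨K, h1, h3, h4, h5⟩ := exists_K_single F
      have hSR : ∀ s ∈ (S : Subgroup G), s ∈ R := fun s hs => by
        refine ⟨hs, cj_eq_self_iff.1 (hex s (tc_le_normalizer S hR F ⟨s, rfl⟩ fun y hy => ?_))⟩
        rw [mem_cj] at hy
        have := mul_mem (mul_mem hs (hRS (hB.le hy))) (inv_mem hs)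
        rwa [show s * (s⁻¹ * y * s) * s⁻¹ = y by group] at this
      exact ⟨K, h1.trans hRS, fun s hs => h3 s (hSR s hs), h4, h5, fun g hg hgne => absurd (hex g hg) hgne⟩
  obtain ⟨M, hKM, hMS, htM, hMc⟩ := exists_index_two _ K hKS hsq (hRS (hB.le C.t_mem)) htK
  obtain ⟨v, hvM, hv, hvc⟩ := exists_extremal h2 S hMS hMc C.ht (c := 4) C.dvd_cent
  obtain ⟨g, hvg, hgS⟩ := C.exists_conjugate S.2 hv
    (Nat.le_of_dvd Nat.card_pos (by simpa using hvc))
  have hgR : cj g C.T ≤ R := tc_le_normalizer S hR F ⟨g, rfl⟩ hgS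
  have hvT : v ∈ cj g C.T := hvg ▸ conj_mem_cj C.t_mem
  have hvD : v ∉ cj g C.D := by
    rw [hvg, mem_cj, show g⁻¹ * (g * C.t * g⁻¹) * g = C.t by group]
    exact C.tD
  have hkey : C.t * v ∈ M := by
    by_cases e : cj g C.T = C.T
    · have e2 : cj g C.D = C.D := (C.cj_D_eq (h := 1) (by rw [e, cj_one])).trans (cj_one _)
      rw [e] at hvT
      rw [e2] at hvD
      obtain ⟨d, hd, rfl⟩ := C.exists_decomp hvT hvD
      rw [← mul_assoc, C.ht, one_mul]
      exact hKM (hDK hd)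
    · exact hKM (hX g hgR e v hvT hvD)
  exact htM (by
    have := mul_mem hkey (inv_mem hvM)
    rwa [mul_inv_cancel_right] at this)

end Cfsg.Agent.TwoXDih
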