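import Cfsg.Agent.Lib.TwoXDih.Big
import Cfsg.Agent.Lib.TwoXDih.Eight

/-!
# The elementary case
-/

set_option autoImplicit false
set_option linter.unusedSectionVars false
set_option linter.style.haveILetI false
set_option linter.unusedVariables false

namespace Cfsg.Agent.TwoXDih

open Subgroup
open Loc (cj)

universe u

namespace ECfg

variable {G : Type u} [Group G] [Finite G] {C : ECfg G}

theorem flat_false (h2 : ∀ H : Subgroup G, H.index ≠ 2) {hn : ∀ d ∈ C.D, ¬ IsConj C.t d} {Q : Subgroup G}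
    {k : G} (F : (C.toLoc hn).Sys Q k) (htD : ∀ d ∈ C.D, IsConj C.t (C.t * d)) {Z : Subgroup Q}
    (hZ : F.tw.IsZ Z) (h8 : Nat.card C.D = 8) (hidx : (Loc.Sys.NC (C.toLoc hn) Q).index = 168)
    (hf : F.tw.Flat) : False := by
  classical
  set NQ := Subgroup.normalizer (Q : Set G)
  have hQ : Q = Subgroup.zpowers C.t ⊔ C.D := by
    refine le_antisymm (fun x hx => ?_) (sup_le (Subgroup.zpowers_le.2 F.tQ) F.DQ)
    rcases F.tw.mem_flat hf ⟨x, hx⟩ with h | h
    · exact Subgroup.mem_sup_right h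
    · rw [show x = C.t * (C.t * x) by rw [← mul_assoc, C.tsq, one_mul]]
      exact Subgroup.mul_mem_sup (Subgroup.mem_zpowers _) h
  letI : CommGroup C.D := { (inferInstance : Group C.D) with
    mul_comm := fun a b => Subtype.ext ((C.toLoc hn).comm a.2 b.2) }
  let f : NQ →* MulAut C.D :=
    { toFun := fun n =>
        { toFun := fun d => ⟨(n : G) * d * (n : G)⁻¹, F.normD htD n d.2⟩
          invFun := fun d => ⟨((n⁻¹ : NQ) : G) * d * ((n⁻¹ : NQ) : G)⁻¹, F.normD htD n⁻¹ d.2⟩
          left_inv := fun d => Subtype.ext (by push_cast; group)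
          right_inv := fun d => Subtype.ext (by push_cast; group)
          map_mul' := fun a b => Subtype.ext (by push_cast; group) }
      map_one' := MulEquiv.ext fun d => Subtype.ext (by simp)
      map_mul' := fun a b => MulEquiv.ext fun d => Subtype.ext (by
        show ((a * b : NQ) : G) * d * ((a * b : NQ) : G)⁻¹ = (a : G) * ((b : G) * d * (b : G)⁻¹) * (a : G)⁻¹
        push_cast; group) }
  have hker : f.ker = Loc.Sys.NC (C.toLoc hn) Q := by
    ext n
    rw [MonoidHom.mem_ker, Loc.Sys.mem_NC]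
    constructor
    · intro h d hd
      have := congrArg (fun e : MulAut C.D => ((e ⟨d, hd⟩ : C.D) : G)) h
      exact mul_inv_eq_iff_eq_mul.1 this
    · intro h
      refine MulEquiv.ext fun d => Subtype.ext ?_
      exact mul_inv_eq_iff_eq_mul.2 (h _ d.2)
  have hsurj : Function.Surjective f := by
    rw [← MonoidHom.range_eq_top]
    refine Subgroup.eq_top_of_le_card _ ?_
    rw [← Subgroup.index_ker, hker, hidx]
    exact (exists_gl3 C.D (fun x => Subtype.ext (C.sqD _ x.2)) h8).1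
  refine eight_false
    { t := C.t
      D := C.D
      ht := C.tsq
      cardD := h8
      sqD := C.sqD
      comm := fun d hd => (C.commD d hd).symm
      tD := C.tnot
      bound := ?_
      ncls := hn
      fused := htD
      gl := ?_
      kerD := ?_ } h2
  · intro u hu X hX hc
    obtain ⟨g, hg⟩ := isConj_iff.1 hu
    obtain ⟨c, -, hcT⟩ := C.full.max (X.map (MulAut.conj g⁻¹).toMonoidHom) (hX.map _) (by
      rintro _ ⟨x, hx, rfl⟩
      show g⁻¹ * x * g⁻¹⁻¹ * C.t = C.t * (g⁻¹ * x * g⁻¹⁻¹)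
      calc _ = g⁻¹ * (x * (g * C.t * g⁻¹)) * g := by group
        _ = _ := by rw [hg, (hc x hx).eq, ← hg]; group)
    refine ⟨fun x hx => ?_, ?_⟩
    · have h4 := C.sqT (hcT _ ⟨x, hx, rfl⟩)
      have h5 : c * (g⁻¹ * (x * x) * g) * c⁻¹ = 1 := by
        rw [← h4]
        show _ = c * (g⁻¹ * x * g⁻¹⁻¹) * c⁻¹ * (c * (g⁻¹ * x * g⁻¹⁻¹) * c⁻¹)
        group
      rw [conj_eq_one_iff] at h5
      have h6 := congrArg (fun z => g * z * g⁻¹) h5
      simpa [mul_assoc] using h6
    · refine le_trans ?_ (by rw [C.card_T, h8] : Nat.card C.T ≤ 16)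
      refine Nat.card_le_card_of_injective (fun x => (⟨_, hcT _ ⟨x.1, x.2, rfl⟩⟩ : C.T)) fun a b e => ?_
      have e' := congrArg (fun w : C.T => (w : G)) e
      exact Subtype.ext ((MulAut.conj g⁻¹).injective (mul_left_cancel (mul_right_cancel e')))
  · intro φ
    obtain ⟨n, hn'⟩ := hsurj φ
    refine ⟨n, hQ ▸ n.2, fun d => ?_⟩
    rw [← hn']
    rfl
  · intro g hg hc
    have hgN : g ∈ NQ := by rw [← hQ] at hg; exact hg
    have hH := F.NC_le_H htD hZ (show (⟨g, hgN⟩ : NQ) ∈ _ from Loc.Sys.mem_NC.2 hc)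
    have h1 : F.tw.t * cj Q ⟨g, hgN⟩ F.tw.t ∈ sqs Q := hH
    rw [F.tw.sqs_flat hf, Subgroup.mem_bot] at h1
    have h2' := eq_inv_of_mul_eq_one_right h1
    rw [F.tw.invt] at h2'
    exact congrArg Subtype.val h2'

theorem goal [IsSimpleGroup G] (hG : ¬ IsMulCommutative G) (h2 : ∀ H : Subgroup G, H.index ≠ 2) (C : ECfg G)
    (hK : 8 ≤ Nat.card C.D → Nonempty (Coord C)) (P : Sylow 2 G) :
    Nat.card (P : Subgroup G) = 8 ∧ ∀ x ∈ (P : Subgroup G), x ^ 2 = 1 := by
  refine C.final_of hG h2 (fun hn Q k F Z htD hZ h8 hfull => ?_) P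
  obtain ⟨K⟩ := hK h8
  obtain ⟨hq, hidx⟩ := eight_of_full K F htD hZ h8 hfull
  by_cases hf : F.tw.Flat
  · exact flat_false h2 F htD hZ hq hidx hf
  · exact nonflat_false h2 F htD hZ hfull hq hidx hf

end ECfg

end Cfsg.Agent.TwoXDih
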