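import Cfsg.Agent.Lib.TwoXDih.Quot
import Cfsg.Agent.Lib.PushUp3.Final

/-!
# The layer `R` is homocyclic when `t` has an involution twist in it
-/

set_option autoImplicit false
set_option linter.unusedSectionVars false
set_option linter.style.haveILetI false
set_option linter.unusedVariables false

namespace Cfsg.Agent.TwoXDih

universe u

namespace Tw

variable {Q : Type u} [Group Q] [Finite Q] (h : Tw Q)

theorem R_eq_Z [h.D.Normal] (hnf : ¬ h.Flat) (hf : (h.next hnf).Flat) {Z : Subgroup Q} (hZ : h.IsZ Z) :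
    h.R = Z := by
  have hi : (h.next hnf).IsZ (h.next hnf).D := ⟨(h.next hnf).index_D_flat hf, (h.next hnf).tnot, (h.next hnf).κD⟩
  have e := (IsZ.map hZ hnf).eq hi
  ext x
  show QuotientGroup.mk x ∈ (h.next hnf).D ↔ x ∈ Z
  rw [← e]
  refine ⟨?_, fun hx => ⟨x, hx, rfl⟩⟩
  rintro ⟨y, hy, e⟩
  have := Z.mul_mem hy (hZ.D_le (QuotientGroup.eq.1 e))
  rwa [mul_inv_cancel_left] at this

theorem mem_R_center [h.D.Normal] (hnf : ¬ h.Flat) (hf : ¬ (h.next hnf).Flat) {x : Q} :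
    x ∈ h.R ↔ (QuotientGroup.mk x : Q ⧸ h.D) ∈ Subgroup.center (Q ⧸ h.D) := by
  rw [le_antisymm ((h.next hnf).centre_le hf) (h.next hnf).D_central]
  rfl

/-- An involution in `t (R ∖ D)`. -/
theorem exists_twist [h.D.Normal] (hnf : ¬ h.Flat) {Z : Subgroup Q} (hZ : h.IsZ Z)
    (hmove : (h.next hnf).Flat → ∃ u : Q, u * u = 1 ∧ h.t * u ∈ Z ∧ h.t * u ∉ sqs Q) :
    ∃ r ∈ h.R, r ∉ h.D ∧ (h.t * r) * (h.t * r) = 1 := by
  by_cases hf : (h.next hnf).Flat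
  · obtain ⟨u, hu, huZ, hus⟩ := hmove hf
    refine ⟨h.t * u, h.R_eq_Z hnf hf hZ ▸ huZ, fun hD => hus (h.D_le_sqs hnf hD), ?_⟩
    rw [show h.t * (h.t * u) = u by rw [← mul_assoc, h.tsq, one_mul], hu]
  · obtain ⟨d, hd, hd1, -⟩ := (h.next hnf).exists_ne (h.next hnf).D.one_mem
    obtain ⟨p, hp, hpd⟩ := (h.next hnf).c_surj hf hd
    obtain ⟨x, rfl⟩ := QuotientGroup.mk_surjective p
    have e := (h.next hnf).conj_of_c hp
    rw [hpd] at e
    have e' : (QuotientGroup.mk (h.t * (x * h.t * x⁻¹)) : Q ⧸ h.D) = d := by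
      have e'' : (QuotientGroup.mk (x * h.t * x⁻¹) : Q ⧸ h.D) = QuotientGroup.mk h.t * d := e
      rw [QuotientGroup.mk_mul, e'', ← mul_assoc, ← QuotientGroup.mk_mul, h.tsq]
      exact one_mul d
    refine ⟨h.t * (x * h.t * x⁻¹), ?_, fun hD => hd1 ?_, ?_⟩
    · show QuotientGroup.mk (h.t * (x * h.t * x⁻¹)) ∈ h.Rbar
      rw [e']; exact hd
    · rw [← e']; exact h.mk_eq_one.2 hD
    · rw [← mul_assoc h.t h.t, h.tsq, one_mul, show x * h.t * x⁻¹ * (x * h.t * x⁻¹) = x * (h.t * h.t) * x⁻¹ by group,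
        h.tsq, mul_one, mul_inv_cancel]

theorem sq_of_twist [h.D.Normal] (hnf : ¬ h.Flat) {r : Q} (hr : r ∈ h.R) (hrD : r ∉ h.D)
    (hi : (h.t * r) * (h.t * r) = 1) : ∃ m : ℕ, ∀ x ∈ h.R, x * x = (h.κ ^ m) (h.c x) := by
  rcases h.sq_R hnf with h1 | h1
  · refine absurd (h.Rbar_kernel (h.R_le_P hr) hr ?_) hrD
    have e : h.t * r * h.t = r⁻¹ := eq_inv_of_mul_eq_one_left (by rw [mul_assoc]; exact hi)
    unfold c
    rw [e, ← mul_inv_rev, h1 r hr, inv_one]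
  · exact h1

/-- The involutions of `R` lie in `D`. -/
theorem R_inv_D [h.D.Normal] {m : ℕ} (hm : ∀ x ∈ h.R, x * x = (h.κ ^ m) (h.c x)) {x : Q} (hx : x ∈ h.R)
    (h2 : x * x = 1) : x ∈ h.D := by
  refine h.Rbar_kernel (h.R_le_P hx) hx ((h.κ ^ m).injective ?_)
  rw [← hm x hx, h2, map_one]

/-- Every element of `D` is a square in `R`. -/
theorem exists_sqrt [h.D.Normal] (hnf : ¬ h.Flat) {m : ℕ} (hm : ∀ x ∈ h.R, x * x = (h.κ ^ m) (h.c x)) {d : Q}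
    (hd : d ∈ h.D) : ∃ x ∈ h.R, x * x = d := by
  have hsur : Function.Surjective (fun e : h.D => (⟨(h.κ ^ m) e.1, h.κpow_D m e.2⟩ : h.D)) :=
    Finite.injective_iff_surjective.1 fun a b e => Subtype.ext ((h.κ ^ m).injective (congrArg Subtype.val e))
  obtain ⟨⟨e, he⟩, hee⟩ := hsur ⟨d, hd⟩
  obtain ⟨x, -, hxR, hxc⟩ := h.Rbar_surj hnf he
  exact ⟨x, hxR, by rw [hm x hxR, hxc]; exact congrArg Subtype.val hee⟩

/-- Automorphisms fixing `D` and `Z` fix `R`. -/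
theorem R_inv [h.D.Normal] (hnf : ¬ h.Flat) {Z : Subgroup Q} (hZ : h.IsZ Z) (o : MulAut Q)
    (hD : ∀ d ∈ h.D, o d ∈ h.D) (hoZ : ∀ z ∈ Z, o z ∈ Z) {x : Q} (hx : x ∈ h.R) : o x ∈ h.R := by
  by_cases hf : (h.next hnf).Flat
  · rw [h.R_eq_Z hnf hf hZ] at hx ⊢
    exact hoZ x hx
  · rw [h.mem_R_center hnf hf, Subgroup.mem_center_iff] at hx ⊢
    intro g
    obtain ⟨g, rfl⟩ := QuotientGroup.mk_surjective g
    have h1 := hx (QuotientGroup.mk (o.symm g))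
    rw [← QuotientGroup.mk_mul, ← QuotientGroup.mk_mul, QuotientGroup.eq] at h1 ⊢
    have h2 := hD _ h1
    simpa using h2

/-- A normal elementary subgroup outside `D` contains `D`, and `R` meets it inside `D`. -/
theorem normal_elem [h.D.Normal] (hnf : ¬ h.Flat) {m : ℕ} (hm : ∀ x ∈ h.R, x * x = (h.κ ^ m) (h.c x))
    (B : Subgroup Q) [hB : B.Normal] (hsq : ∀ b ∈ B, b * b = 1) {b : Q} (hb : b ∈ B) (hbD : b ∉ h.D) :
    h.D ≤ B := by
  have hBR : ∀ y ∈ B, y ∈ h.R → y ∈ h.D := fun y hy hyR => h.R_inv_D hm hyR (hsq y hy)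
  by_cases hf : (h.next hnf).Flat
  · rcases (h.next hnf).mem_flat hf (QuotientGroup.mk b) with hb' | hb'
    · exact absurd (hBR b hb hb') hbD
    intro d hd
    obtain ⟨x, hx, hxR, hxc⟩ := h.Rbar_surj hnf hd
    have hr : h.t * b ∈ h.R := hb'
    have hcomm := h.R_comm hnf (show x ∈ h.R from hxR) hr
    have e : x * b * x⁻¹ * b⁻¹ = d := by
      calc x * b * x⁻¹ * b⁻¹ = x * (h.t * (h.t * b)) * x⁻¹ * b⁻¹ := by rw [← mul_assoc h.t, h.tsq, one_mul]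
        _ = (x * h.t * x⁻¹) * (x * (h.t * b) * x⁻¹) * b⁻¹ := by group
        _ = (h.t * d) * (h.t * b) * b⁻¹ := by rw [h.conj_of_c hx, hxc, hcomm, mul_inv_cancel_right]
        _ = h.t * (d * h.t) := by group
        _ = d := by rw [h.commD hd, ← mul_assoc, h.tsq, one_mul]
    rw [← e]
    exact B.mul_mem (hB.conj_mem b hb x) (B.inv_mem hb)
  · exfalso
    haveI : Fact (Nat.Prime 2) := ⟨Nat.prime_two⟩
    haveI : (B.map (QuotientGroup.mk' h.D)).Normal := hB.map _ (QuotientGroup.mk'_surjective _)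
    have hne : B.map (QuotientGroup.mk' h.D) ≠ ⊥ := fun e => hbD (h.mk_eq_one.1 (by
      rw [← Subgroup.mem_bot, ← e]; exact ⟨b, hb, rfl⟩))
    obtain ⟨z, hz, hzc⟩ : ∃ z ∈ B.map (QuotientGroup.mk' h.D), z ≠ 1 ∧ z ∈ Subgroup.center (Q ⧸ h.D) := by
      by_contra hc
      push Not at hc
      refine PushUp3.inf_center_ne_bot (h.pgroup.to_quotient h.D) hne ?_
      rw [Subgroup.eq_bot_iff_forall]
      rintro z ⟨hz, hzc⟩
      by_contra h1
      exact hc z hz h1 hzc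
    obtain ⟨y, hy, rfl⟩ := hz
    exact hzc.1 (h.mk_eq_one.2 (hBR y hy ((h.mem_R_center hnf hf).2 hzc.2)))

end Tw

end Cfsg.Agent.TwoXDih
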