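import Cfsg.Agent.Lib.TwoXDih.Sylow8
import Cfsg.Agent.Lib.TwoXDih.Homo

/-!
# `q = 8` and `Q` larger than `T`
-/

set_option autoImplicit false
set_option linter.unusedSectionVars false
set_option linter.style.haveILetI false
set_option linter.unusedVariables false

namespace Cfsg.Agent.TwoXDih

open Subgroup
open Loc (cj)

universe u

namespace ECfg

variable {G : Type u} [Group G] [Finite G] {C : ECfg G}

theorem nonflat_false (h2 : ∀ H : Subgroup G, H.index ≠ 2) {hn : ∀ d ∈ C.D, ¬ IsConj C.t d} {Q : Subgroup G}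
    {k : G} (F : (C.toLoc hn).Sys Q k) (htD : ∀ d ∈ C.D, IsConj C.t (C.t * d)) {Z : Subgroup Q}
    (hZ : F.tw.IsZ Z) (hfull : ∀ y ∈ Z.map (QuotientGroup.mk' (sqs Q)), ∃ n, F.cl n = y)
    (h8 : Nat.card C.D = 8) (hidx : (Loc.Sys.NC (C.toLoc hn) Q).index = 168) (hnf : ¬ F.tw.Flat) : False := by
  haveI : Fact (Nat.Prime 2) := ⟨Nat.prime_two⟩
  haveI := F.tw.normalD
  set NQ := Subgroup.normalizer (Q : Set G)
  obtain ⟨R, M, hR, hQR, hRN, hmax, hMR, hMcard, hMQ⟩ := exists_sylow_eight F htD hZ hfull h8 hidx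
  -- `R` is homocyclic
  obtain ⟨r0, hr0, hr0D, hr0i⟩ := F.tw.exists_twist hnf hZ fun _ => by
    obtain ⟨y, hy, hy1⟩ : ∃ y ∈ Z.map (QuotientGroup.mk' (sqs Q)), y ≠ 1 := by
      by_contra hc
      push Not at hc
      have h1 := F.tw.card_quot hZ
      rw [(Subgroup.eq_bot_iff_forall _).2 hc, Subgroup.card_bot] at h1
      have := F.tw.four
      omega
    obtain ⟨n, hn'⟩ := hfull y hy
    refine ⟨cj Q n F.tw.t, by rw [← map_mul, F.tw.tsq, map_one],
      (Subgroup.mul_mem_iff_of_index_two hZ.index).2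
        (iff_of_false hZ.tnot (F.tw.image_notMem hZ _ (F.image_notD n))), fun h => hy1 ?_⟩
    rw [← hn']
    exact (QuotientGroup.eq_one_iff _).2 h
  obtain ⟨m, hm⟩ := F.tw.sq_of_twist hnf hr0 hr0D hr0i
  have hRinv : ∀ (n : NQ) (x : Q), x ∈ F.tw.R → cj Q n x ∈ F.tw.R := fun n x hx =>
    F.tw.R_inv hnf hZ (cj Q n) (fun d hd => F.normD htD n hd) (fun z hz => F.Z_inv hZ hfull n hz) hx
  have hord : ∀ {P : Subgroup G}, IsPGroup 2 P → ∀ x ∈ P, ∃ m : ℕ, orderOf x = 2 ^ m := by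
    intro P hP x hx
    obtain ⟨j, hj⟩ := IsPGroup.iff_orderOf.1 hP ⟨x, hx⟩
    exact ⟨j, by rw [← hj, Subgroup.orderOf_mk]⟩
  -- elements of `R` centralising `D` lie in `Q`
  have hCD : ∀ x ∈ R, (∀ d ∈ C.D, x * d = d * x) → x ∈ Q := fun x hx hc =>
    mem_Q_of_H F htD (F.NC_le_H htD hZ (show (⟨x, hRN hx⟩ : NQ) ∈ _ from Loc.Sys.mem_NC.2 hc)) (hord hR x hx)
  obtain ⟨S, hS⟩ := hR.exists_le_sylow
  haveI := S.2.isNilpotent
  have hSR : (S : Subgroup G) = R := by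
    refine le_antisymm ?_ hS
    by_contra hle
    obtain ⟨x, hxN, hxR⟩ := SetLike.exists_of_lt (Group.normalizerCondition_of_isNilpotent
      (R.subgroupOf (S : Subgroup G)) (lt_top_iff_ne_top.2 fun e => hle (Subgroup.subgroupOf_eq_top.1 e)))
    have hxn : ∀ y ∈ R, (x : G) * y * (x : G)⁻¹ ∈ R := fun y hy =>
      (Subgroup.mem_normalizer_iff.1 hxN ⟨y, hS hy⟩).1 hy
    have hxN' : (x : G) ∈ Subgroup.normalizer (R : Set G) := Subgroup.mem_normalizer_fintype hxn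
    have hxn' : ∀ y ∈ R, (x : G)⁻¹ * y * (x : G) ∈ R := fun y hy => by
      have := (Subgroup.mem_normalizer_iff.1 (inv_mem hxN') y).1 hy
      rwa [inv_inv] at this
    set B : Subgroup G := C.D.map (MulAut.conj (x : G)).toMonoidHom
    have hmB : ∀ b, b ∈ B ↔ ∃ d ∈ C.D, (x : G) * d * (x : G)⁻¹ = b := fun b => Iff.rfl
    have hBR : ∀ b ∈ B, b ∈ R := by
      intro b hb
      obtain ⟨d, hd, rfl⟩ := (hmB b).1 hb
      exact hxn d (hQR (F.DQ hd))
    have hBsq : ∀ b ∈ B, b * b = 1 := by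
      intro b hb
      obtain ⟨d, hd, rfl⟩ := (hmB b).1 hb
      rw [show (x : G) * d * (x : G)⁻¹ * ((x : G) * d * (x : G)⁻¹) = x * (d * d) * (x : G)⁻¹ by group,
        C.sqD d hd, mul_one, mul_inv_cancel]
    have hBn : ∀ g ∈ R, ∀ b ∈ B, g * b * g⁻¹ ∈ B := by
      intro g hg b hb
      obtain ⟨d, hd, rfl⟩ := (hmB b).1 hb
      refine (hmB _).2 ⟨_, F.normD htD ⟨_, hRN (hxn' g hg)⟩ hd, ?_⟩
      show (x : G) * ((x : G)⁻¹ * g * x * d * ((x : G)⁻¹ * g * x)⁻¹) * (x : G)⁻¹ = _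
      group
    have hBQ : B ≤ Q := by
      intro b hb
      refine hCD b (hBR b hb) fun d hd => ?_
      obtain ⟨r, hr, hrd⟩ := F.tw.exists_sqrt hnf hm (d := ⟨d, F.DQ hd⟩) hd
      set bn : NQ := ⟨b, hRN (hBR b hb)⟩
      set e : Q := cj Q bn r * r⁻¹
      have heR : e ∈ F.tw.R := mul_mem (hRinv bn r hr) (inv_mem hr)
      have heB : (e : G) ∈ B := by
        have h1 := B.mul_mem hb (hBn (r : G) (hQR r.2) b⁻¹ (B.inv_mem hb))
        convert h1 using 1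
        show b * (r : G) * b⁻¹ * (r : G)⁻¹ = b * ((r : G) * b⁻¹ * (r : G)⁻¹)
        group
      have heD : e ∈ F.tw.D := F.tw.R_inv_D hm heR (Subtype.ext (hBsq _ heB))
      have h3 : cj Q bn (r * r) = r * r := by
        have he' : cj Q bn r = e * r := (inv_mul_cancel_right _ _).symm
        rw [map_mul, he']
        calc e * r * (e * r) = e * (r * e) * r := by group
          _ = e * e * (r * r) := by rw [F.tw.comm_left r heD]; group
          _ = r * r := by rw [F.tw.sqD e heD, one_mul]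
      rw [hrd] at h3
      exact mul_inv_eq_iff_eq_mul.1 (congrArg Subtype.val h3)
    have hBD : B = C.D := by
      have hcard : Nat.card B = Nat.card C.D := Subgroup.card_map_of_injective (MulEquiv.injective _)
      by_cases hall : ∀ b ∈ B, b ∈ C.D
      · exact Subgroup.eq_of_le_of_card_ge hall hcard.ge
      push Not at hall
      obtain ⟨b, hb, hbD⟩ := hall
      haveI : (B.subgroupOf Q).Normal := ⟨fun y hy g => hBn g (hQR g.2) y hy⟩
      have hle : C.D ≤ B := fun d hd => F.tw.normal_elem hnf hm (B.subgroupOf Q)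
        (fun y hy => Subtype.ext (hBsq _ hy)) (b := ⟨b, hBQ hb⟩) hb hbD (show (⟨d, F.DQ hd⟩ : Q) ∈ F.tw.D from hd)
      exact (Subgroup.eq_of_le_of_card_ge hle hcard.le).symm
    have hxD : ∀ d ∈ C.D, (x : G) * d * (x : G)⁻¹ ∈ C.D := fun d hd => hBD ▸ (hmB _).2 ⟨d, hd, rfl⟩
    have hxD' : ∀ d ∈ C.D, (x : G)⁻¹ * d * (x : G) ∈ C.D := fun d hd => by
      obtain ⟨d', hd', e⟩ := (hmB d).1 (hBD.symm ▸ hd)
      rw [← e]
      simpa [mul_assoc] using hd'
    have hxQ : (x : G) ∈ NQ := Subgroup.mem_normalizer_fintype fun y hy => by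
      refine hCD _ (hxn y (hQR hy)) fun d hd => ?_
      have h1 := F.le y hy _ (hxD' d hd)
      calc (x : G) * y * (x : G)⁻¹ * d = x * (y * ((x : G)⁻¹ * d * x)) * (x : G)⁻¹ := by group
        _ = d * (x * y * (x : G)⁻¹) := by rw [h1]; group
    set P : Subgroup G := Subgroup.zpowers (x : G) ⊔ R
    have hP : IsPGroup 2 P := S.2.to_le (sup_le (Subgroup.zpowers_le.2 x.2) hS)
    have hlt : R < P := lt_of_le_of_ne le_sup_right fun e =>
      hxR (show (x : G) ∈ R from e ▸ Subgroup.mem_sup_left (Subgroup.mem_zpowers _))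
    exact hlt.ne (Subgroup.eq_of_le_of_card_ge hlt.le
      (hmax P hP (sup_le (Subgroup.zpowers_le.2 hxQ) hRN)))
  obtain ⟨v, hvM, hv, -⟩ := exists_extremal h2 S (hMR.trans hS) (by rw [hMcard, hSR]) C.tsq (c := 0) (by simp)
  by_cases hvQ : v ∈ Q
  · exact C.notMem_Z F.toFit hZ (hMQ v hvM hvQ) hv
  have hvR := hMR hvM
  obtain ⟨g, hg⟩ := isConj_iff.1 hv
  have hv2 : v * v = 1 := by
    rw [← hg, show g * C.t * g⁻¹ * (g * C.t * g⁻¹) = g * (C.t * C.t) * g⁻¹ by group, C.tsq, mul_one, mul_inv_cancel]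
  obtain ⟨d, hd, hdv⟩ : ∃ d ∈ C.D, v * d ≠ d * v := by
    by_contra hc
    push Not at hc
    exact hvQ (hCD v hvR hc)
  obtain ⟨r, hr, hrd⟩ := F.tw.exists_sqrt hnf hm (d := ⟨d, F.DQ hd⟩) hd
  set vn : NQ := ⟨v, hRN hvR⟩
  set y : Q := r * cj Q vn r
  have hcomm : r * cj Q vn r = cj Q vn r * r := F.tw.R_comm hnf hr (hRinv vn r hr)
  have hinv : cj Q vn (cj Q vn r) = r := Subtype.ext (by
    show v * (v * (r : G) * v⁻¹) * v⁻¹ = r
    rw [inv_eq_of_mul_eq_one_right hv2, ← mul_assoc, ← mul_assoc, hv2, one_mul, mul_assoc, hv2, mul_one])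
  have hvy : cj Q vn y = y := by rw [map_mul, hinv, ← hcomm]
  have hy2 : y * y = (⟨d, F.DQ hd⟩ : Q) * cj Q vn ⟨d, F.DQ hd⟩ := by
    show r * cj Q vn r * (r * cj Q vn r) = _
    rw [mul_assoc, ← mul_assoc (cj Q vn r), ← hcomm, mul_assoc r (cj Q vn r), ← mul_assoc r r, hrd, ← map_mul, hrd]
  have hy1 : y * y ≠ 1 := by
    rw [hy2]
    intro e
    have h1 := mul_eq_one_iff_eq_inv.1 e
    have h1' : d = (v * d * v⁻¹)⁻¹ := congrArg Subtype.val h1
    have hd' := C.sqD _ (F.normD htD vn hd)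
    rw [inv_eq_of_mul_eq_one_right hd'] at h1'
    exact hdv (mul_inv_eq_iff_eq_mul.1 h1'.symm)
  obtain ⟨c, -, hcT⟩ := C.full.max ((Subgroup.zpowers (y : G)).map (MulAut.conj g⁻¹).toMonoidHom)
    ((F.pg.to_le (Subgroup.zpowers_le.2 y.2)).map _) (by
      rintro _ ⟨z, hz, rfl⟩
      have hvy' : v * (y : G) = (y : G) * v := mul_inv_eq_iff_eq_mul.1 (congrArg Subtype.val hvy)
      obtain ⟨i, rfl⟩ := hz
      have h1 : (y : G) ^ i * v = v * (y : G) ^ i := ((Commute.zpow_left (hvy'.symm : Commute (y : G) v)) i).eq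
      show g⁻¹ * (y : G) ^ i * g⁻¹⁻¹ * C.t = C.t * (g⁻¹ * (y : G) ^ i * g⁻¹⁻¹)
      calc _ = g⁻¹ * ((y : G) ^ i * (g * C.t * g⁻¹)) * g := by group
        _ = _ := by rw [hg, h1, ← hg]; group)
  have h4 := C.sqT (hcT _ ⟨(y : G), Subgroup.mem_zpowers _, rfl⟩)
  apply hy1
  apply Subtype.ext
  have h5 : c * (g⁻¹ * ((y : G) * y) * g) * c⁻¹ = 1 := by
    rw [← h4]
    show _ = c * (g⁻¹ * (y : G) * g⁻¹⁻¹) * c⁻¹ * (c * (g⁻¹ * (y : G) * g⁻¹⁻¹) * c⁻¹)
    group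
  rw [conj_eq_one_iff] at h5
  show (y : G) * y = 1
  have h6 := congrArg (fun z => g * z * g⁻¹) h5
  simpa [mul_assoc] using h6

end ECfg

end Cfsg.Agent.TwoXDih
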