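import Cfsg.Agent.Lib.TwoXDih.Elem
import Mathlib.LinearAlgebra.Dual.Lemmas
import Mathlib.Data.ZMod.Basic
import Mathlib.LinearAlgebra.FreeModule.Finite.Matrix

/-!
# An elementary Sylow subgroup whose involutions are all conjugate has order at most eight
-/

set_option autoImplicit false
set_option linter.unusedSectionVars false
set_option linter.style.haveILetI false
set_option linter.unusedVariables false

namespace Cfsg.Agent.TwoXDih

open Subgroup

universe u

/-- An elementary abelian 2-group has at most as many functionals as elements. -/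
theorem card_functional_le {T : Type u} [CommGroup T] [Finite T] (h2 : ∀ x : T, x * x = 1) :
    Nat.card {f : T → ZMod 2 // ∀ a b, f (a * b) = f a + f b} ≤ Nat.card T := by
  classical
  letI : Module (ZMod 2) (Additive T) := AddCommGroup.zmodModule fun x => by
    rw [two_nsmul]; exact congrArg Additive.ofMul (h2 x.toMul)
  haveI : Fact (Nat.Prime 2) := ⟨Nat.prime_two⟩
  haveI : Module.Finite (ZMod 2) (Additive T) := Module.Finite.of_finite
  have hdual : Nat.card (Module.Dual (ZMod 2) (Additive T)) = Nat.card (Additive T) :=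
    Nat.card_congr ((Module.finBasis (ZMod 2) (Additive T)).toDualEquiv.toEquiv).symm
  haveI : Finite (Module.Dual (ZMod 2) (Additive T)) := Nat.finite_of_card_ne_zero (by
    rw [hdual]; exact Nat.card_pos.ne')
  refine le_of_le_of_eq ?_ (hdual.trans (Nat.card_congr Additive.toMul))
  refine Nat.card_le_card_of_injective (fun f => (AddMonoidHom.toZModLinearMap 2
    (AddMonoidHom.mk' (fun x : Additive T => f.1 x.toMul) fun a b => f.2 a.toMul b.toMul))) ?_
  intro f g e
  refine Subtype.ext (funext fun x => ?_)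
  exact LinearMap.congr_fun e (Additive.ofMul x)

theorem four_mul_sq_lt : ∀ {q : ℕ}, 8 ≤ q → 4 * q * q < 2 ^ (2 * q - 2) := by
  intro q hq
  induction q, hq using Nat.le_induction with
  | base => norm_num
  | succ n hn ih =>
    rw [show 2 * (n + 1) - 2 = (2 * n - 2) + 2 by omega, pow_add]
    nlinarith

namespace ECfg

variable {G : Type u} [Group G] [Finite G] (C : ECfg G)

/-- `r` lies in the complement belonging to `p`. -/
def InD (p r : G) : Prop :=
  ∃ g ∈ Subgroup.normalizer (C.T : Set G), g * C.t * g⁻¹ = p ∧ g⁻¹ * r * g ∈ C.D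

theorem inD_iff {p r g : G} (hg : g ∈ Subgroup.normalizer (C.T : Set G)) (hgt : g * C.t * g⁻¹ = p) :
    C.InD p r ↔ g⁻¹ * r * g ∈ C.D := by
  refine ⟨fun ⟨h, hh, hht, hr⟩ => ?_, fun hr => ⟨g, hg, hgt, hr⟩⟩
  have hc : (g⁻¹ * h) * C.t = C.t * (g⁻¹ * h) := by
    calc (g⁻¹ * h) * C.t = g⁻¹ * (h * C.t * h⁻¹) * h := by group
      _ = g⁻¹ * (g * C.t * g⁻¹) * h := by rw [hht, ← hgt]
      _ = _ := by group
  have := C.nD _ hc (fun x hx => (Subgroup.mem_normalizer_iff.1 (mul_mem (inv_mem hg) hh) x).1 hx) _ hr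
  rwa [show g⁻¹ * h * (h⁻¹ * r * h) * (g⁻¹ * h)⁻¹ = g⁻¹ * r * g by group] at this

theorem inD_conj {g : G} (hg : g ∈ Subgroup.normalizer (C.T : Set G)) {p r : G} (h : C.InD p r) :
    C.InD (g * p * g⁻¹) (g * r * g⁻¹) := by
  obtain ⟨h, hh, rfl, hr⟩ := h
  refine ⟨g * h, mul_mem hg hh, by group, ?_⟩
  rwa [show (g * h)⁻¹ * (g * r * g⁻¹) * (g * h) = h⁻¹ * r * h by group]

theorem inD_t {r : G} : C.InD C.t r ↔ r ∈ C.D := by
  rw [C.inD_iff (one_mem _) (by group)]
  simp

theorem mul_mem_of_notMem {x y : G} (hx : x ∈ C.T) (hy : y ∈ C.T) (hxD : x ∉ C.D) (hyD : y ∉ C.D) :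
    x * y ∈ C.D := by
  have a := C.D.mul_mem (((C.memT x).1 hx).resolve_left hxD) (((C.memT y).1 hy).resolve_left hyD)
  have e : C.t * x * (C.t * y) = x * y := by
    calc C.t * x * (C.t * y) = C.t * (x * C.t) * y := by group
      _ = C.t * C.t * x * y := by rw [C.full.cent x hx]; group
      _ = x * y := by rw [C.tsq, one_mul]
  rwa [e] at a

variable (hO : ∀ u ∈ C.T, u ≠ 1 → u ∈ C.O)

include hO

theorem exists_rep_T {p : G} (hp : p ∈ C.T) (hp1 : p ≠ 1) :
    ∃ g ∈ Subgroup.normalizer (C.T : Set G), g * C.t * g⁻¹ = p := hO p hp hp1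

theorem inD_kpow {d e : G} (h : C.InD d C.t) (i : ℕ) : C.InD (C.k ^ i * d * (C.k ^ i)⁻¹) C.t := by
  have := C.inD_conj (Subgroup.pow_mem _ C.kN i) h
  rwa [C.kpow_t] at this

/-- The relation is antisymmetric at `t`. -/
theorem anti : (∀ d ∈ C.D, d ≠ 1 → ¬ C.InD d C.t) ∧ ∀ e ∈ C.D, e ≠ 1 → C.InD (C.t * e) C.t := by
  classical
  obtain ⟨d0, hd0, hd01⟩ : ∃ d ∈ C.D, d ≠ 1 := by
    by_contra hc
    push Not at hc
    have : C.D = ⊥ := (Subgroup.eq_bot_iff_forall _).2 hc
    have := C.four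
    rw [‹C.D = ⊥›, Subgroup.card_bot] at this
    omega
  have ht : C.t * d0 ∈ C.T := C.T.mul_mem C.tT (C.DT hd0)
  have ht1 : C.t * d0 ≠ 1 := fun e => C.tnot (by
    rw [eq_inv_of_mul_eq_one_left e]; exact C.D.inv_mem hd0)
  -- no symmetric pair
  have key : ∀ d ∈ C.D, d ≠ 1 → ∀ e ∈ C.D, e ≠ 1 → C.InD d C.t → ¬ C.InD (C.t * e) C.t := by
    intro d hd hd1 e he he1 hdt het
    obtain ⟨g, hg, hgt⟩ := C.exists_rep_T hO (C.T.mul_mem C.tT (C.DT he))
      (fun h => C.tnot (by rw [eq_inv_of_mul_eq_one_left h]; exact C.D.inv_mem he))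
    have hd'' : g⁻¹ * C.t * g ∈ C.D := (C.inD_iff hg hgt).1 het
    have hd''1 : g⁻¹ * C.t * g ≠ 1 := fun h => C.tne (by
      have := congrArg (fun y => g * y * g⁻¹) h
      simpa [mul_assoc] using this)
    obtain ⟨i, hi⟩ := C.trans d hd _ hd'' hd1 hd''1
    have h1 := C.inD_kpow hO (e := d) hdt i
    rw [hi] at h1
    have h2 := C.inD_conj hg h1
    rw [show g * (g⁻¹ * C.t * g) * g⁻¹ = C.t by group, hgt, C.inD_t] at h2
    exact C.tnot (by simpa using C.D.mul_mem h2 (C.D.inv_mem he))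
  have key' : ∀ d ∈ C.D, d ≠ 1 → ∀ e ∈ C.D, e ≠ 1 → ¬ C.InD (C.t * e) C.t → C.InD d C.t → False := by
    intro d hd hd1 e he he1 het hdt
    -- the symmetric bilinear case
    have hsym : ∀ e' ∈ C.D, e' ≠ 1 → ¬ C.InD (C.t * e') C.t := fun e' he' he'1 => key d hd hd1 e' he' he'1 hdt
    have hte := hsym d hd hd1
    obtain ⟨g, hg, hgt⟩ := C.exists_rep_T hO (C.T.mul_mem C.tT (C.DT hd))
      (fun h => C.tnot (by rw [eq_inv_of_mul_eq_one_left h]; exact C.D.inv_mem hd))
    obtain ⟨g', hg', hgd⟩ := C.exists_rep_T hO (C.DT hd) hd1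
    -- `d` does not lie in the complement of `t d`
    have h1 : g⁻¹ * C.t * g ∉ C.D := fun h => hte ((C.inD_iff hg hgt).2 h)
    have h2 : g⁻¹ * d * g ∈ C.D := by
      by_contra h
      have hmem : ∀ y ∈ C.T, g⁻¹ * y * g ∈ C.T := fun y hy => by
        have := (Subgroup.mem_normalizer_iff.1 (inv_mem hg) y).1 hy
        rwa [inv_inv] at this
      have a3 := C.mul_mem_of_notMem (hmem _ C.tT) (hmem _ (C.DT hd)) h1 h
      rw [show g⁻¹ * C.t * g * (g⁻¹ * d * g) = g⁻¹ * (C.t * d) * g by group, ← hgt,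
        show g⁻¹ * (g * C.t * g⁻¹) * g = C.t by group] at a3
      exact C.tnot a3
    have h3 : C.InD (C.t * d) d := (C.inD_iff hg hgt).2 h2
    have h4 := C.inD_conj (inv_mem hg') (p := d) (r := C.t) hdt
    rw [show g'⁻¹ * d * g'⁻¹⁻¹ = C.t by rw [← hgd]; group, C.inD_t, inv_inv] at h4
    have h5 := C.inD_conj (inv_mem hg') h3
    rw [inv_inv, show g'⁻¹ * d * g' = C.t by rw [← hgd]; group,
      show g'⁻¹ * (C.t * d) * g' = (g'⁻¹ * C.t * g') * C.t by rw [← hgd]; group] at h5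
    have h6 : g'⁻¹ * C.t * g' * C.t = C.t * (g'⁻¹ * C.t * g') := C.commD _ h4
    rw [h6] at h5
    refine hsym _ h4 (fun h => C.tne ?_) h5
    have := congrArg (fun y => g' * y * g'⁻¹) h
    simpa [mul_assoc] using this
  have hD : ∀ d ∈ C.D, d ≠ 1 → ¬ C.InD d C.t := fun d hd hd1 hdt =>
    key' d hd hd1 d hd hd1 (key d hd hd1 d hd hd1 hdt) hdt
  refine ⟨hD, fun e he he1 => ?_⟩
  by_contra het
  obtain ⟨g, hg, hgt⟩ := C.exists_rep_T hO (C.DT hd0) hd01
  have h1 : g⁻¹ * C.t * g ∉ C.D := fun h => hD d0 hd0 hd01 ((C.inD_iff hg hgt).2 h)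
  have hm : g⁻¹ * C.t * g ∈ C.T := by
    have := (Subgroup.mem_normalizer_iff.1 (inv_mem hg) C.t).1 C.tT
    rwa [inv_inv] at this
  have hf := ((C.memT _).1 hm).resolve_left h1
  have hf1 : C.t * (g⁻¹ * C.t * g) ≠ 1 := fun h => by
    have e1 := eq_inv_of_mul_eq_one_right h
    rw [inv_eq_of_mul_eq_one_right C.tsq] at e1
    apply C.tnot
    rw [show C.t = d0 by rw [← hgt]; conv_lhs => rw [show C.t = g * (g⁻¹ * C.t * g) * g⁻¹ by group, e1]]
    exact hd0
  obtain ⟨i, hi⟩ := C.trans e he _ hf he1 hf1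
  have hnot : ¬ C.InD (g⁻¹ * C.t * g) C.t := by
    intro h
    apply het
    obtain ⟨j, hj⟩ := C.trans _ hf e he hf1 he1
    have h' := C.inD_conj (Subgroup.pow_mem _ C.kN j) h
    have e2 : C.k ^ j * (g⁻¹ * C.t * g) * (C.k ^ j)⁻¹ = C.t * e := by
      have e3 : g⁻¹ * C.t * g = C.t * (C.t * (g⁻¹ * C.t * g)) := by rw [← mul_assoc, C.tsq, one_mul]
      calc C.k ^ j * (g⁻¹ * C.t * g) * (C.k ^ j)⁻¹
          = C.k ^ j * (C.t * (C.t * (g⁻¹ * C.t * g))) * (C.k ^ j)⁻¹ := by rw [← e3]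
        _ = C.k ^ j * C.t * (C.k ^ j)⁻¹ * (C.k ^ j * (C.t * (g⁻¹ * C.t * g)) * (C.k ^ j)⁻¹) := by group
        _ = C.t * e := by rw [C.kpow_t, hj]
    rwa [C.kpow_t, e2] at h'
  apply hnot
  have h7 : C.InD C.t d0 := C.inD_t.2 hd0
  have := C.inD_conj (inv_mem hg) h7
  rwa [inv_inv, show g⁻¹ * d0 * g = C.t by rw [← hgt]; group] at this

theorem card_le_four : Nat.card C.D ≤ 4 := by
  classical
  by_contra hq
  have hq8 : 8 ≤ Nat.card C.D := by
    haveI : Fact (Nat.Prime 2) := ⟨Nat.prime_two⟩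
    obtain ⟨n, hn⟩ := IsPGroup.iff_card.1 (fun d : C.D => ⟨1, Subtype.ext (by
      show ((d : G)) ^ (2 ^ 1) = 1
      rw [pow_one, pow_two, C.sqD _ d.2])⟩ : IsPGroup 2 C.D)
    rw [hn] at hq ⊢
    calc 8 = 2 ^ 3 := by norm_num
      _ ≤ _ := Nat.pow_le_pow_right (by norm_num) (by
        by_contra h
        exact hq (calc 2 ^ n ≤ 2 ^ 2 := Nat.pow_le_pow_right (by norm_num) (by omega)
          _ = 4 := by norm_num))
  obtain ⟨hD, htD⟩ := C.anti hO
  letI : CommGroup C.T := { (inferInstance : Group C.T) with mul_comm := fun a b => Subtype.ext (C.commT a.2 b.2) }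
  set φ : G → C.T → ZMod 2 := fun p r => if C.InD p r then 0 else 1 with hφ
  have hadd : ∀ p ∈ C.T, p ≠ 1 → ∀ a b : C.T, φ p (a * b) = φ p a + φ p b := by
    intro p hp hp1 a b
    obtain ⟨g, hg, hgt⟩ := C.exists_rep_T hO hp hp1
    have hconj : ∀ x : C.T, g⁻¹ * (x : G) * g ∈ C.T := fun x => by
      have := (Subgroup.mem_normalizer_iff.1 (inv_mem hg) (x : G)).1 x.2
      rwa [inv_inv] at this
    have e : g⁻¹ * ((a * b : C.T) : G) * g = g⁻¹ * (a : G) * g * (g⁻¹ * (b : G) * g) := by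
      rw [Subgroup.coe_mul]; group
    simp only [hφ, C.inD_iff hg hgt]
    rw [e]
    by_cases ha : g⁻¹ * (a : G) * g ∈ C.D
    · by_cases hb : g⁻¹ * (b : G) * g ∈ C.D
      · rw [if_pos ha, if_pos hb, if_pos (C.D.mul_mem ha hb), add_zero]
      · rw [if_pos ha, if_neg hb, if_neg fun h => hb ((Subgroup.mul_mem_cancel_left _ ha).1 h), zero_add]
    · by_cases hb : g⁻¹ * (b : G) * g ∈ C.D
      · rw [if_neg ha, if_pos hb, if_neg fun h => ha ((Subgroup.mul_mem_cancel_right _ hb).1 h), add_zero]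
      · rw [if_neg ha, if_neg hb, if_pos]
        · decide
        exact C.mul_mem_of_notMem (hconj a) (hconj b) ha hb
  have hone : ∀ p r : C.T, p ≠ 1 → r ≠ 1 → φ p r + φ r p = if p = r then 0 else 1 := by
    intro p r hp hr
    obtain ⟨g, hg, hgt⟩ := C.exists_rep_T hO p.2 (fun h => hp (Subtype.ext h))
    have hrT : g⁻¹ * (r : G) * g ∈ C.T := by
      have := (Subgroup.mem_normalizer_iff.1 (inv_mem hg) (r : G)).1 r.2
      rwa [inv_inv] at this
    have h2 : C.InD r p ↔ C.InD (g⁻¹ * (r : G) * g) C.t := by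
      constructor
      · intro h
        have := C.inD_conj (inv_mem hg) h
        rwa [inv_inv, show g⁻¹ * (p : G) * g = C.t by rw [← hgt]; group] at this
      · intro h
        have := C.inD_conj hg h
        rwa [hgt, show g * (g⁻¹ * (r : G) * g) * g⁻¹ = r by group] at this
    simp only [hφ]
    by_cases hpr : p = r
    · subst hpr
      rw [if_pos rfl]
      by_cases h : C.InD p p <;> simp [h]
      decide
    rw [if_neg hpr, C.inD_iff hg hgt, if_congr h2 rfl rfl]
    have hr1 : g⁻¹ * (r : G) * g ≠ 1 := fun h => hr (Subtype.ext (by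
      show (r : G) = 1
      rw [show (r : G) = g * (g⁻¹ * (r : G) * g) * g⁻¹ by group, h]; group))
    rcases (C.memT _).1 hrT with h | h
    · rw [if_pos h, if_neg (hD _ h hr1), zero_add]
    · have hn : g⁻¹ * (r : G) * g ∉ C.D := fun h' => C.tnot ((Subgroup.mul_mem_cancel_right _ h').1 h)
      have h1 : C.t * (g⁻¹ * (r : G) * g) ≠ 1 := fun e => hpr (Subtype.ext (by
        show (p : G) = r
        rw [← hgt]
        have e1 := eq_inv_of_mul_eq_one_right e
        rw [inv_eq_of_mul_eq_one_right C.tsq] at e1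
        rw [← e1]; group))
      have := htD _ h h1
      rw [← mul_assoc, C.tsq, one_mul] at this
      rw [if_neg hn, if_pos this, add_zero]
  haveI : Fintype C.T := Fintype.ofFinite _
  set I : Finset C.T := Finset.univ.erase 1 with hI
  obtain ⟨p0, hp0⟩ : ∃ p0, p0 ∈ I := ⟨⟨C.t, C.tT⟩, by
    rw [hI, Finset.mem_erase]; exact ⟨fun h => C.tne (congrArg Subtype.val h), Finset.mem_univ _⟩⟩
  have hI1 : ∀ {x : C.T}, x ∈ I → x ≠ 1 := fun hx => (Finset.mem_erase.1 hx).1
  have hcardI : (I.erase p0).card = 2 * Nat.card C.D - 2 := by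
    rw [Finset.card_erase_of_mem hp0, hI, Finset.card_erase_of_mem (Finset.mem_univ _), Finset.card_univ,
      ← Nat.card_eq_fintype_card, C.card_T]
    omega
  let Fn := {f : C.T → ZMod 2 // ∀ a b, f (a * b) = f a + f b}
  let Φ : {B // B ∈ (I.erase p0).powerset} → C.T × Fn := fun B =>
    (∏ r ∈ B.1, r * p0, ⟨fun p => ∑ r ∈ B.1, (φ r p + φ p0 p), fun a b => by
      rw [← Finset.sum_add_distrib]
      refine Finset.sum_congr rfl fun r hr => ?_
      have hrI := Finset.mem_of_mem_erase (Finset.mem_powerset.1 B.2 hr)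
      rw [hadd r r.2 (fun h => hI1 hrI (Subtype.ext h)) a b, hadd p0 p0.2 (fun h => hI1 hp0 (Subtype.ext h)) a b]
      ring⟩)
  have hval : ∀ B : {B // B ∈ (I.erase p0).powerset}, ∀ p : C.T, p ∈ I.erase p0 →
      φ p (Φ B).1 + (Φ B).2.1 p = if p ∈ B.1 then 1 else 0 := by
    intro B p hp
    have hp' := Finset.mem_of_mem_erase hp
    have hprod : ∀ s : Finset C.T, φ p ↑(∏ r ∈ s, r * p0) = ∑ r ∈ s, (φ p r + φ p p0) := by
      intro s
      induction s using Finset.induction_on with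
      | empty =>
        have h1 := hadd p p.2 (fun h => hI1 hp' (Subtype.ext h)) 1 1
        rw [one_mul] at h1
        rw [Finset.prod_empty, Finset.sum_empty]
        exact left_eq_add.1 h1
      | insert a s ha ih =>
        rw [Finset.prod_insert ha, Finset.sum_insert ha, hadd p p.2 (fun h => hI1 hp' (Subtype.ext h)),
          hadd p p.2 (fun h => hI1 hp' (Subtype.ext h)), ih]
    show φ p ↑(∏ r ∈ B.1, r * p0) + ∑ r ∈ B.1, (φ r p + φ p0 p) = _
    rw [hprod, ← Finset.sum_add_distrib]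
    have : ∀ r ∈ B.1, φ p r + φ p p0 + (φ r p + φ p0 p) = if p = r then 1 else 0 := fun r hr => by
      have hr' := Finset.mem_of_mem_erase (Finset.mem_powerset.1 B.2 hr)
      calc _ = (φ p r + φ r p) + (φ p p0 + φ p0 p) := by ring
        _ = _ := by
          rw [hone p r (hI1 hp') (hI1 hr'), hone p p0 (hI1 hp') (hI1 hp0),
            if_neg (Finset.ne_of_mem_erase hp)]
          split_ifs <;> decide
    rw [Finset.sum_congr rfl this, Finset.sum_ite_eq]
  haveI : Finite Fn := Subtype.finite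
  have hinj : Function.Injective Φ := by
    intro A B e
    refine Subtype.ext (Finset.ext fun p => ?_)
    by_cases hp : p ∈ I.erase p0
    · have h1 := hval A p hp
      rw [e, hval B p hp] at h1
      by_cases hA : p ∈ A.1 <;> by_cases hB : p ∈ B.1 <;> simp [hA, hB] at h1 ⊢
    · exact iff_of_false (fun h => hp (Finset.mem_powerset.1 A.2 h)) (fun h => hp (Finset.mem_powerset.1 B.2 h))
  have h1 := Nat.card_le_card_of_injective Φ hinj
  rw [Nat.card_prod, Nat.card_eq_fintype_card, Fintype.card_coe, Finset.card_powerset, hcardI] at h1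
  have h2 : Nat.card Fn ≤ Nat.card C.T := card_functional_le fun x => Subtype.ext (C.sqT x.2)
  have h3 := four_mul_sq_lt hq8
  have h4 : Nat.card C.T * Nat.card Fn ≤ 4 * Nat.card C.D * Nat.card C.D := by
    refine (Nat.mul_le_mul_left _ h2).trans ?_
    rw [C.card_T]
    exact le_of_eq (by ring)
  omega

end ECfg

end Cfsg.Agent.TwoXDih
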