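import Cfsg.Agent.Lib.TwoXDih.Local
import Mathlib.GroupTheory.Perm.Basic
import Mathlib.Data.Fintype.Perm

/-!
# The normalizer of the invariant Sylow subgroup of `C(D)`
-/

set_option autoImplicit false
set_option linter.unusedSectionVars false
set_option linter.style.haveILetI false
set_option linter.unusedVariables false

namespace Cfsg.Agent.TwoXDih

open Subgroup

universe u

namespace Tw

variable {Q : Type u} [Group Q] [Finite Q] (h : Tw Q)

theorem centre_eq (hnf : ¬ h.Flat) : Subgroup.center Q = h.D := le_antisymm (h.centre_le hnf) h.D_central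

/-- `D` is invariant under automorphisms keeping `t`'s class away from `D`. -/
theorem D_inv (o : MulAut Q) (hout : h.Flat → ∀ d ∈ h.D, h.t * o d ∉ h.D) {d : Q} (hd : d ∈ h.D) :
    o d ∈ h.D := by
  by_cases hf : h.Flat
  · exact ((h.cent _).1 (hf (o d))).resolve_right (hout hf d hd)
  · rw [← h.centre_eq hf] at hd ⊢
    rw [Subgroup.mem_center_iff] at hd ⊢
    intro x
    have := congrArg o (hd (o.symm x))
    simpa using this

end Tw

namespace Loc.Sys

variable {G : Type u} [Group G] [Finite G] {L : Loc G} {Q : Subgroup G} {k : G}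

theorem normD (F : L.Sys Q k) (tcls : ∀ d ∈ L.D, IsConj L.t (L.t * d))
    (n : Subgroup.normalizer (Q : Set G)) {d : G} (hd : d ∈ L.D) : (n : G) * d * (n : G)⁻¹ ∈ L.D := by
  refine F.tw.D_inv (cj Q n) ?_ (d := ⟨d, F.DQ hd⟩) hd
  intro _ e he hte
  have hte' : L.t * ((n : G) * e * (n : G)⁻¹) ∈ L.D := hte
  have h1 := tcls _ hte'
  rw [← mul_assoc, L.tsq, one_mul] at h1
  refine L.ncls _ he (h1.trans (isConj_iff.2 ⟨(n : G)⁻¹, ?_⟩))
  show _ = (e : G)
  group

/-- The centralizer of `D` in the normalizer of `Q`. -/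
def NC (L : Loc G) (Q : Subgroup G) : Subgroup (Subgroup.normalizer (Q : Set G)) :=
  (centralizer (L.D : Set G)).subgroupOf _

theorem mem_NC {n : Subgroup.normalizer (Q : Set G)} : n ∈ NC L Q ↔ ∀ d ∈ L.D, (n : G) * d = d * n := by
  rw [NC, mem_subgroupOf, mem_centralizer_iff]
  exact ⟨fun h d hd => (h d hd).symm, fun h d hd => (h d hd).symm⟩

theorem normal_NC (F : L.Sys Q k) (tcls : ∀ d ∈ L.D, IsConj L.t (L.t * d)) : (NC L Q).Normal :=
  ⟨fun c hc g => by
    rw [mem_NC] at hc ⊢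
    intro d hd
    have he := F.normD tcls g⁻¹ hd
    rw [Subgroup.coe_inv, inv_inv] at he
    calc ((g * c * g⁻¹ : Subgroup.normalizer (Q : Set G)) : G) * d
        = (g : G) * ((c : G) * ((g : G)⁻¹ * d * g)) * (g : G)⁻¹ := by push_cast; group
      _ = d * ((g * c * g⁻¹ : Subgroup.normalizer (Q : Set G)) : G) := by rw [hc _ he]; push_cast; group⟩

/-- The stabiliser of the coset of `t`. -/
def H (F : L.Sys Q k) : Subgroup (Subgroup.normalizer (Q : Set G)) where
  carrier := {n | F.tw.t * cj Q n F.tw.t ∈ sqs Q}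
  one_mem' := by
    show F.tw.t * cj Q 1 F.tw.t ∈ sqs Q
    rw [map_one, MulAut.one_apply, F.tw.tsq]; exact one_mem _
  mul_mem' := fun {a b} ha hb => by
    show F.tw.t * cj Q (a * b) F.tw.t ∈ sqs Q
    rw [map_mul, MulAut.mul_apply]
    have h1 := sqs_inv (cj Q a) hb
    rw [map_mul] at h1
    have h2 := mul_mem ha h1
    rwa [mul_assoc, ← mul_assoc (cj Q a F.tw.t), ← map_mul, F.tw.tsq, map_one, one_mul] at h2
  inv_mem' := fun {a} ha => by
    have h1 := sqs_inv (cj Q a⁻¹) ha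
    rw [map_mul, ← MulAut.mul_apply, ← map_mul, inv_mul_cancel, map_one, MulAut.one_apply] at h1
    have h2 := inv_mem h1
    rwa [mul_inv_rev, ← map_inv, F.tw.invt] at h2

theorem mem_H {F : L.Sys Q k} {n : Subgroup.normalizer (Q : Set G)} : n ∈ F.H ↔ F.cl n = 1 :=
  by
  unfold Fit.cl
  rw [QuotientGroup.eq_one_iff]
  rfl

/-- The coset set is a single coset or everything. -/
theorem dich (F : L.Sys Q k) {Z : Subgroup Q} (hZ : F.tw.IsZ Z) :
    F.H = ⊤ ∨ ∀ y ∈ Z.map (QuotientGroup.mk' (sqs Q)), ∃ n, F.cl n = y := by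
  by_cases h : ∀ n, F.cl n = 1
  · exact Or.inl (eq_top_iff.2 fun n _ => mem_H.2 (h n))
  · push Not at h
    obtain ⟨n, hn⟩ := h
    right
    intro y hy
    obtain ⟨m, -, hm⟩ := F.cl_full hZ ⊤ (fun _ _ => mem_top _) ⟨n, mem_top _, hn⟩ y hy
    exact ⟨m, hm⟩

theorem index_H (F : L.Sys Q k) {Z : Subgroup Q} (hZ : F.tw.IsZ Z)
    (hfull : ∀ y ∈ Z.map (QuotientGroup.mk' (sqs Q)), ∃ n, F.cl n = y) : F.H.index = Nat.card L.D := by
  choose pick hpick using fun y : Z.map (QuotientGroup.mk' (sqs Q)) => hfull y.1 y.2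
  rw [← F.tw_card, ← F.tw.card_quot hZ, Subgroup.index_eq_card]
  refine (Nat.card_congr (Equiv.ofBijective (fun y => (QuotientGroup.mk (pick y) :
    Subgroup.normalizer (Q : Set G) ⧸ F.H)) ⟨?_, ?_⟩)).symm
  · intro a b e
    rw [QuotientGroup.eq] at e
    apply Subtype.ext
    rw [← hpick a, ← hpick b]
    unfold Fit.cl
    rw [QuotientGroup.eq]
    have h1 := sqs_inv (cj Q (pick a)) (show F.tw.t * cj Q ((pick a)⁻¹ * pick b) F.tw.t ∈ sqs Q from e)
    rw [map_mul, ← MulAut.mul_apply, ← map_mul, mul_inv_cancel_left] at h1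
    have h2 : (cj Q (pick a) F.tw.t)⁻¹ = cj Q (pick a) F.tw.t := by rw [← map_inv, F.tw.invt]
    rwa [mul_inv_rev, mul_assoc, inv_mul_cancel_left, h2]
  · intro y
    obtain ⟨n, rfl⟩ := QuotientGroup.mk_surjective y
    exact ⟨⟨_, F.cl_mem hZ n⟩, QuotientGroup.eq.2 (F.cl_eq (hpick _))⟩

theorem Q_le_H (F : L.Sys Q k) : Q.subgroupOf _ ≤ F.H := by
  intro n hn
  show F.tw.t * cj Q n F.tw.t ∈ sqs Q
  rw [← QuotientGroup.eq_one_iff]
  have e : cj Q n F.tw.t = (⟨n, hn⟩ : Q) * F.tw.t * (⟨n, hn⟩ : Q)⁻¹ := rfl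
  rw [e]
  simp only [QuotientGroup.mk_mul, QuotientGroup.mk_inv]
  rw [mk_sqs_comm (QuotientGroup.mk (⟨(n : G), hn⟩ : Q)) (QuotientGroup.mk F.tw.t), mul_inv_cancel_right,
    ← QuotientGroup.mk_mul, F.tw.tsq]
  rfl

theorem Q_le_NC (F : L.Sys Q k) : Q.subgroupOf _ ≤ NC L Q := fun n hn => mem_NC.2 (F.le _ hn)

theorem card_Qsub (Q : Subgroup G) :
    Nat.card (Q.subgroupOf (Subgroup.normalizer (Q : Set G))) = Nat.card Q :=
  Nat.card_congr (Subgroup.subgroupOfEquivOfLe le_normalizer).toEquiv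

/-- No 2-subgroup of the centralizer is larger than `Q`. -/
theorem not_two_mul_dvd (F : L.Sys Q k) : ¬ 2 * Nat.card Q ∣ Nat.card (NC L Q) := by
  haveI : Fact (Nat.Prime 2) := ⟨Nat.prime_two⟩
  intro hd
  have hQ : IsPGroup 2 ((Q.subgroupOf _).subgroupOf (NC L Q)) := F.pg.of_injective
    ((Subgroup.subgroupOfEquivOfLe le_normalizer).toMonoidHom.comp (Subgroup.subgroupOfEquivOfLe F.Q_le_NC).toMonoidHom)
    ((Subgroup.subgroupOfEquivOfLe le_normalizer).injective.comp (Subgroup.subgroupOfEquivOfLe F.Q_le_NC).injective)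
  obtain ⟨R, hR⟩ := hQ.exists_le_sylow
  set R0 : Subgroup G := ((R : Subgroup (NC L Q)).map (NC L Q).subtype).map (Subgroup.normalizer (Q : Set G)).subtype
  have hle : R0 ≤ Q := F.max R0 ((R.2.map _).map _) (fun x hx => ⟨⟨x, le_normalizer hx⟩,
    ⟨⟨⟨x, le_normalizer hx⟩, F.Q_le_NC hx⟩, hR hx, rfl⟩, rfl⟩) (by
      rintro _ ⟨_, ⟨r, -, rfl⟩, rfl⟩
      exact mem_NC.1 r.2)
  have h1 := Subgroup.card_le_of_le hle
  rw [Subgroup.card_map_of_injective (Subgroup.subtype_injective _),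
    Subgroup.card_map_of_injective (Subgroup.subtype_injective _), Sylow.card_eq_multiplicity] at h1
  obtain ⟨c, hc⟩ := IsPGroup.iff_card.1 F.pg
  rw [hc] at h1 hd
  rw [← pow_succ'] at hd
  have := (Nat.prime_two.pow_dvd_iff_le_factorization Nat.card_pos.ne').1 hd
  have := (Nat.pow_le_pow_iff_right (le_refl 2)).1 h1
  omega

theorem NC_le_H (F : L.Sys Q k) (tcls : ∀ d ∈ L.D, IsConj L.t (L.t * d)) {Z : Subgroup Q} (hZ : F.tw.IsZ Z) :
    NC L Q ≤ F.H := by
  rcases F.dich hZ with htop | hfull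
  · rw [htop]; exact le_top
  haveI := F.normal_NC tcls
  set C := NC L Q
  have hi := F.index_H hZ hfull
  obtain ⟨n, hn⟩ := L.card_pow_two
  have h1 : F.H.relIndex (F.H ⊔ C) ∣ 2 ^ n := by
    rw [← hn, ← hi]; exact Dvd.intro _ (Subgroup.relIndex_mul_index le_sup_left)
  obtain ⟨j, -, hj⟩ := (Nat.dvd_prime_pow Nat.prime_two).1 h1
  by_cases hj0 : j = 0
  · rw [hj0, pow_zero, Subgroup.relIndex_eq_one] at hj
    exact le_sup_right.trans hj
  exfalso
  apply F.not_two_mul_dvd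
  -- `|H ⊔ C| |H ⊓ C| = |H| |C|`
  have a1 : Nat.card F.H * F.H.relIndex (F.H ⊔ C) = Nat.card (↥(F.H ⊔ C)) := by
    rw [← (F.H.subgroupOf (F.H ⊔ C)).card_mul_index, Subgroup.relIndex,
      Nat.card_congr (Subgroup.subgroupOfEquivOfLe le_sup_left).toEquiv]
  have a2 : Nat.card C * C.relIndex (F.H ⊔ C) = Nat.card (↥(F.H ⊔ C)) := by
    rw [← (C.subgroupOf (F.H ⊔ C)).card_mul_index, Subgroup.relIndex,
      Nat.card_congr (Subgroup.subgroupOfEquivOfLe le_sup_right).toEquiv]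
  have a3 : Nat.card (↥(C ⊓ F.H)) * C.relIndex F.H = Nat.card F.H := by
    rw [← (C.subgroupOf F.H).card_mul_index, Subgroup.relIndex]
    congr 1
    rw [← Subgroup.inf_subgroupOf_right]
    exact (Nat.card_congr (Subgroup.subgroupOfEquivOfLe inf_le_right).toEquiv).symm
  rw [Subgroup.relIndex_sup_right] at a2
  have a4 : Nat.card (↥(C ⊓ F.H)) * F.H.relIndex (F.H ⊔ C) = Nat.card C := by
    refine Nat.eq_of_mul_eq_mul_right (show 0 < C.relIndex F.H from Nat.pos_of_ne_zero fun h0 => by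
      rw [h0, mul_zero] at a3; exact Nat.card_pos.ne' a3.symm) ?_
    rw [mul_right_comm, a3, a2, a1]
  rw [← a4, hj, mul_comm]
  refine Nat.mul_dvd_mul ?_ (dvd_pow_self 2 hj0)
  rw [← card_Qsub Q]
  exact Subgroup.card_dvd_of_le (le_inf F.Q_le_NC F.Q_le_H)

/-- The action on a four-group. -/
theorem NC_index_dvd (F : L.Sys Q k) (tcls : ∀ d ∈ L.D, IsConj L.t (L.t * d)) (h4 : Nat.card L.D = 4) :
    (NC L Q).index ∣ 6 := by
  classical
  haveI : Fintype L.D := Fintype.ofFinite _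
  set NQ := Subgroup.normalizer (Q : Set G)
  let act : NQ → L.D → L.D := fun n d => ⟨(n : G) * d * (n : G)⁻¹, F.normD tcls n d.2⟩
  have hact1 : ∀ n d, d ≠ 1 → act n d ≠ 1 := fun n d hd e => hd (Subtype.ext (by
    have h := congrArg Subtype.val e
    exact conj_eq_one_iff.1 h))
  let f : NQ →* Equiv.Perm {d : L.D // d ≠ 1} :=
    { toFun := fun n =>
        { toFun := fun d => ⟨act n d, hact1 n d d.2⟩
          invFun := fun d => ⟨act n⁻¹ d, hact1 _ d d.2⟩
          left_inv := fun d => Subtype.ext (Subtype.ext (by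
            show ((n⁻¹ : NQ) : G) * ((n : G) * d * (n : G)⁻¹) * ((n⁻¹ : NQ) : G)⁻¹ = _
            push_cast; group))
          right_inv := fun d => Subtype.ext (Subtype.ext (by
            show (n : G) * (((n⁻¹ : NQ) : G) * d * ((n⁻¹ : NQ) : G)⁻¹) * (n : G)⁻¹ = _
            push_cast; group)) }
      map_one' := Equiv.ext fun d => Subtype.ext (Subtype.ext (by
        show ((1 : NQ) : G) * d * ((1 : NQ) : G)⁻¹ = _
        simp))
      map_mul' := fun a b => Equiv.ext fun d => Subtype.ext (Subtype.ext (by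
        show ((a * b : NQ) : G) * d * ((a * b : NQ) : G)⁻¹ = (a : G) * ((b : G) * d * (b : G)⁻¹) * (a : G)⁻¹
        push_cast; group)) }
  have hker : f.ker = NC L Q := by
    ext n
    rw [MonoidHom.mem_ker, mem_NC]
    constructor
    · intro h d hd
      by_cases h1 : d = 1
      · rw [h1, mul_one, one_mul]
      have := congrArg (fun σ : Equiv.Perm {d : L.D // d ≠ 1} =>
        ((σ ⟨⟨d, hd⟩, fun e => h1 (congrArg Subtype.val e)⟩).1 : G)) h
      exact mul_inv_eq_iff_eq_mul.1 this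
    · intro h
      refine Equiv.ext fun d => Subtype.ext (Subtype.ext ?_)
      show (n : G) * d * (n : G)⁻¹ = _
      rw [h _ d.1.2, mul_inv_cancel_right]
      rfl
  rw [← hker, Subgroup.index_ker]
  refine (Subgroup.card_subgroup_dvd_card f.range).trans (dvd_of_eq ?_)
  rw [Nat.card_eq_fintype_card, Fintype.card_perm, Fintype.card_subtype_compl, ← Nat.card_eq_fintype_card, h4,
    Fintype.card_subtype_eq]
  rfl

/-- Four points cannot be permuted transitively. -/
theorem not_full_four (F : L.Sys Q k) (tcls : ∀ d ∈ L.D, IsConj L.t (L.t * d)) (h4 : Nat.card L.D = 4)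
    {Z : Subgroup Q} (hZ : F.tw.IsZ Z) :
    ¬ ∀ y ∈ Z.map (QuotientGroup.mk' (sqs Q)), ∃ n, F.cl n = y := by
  intro hfull
  have := (Subgroup.index_dvd_of_le (F.NC_le_H tcls hZ)).trans (F.NC_index_dvd tcls h4)
  rw [F.index_H hZ hfull, h4] at this
  norm_num at this

/-- If the coset is fixed, the normalizer of `Q` is `Q` times the centralizer of `t`. -/
theorem exists_mul_cent (F : L.Sys Q k) (htop : F.H = ⊤) (n : Subgroup.normalizer (Q : Set G)) :
    ∃ p ∈ Q, (p * (n : G)) * L.t = L.t * (p * (n : G)) :=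
  F.fix_coset n ((htop ▸ mem_top n : n ∈ F.H))

end Loc.Sys

end Cfsg.Agent.TwoXDih
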