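import Cfsg.Agent.Lib.TwoXDih.Count
import Cfsg.Agent.Lib.TwoXDih.NQ

/-!
# The elementary case with a single coset
-/

set_option autoImplicit false
set_option linter.unusedSectionVars false
set_option linter.style.haveILetI false
set_option linter.unusedVariables false

namespace Cfsg.Agent.TwoXDih

open Subgroup

universe u

namespace ECfg

variable {G : Type u} [Group G] [Finite G] (C : ECfg G)

/-- The local configuration. -/
noncomputable def toLoc (hn : ∀ d ∈ C.D, ¬ IsConj C.t d) : Loc G where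
  t := C.t
  D := C.D
  tsq := C.tsq
  tnot := C.tnot
  sqD := C.sqD
  four := C.four
  commD := C.commD
  k := C.k
  kt := C.kt
  kD := C.kD
  trans := C.trans
  small := fun x hxt hxD hord => (C.memT x).1 (C.full.mem_of_normalises hord hxt fun y hy => by
    have e : x * y = y * x := by
      rcases (C.memT y).1 hy with h | h
      · exact hxD y h
      · have h1 := hxD _ h
        rw [← mul_assoc, hxt, mul_assoc, mul_assoc] at h1
        exact mul_left_cancel h1
    rwa [e, mul_inv_cancel_right])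
  ncls := hn

theorem T_le {hn : ∀ d ∈ C.D, ¬ IsConj C.t d} {Q : Subgroup G} {k : G} (F : (C.toLoc hn).Fit Q k) : C.T ≤ Q := by
  intro x hx
  rcases (C.memT x).1 hx with h | h
  · exact F.DQ h
  · have e := Q.mul_mem F.tQ (F.DQ h)
    show x ∈ Q
    rwa [show (C.toLoc hn).t * (C.t * x) = x by show C.t * (C.t * x) = x; rw [← mul_assoc, C.tsq, one_mul]] at e

theorem bound {hn : ∀ d ∈ C.D, ¬ IsConj C.t d} {Q : Subgroup G} {k : G} (F : (C.toLoc hn).Fit Q k) {v : Q}
    (hv : IsConj C.t (v : G)) : Nat.card (centralizer ({v} : Set Q)) ≤ 2 * Nat.card F.tw.D := by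
  obtain ⟨g, hg⟩ := isConj_iff.1 hv
  rw [F.tw_card]
  show _ ≤ 2 * Nat.card C.D
  rw [← C.card_T]
  refine le_of_eq_of_le ?_ (C.full.card_le
    (((F.pg.to_subgroup _).map Q.subtype).map (MulAut.conj g⁻¹).toMonoidHom : IsPGroup 2
      (((centralizer ({v} : Set Q)).map Q.subtype).map (MulAut.conj g⁻¹).toMonoidHom)) ?_)
  · rw [Subgroup.card_map_of_injective (MulEquiv.injective _),
      Subgroup.card_map_of_injective (Subgroup.subtype_injective _)]
  · rintro _ ⟨_, ⟨y, hy, rfl⟩, rfl⟩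
    have h1 : (y : G) * v = v * y := congrArg Subtype.val (mem_centralizer_singleton_iff.1 hy)
    show g⁻¹ * (y : G) * g⁻¹⁻¹ * C.t = C.t * (g⁻¹ * (y : G) * g⁻¹⁻¹)
    calc _ = g⁻¹ * ((y : G) * (g * C.t * g⁻¹)) * g := by group
      _ = _ := by rw [hg, h1, ← hg]; group

/-- A conjugate of `t` in `Z` is impossible. -/
theorem notMem_Z {hn : ∀ d ∈ C.D, ¬ IsConj C.t d} {Q : Subgroup G} {k : G} (F : (C.toLoc hn).Fit Q k)
    {Z : Subgroup Q} (hZ : F.tw.IsZ Z) {v : Q} (hv : v ∈ Z) : ¬ IsConj C.t (v : G) := fun hc => by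
  have h1 := Tw.big Q F.tw Z hZ v hv fun hD => hn _ hD hc
  exact absurd (C.bound F hc) (not_le.2 h1)

theorem orbit_one_false (h2 : ∀ H : Subgroup G, H.index ≠ 2) {hn : ∀ d ∈ C.D, ¬ IsConj C.t d}
    {Q : Subgroup G} {k : G} (F : (C.toLoc hn).Sys Q k) (htop : F.H = ⊤) : False := by
  haveI : Fact (Nat.Prime 2) := ⟨Nat.prime_two⟩
  obtain ⟨S, hS⟩ := F.pg.exists_le_sylow
  haveI := S.2.isNilpotent
  have hSQ : (S : Subgroup G) = Q := by
    refine le_antisymm ?_ hS
    by_contra hle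
    obtain ⟨x, hxN, hxQ⟩ := SetLike.exists_of_lt (Group.normalizerCondition_of_isNilpotent
      (Q.subgroupOf (S : Subgroup G)) (lt_top_iff_ne_top.2 fun e => hle (Subgroup.subgroupOf_eq_top.1 e)))
    have hxN' : (x : G) ∈ Subgroup.normalizer (Q : Set G) := Subgroup.mem_normalizer_fintype fun y hy =>
      (Subgroup.mem_normalizer_iff.1 hxN ⟨y, hS hy⟩).1 hy
    obtain ⟨p, hp, hc⟩ := F.exists_mul_cent htop ⟨x, hxN'⟩
    have hm : p * (x : G) ∈ Q := C.T_le F.toFit (C.full.inter S.2 (le_trans (C.T_le F.toFit) hS)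
      (mul_mem (hS hp) x.2) hc)
    exact hxQ (show (x : G) ∈ Q from (Subgroup.mul_mem_cancel_left _ hp).1 hm)
  obtain ⟨Z, hZ⟩ := (Tw.exists_isZ Q F.tw).1
  have hcard : 2 * Nat.card (Z.map Q.subtype) = Nat.card (S : Subgroup G) := by
    rw [hSQ, Subgroup.card_map_of_injective (Subgroup.subtype_injective _), ← Z.card_mul_index, hZ.index, mul_comm]
  obtain ⟨v, ⟨w, hw, rfl⟩, hv, -⟩ := exists_extremal h2 S
    (M := Z.map Q.subtype) ((Subgroup.map_subtype_le Z).trans hSQ.ge) hcard C.tsq (c := 0) (by simp)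
  exact C.notMem_Z F.toFit hZ hw hv

theorem goal_of_sylow (S : Sylow 2 G) (hS : (S : Subgroup G) = C.T) (h4 : Nat.card C.D = 4) (P : Sylow 2 G) :
    Nat.card (P : Subgroup G) = 8 ∧ ∀ x ∈ (P : Subgroup G), x ^ 2 = 1 := by
  haveI : Fact (Nat.Prime 2) := ⟨Nat.prime_two⟩
  obtain ⟨g, hg⟩ := MulAction.exists_smul_eq G S P
  have hP : (P : Subgroup G) = C.T.map (MulAut.conj g).toMonoidHom := by
    rw [← hg, Sylow.coe_subgroup_smul, ← hS]; rfl
  refine ⟨?_, fun x hx => ?_⟩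
  · rw [hP, Subgroup.card_map_of_injective (MulEquiv.injective _), C.card_T, h4]
  · rw [hP] at hx
    obtain ⟨y, hy, rfl⟩ := hx
    rw [← map_pow, pow_two, C.sqT hy, map_one]

/-- Everything but the orbit of length `q` with `q ≥ 8`. -/
theorem final_of [IsSimpleGroup G] (hG : ¬ IsMulCommutative G) (h2 : ∀ H : Subgroup G, H.index ≠ 2)
    (hbig : ∀ (hn : ∀ d ∈ C.D, ¬ IsConj C.t d) (Q : Subgroup G) (k : G) (F : (C.toLoc hn).Sys Q k)
      (Z : Subgroup Q), (∀ d ∈ C.D, IsConj C.t (C.t * d)) → F.tw.IsZ Z → 8 ≤ Nat.card C.D →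
      (∀ y ∈ Z.map (QuotientGroup.mk' (sqs Q)), ∃ n, F.cl n = y) → False)
    (P : Sylow 2 G) : Nat.card (P : Subgroup G) = 8 ∧ ∀ x ∈ (P : Subgroup G), x ^ 2 = 1 := by
  haveI : Fact (Nat.Prime 2) := ⟨Nat.prime_two⟩
  obtain ⟨S, hS⟩ := C.full.exists_sylow
  rcases hS.lt_or_eq with hlt | heq
  · exfalso
    obtain ⟨htD, hn⟩ := C.fusion S hlt
    obtain ⟨Q, k, F⟩ := Loc.exists_sys (C.toLoc hn)
    obtain ⟨Z, hZ⟩ := (Tw.exists_isZ Q F.tw).1
    rcases F.dich hZ with htop | hfull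
    · exact C.orbit_one_false h2 F htop
    by_cases h4 : Nat.card C.D = 4
    · exact F.not_full_four htD h4 hZ hfull
    refine hbig hn Q k F Z htD hZ ?_ hfull
    obtain ⟨n, hn'⟩ := Loc.card_pow_two (C.toLoc hn)
    have hn'' : Nat.card C.D = 2 ^ n := hn'
    have := C.four
    rw [hn''] at h4 this ⊢
    calc 8 = 2 ^ 3 := by norm_num
      _ ≤ _ := Nat.pow_le_pow_right (by norm_num) (by
        by_contra h
        have := Nat.pow_le_pow_right (show 0 < 2 by norm_num) (show n ≤ 2 by omega)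
        omega)
  · refine C.goal_of_sylow S heq.symm (le_antisymm ?_ C.four) P
    exact C.card_le_four (C.O_all hG S heq.symm)

end ECfg

end Cfsg.Agent.TwoXDih
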