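import Cfsg.Agent.Lib.JankoFour.FiveAut
import Mathlib.GroupTheory.Sylow
import Mathlib.Tactic.Group

/-!
# The configuration `q = 8`: the elementary group of order sixteen and its normaliser

`t` is an involution, `D` an elementary group of order `8` centralised by it, the 2-subgroups of
the centralisers of conjugates of `t` are elementary of order at most `16`, the conjugates of `t` in
`T = ⟨t, D⟩` are the coset `t D`, and `N(T)` induces the whole of `Aut D`.
-/

set_option autoImplicit false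
set_option linter.style.haveILetI false
set_option linter.unusedSectionVars false

namespace Cfsg.Agent.TwoXDih

open Subgroup

universe u

/-- The configuration. -/
structure EightCfg (G : Type u) [Group G] where
  t : G
  D : Subgroup G
  ht : t * t = 1
  cardD : Nat.card D = 8
  sqD : ∀ d ∈ D, d * d = 1
  comm : ∀ d ∈ D, Commute t d
  tD : t ∉ D
  bound : ∀ u, IsConj t u → ∀ X : Subgroup G, IsPGroup 2 X → (∀ x ∈ X, Commute x u) →
    (∀ x ∈ X, x * x = 1) ∧ Nat.card X ≤ 16
  ncls : ∀ d ∈ D, ¬ IsConj t d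
  fused : ∀ d ∈ D, IsConj t (t * d)
  gl : ∀ φ : MulAut D, ∃ g ∈ normalizer ((zpowers t ⊔ D : Subgroup G) : Set G),
    ∀ d : D, g * (d : G) * g⁻¹ = (φ d : G)
  kerD : ∀ g ∈ normalizer ((zpowers t ⊔ D : Subgroup G) : Set G),
    (∀ d ∈ D, g * d = d * g) → g * t * g⁻¹ = t

namespace EightCfg

variable {G : Type u} [Group G]

/-- A conjugate of a subgroup. -/
def cj (g : G) (X : Subgroup G) : Subgroup G := X.map (MulAut.conj g).toMonoidHom

theorem mem_cj {g : G} {X : Subgroup G} {y : G} : y ∈ cj g X ↔ g⁻¹ * y * g ∈ X := by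
  constructor
  · rintro ⟨x, hx, rfl⟩
    show g⁻¹ * (g * x * g⁻¹) * g ∈ X
    rwa [show g⁻¹ * (g * x * g⁻¹) * g = x by group]
  · intro h
    exact ⟨_, h, by show g * (g⁻¹ * y * g) * g⁻¹ = y; group⟩

theorem conj_mem_cj {g : G} {X : Subgroup G} {x : G} (hx : x ∈ X) : g * x * g⁻¹ ∈ cj g X := ⟨x, hx, rfl⟩

theorem cj_mul (g g' : G) (X : Subgroup G) : cj (g * g') X = cj g (cj g' X) := by
  ext y
  rw [mem_cj, mem_cj, mem_cj, show (g * g')⁻¹ * y * (g * g') = g'⁻¹ * (g⁻¹ * y * g) * g' by group]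

theorem cj_one (X : Subgroup G) : cj 1 X = X := by
  ext y; rw [mem_cj, inv_one, one_mul, mul_one]

theorem cj_inv {g : G} {X Y : Subgroup G} (h : cj g X = Y) : cj g⁻¹ Y = X := by
  rw [← h, ← cj_mul, inv_mul_cancel, cj_one]

theorem card_cj (g : G) (X : Subgroup G) : Nat.card (cj g X) = Nat.card X :=
  (Nat.card_congr (X.equivMapOfInjective _ (MulEquiv.injective (MulAut.conj g))).toEquiv).symm

theorem cj_eq_self_iff {g : G} {X : Subgroup G} : cj g X = X ↔ g ∈ normalizer (X : Set G) := by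
  constructor
  · intro h
    refine mem_normalizer_iff.2 fun y => ?_
    conv_rhs => rw [← h, mem_cj, show g⁻¹ * (g * y * g⁻¹) * g = y by group]
  · intro h
    ext y
    rw [mem_cj, mem_normalizer_iff.1 h, show g * (g⁻¹ * y * g) * g⁻¹ = y by group]

/-- Counting by fibres. -/
theorem card_le_fib {α : Type*} [Finite α] (X K : Subgroup G) [Finite K] (f : X → α)
    (h : ∀ x x' : X, f x = f x' → ((x : G))⁻¹ * (x' : G) ∈ K) :
    Nat.card X ≤ Nat.card α * Nat.card K := by
  classical
  let sect : α → X := fun a => if hb : ∃ x, f x = a then hb.choose else 1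
  have hsect : ∀ x, f (sect (f x)) = f x := fun x => by
    have hb : ∃ x', f x' = f x := ⟨x, rfl⟩
    simp only [sect, dif_pos hb]
    exact hb.choose_spec
  rw [← Nat.card_prod]
  refine Nat.card_le_card_of_injective
    (fun x => (f x, (⟨((sect (f x) : X) : G)⁻¹ * (x : G), h _ _ (hsect x)⟩ : K))) fun x x' e => ?_
  have e1 : f x = f x' := congrArg Prod.fst e
  have e2 := congrArg (fun z : α × K => (z.2 : G)) e
  simp only [e1] at e2
  exact Subtype.ext (mul_left_cancel e2)

/-- Counting by fibres: every value is taken. -/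
theorem surj_of_fib {α : Type*} [Finite α] (X K : Subgroup G) [Finite K] (f : X → α)
    (h : ∀ x x' : X, f x = f x' → ((x : G))⁻¹ * (x' : G) ∈ K)
    (hc : Nat.card α * Nat.card K ≤ Nat.card X) : Function.Surjective f := by
  classical
  intro a
  by_contra ha
  push Not at ha
  haveI : Fintype α := Fintype.ofFinite α
  have h1 := card_le_fib X K (fun x => (⟨f x, ha x⟩ : {b : α // b ≠ a})) fun x x' e =>
    h x x' (congrArg Subtype.val e)
  rw [Nat.card_eq_fintype_card (α := {b : α // b ≠ a}), Fintype.card_subtype_compl, Fintype.card_subtype_eq,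
    ← Nat.card_eq_fintype_card] at h1
  have h2 : 0 < Nat.card K := Nat.card_pos
  have h3 : 0 < Nat.card α := Nat.card_pos_iff.2 ⟨⟨a⟩, inferInstance⟩
  have h4 : (Nat.card α - 1) * Nat.card K + Nat.card K = Nat.card α * Nat.card K := by
    rw [← Nat.succ_mul]; congr 1; omega
  omega

variable (C : EightCfg G)

/-- The elementary group of order `16`. -/
def T : Subgroup G := zpowers C.t ⊔ C.D

theorem invD {d : G} (hd : d ∈ C.D) : d⁻¹ = d := inv_eq_of_mul_eq_one_right (C.sqD d hd)

theorem commD {d e : G} (hd : d ∈ C.D) (he : e ∈ C.D) : d * e = e * d := by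
  have := C.invD (mul_mem hd he)
  rwa [mul_inv_rev, C.invD hd, C.invD he, eq_comm] at this

theorem D_le : C.D ≤ C.T := le_sup_right

theorem t_mem : C.t ∈ C.T := le_sup_left (a := zpowers C.t) (mem_zpowers C.t)

theorem mem_T {x : G} : x ∈ C.T ↔ x ∈ C.D ∨ C.t * x ∈ C.D := by
  have hinv : C.t⁻¹ = C.t := inv_eq_of_mul_eq_one_right C.ht
  let M : Subgroup G :=
    { carrier := {x | x ∈ C.D ∨ C.t * x ∈ C.D}
      one_mem' := Or.inl (one_mem _)
      mul_mem' := by
        rintro a b (ha | ha) (hb | hb)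
        · exact Or.inl (mul_mem ha hb)
        · refine Or.inr ?_
          rw [← mul_assoc, (C.comm a ha).eq, mul_assoc]
          exact mul_mem ha hb
        · refine Or.inr ?_
          rw [← mul_assoc]
          exact mul_mem ha hb
        · refine Or.inl ?_
          have e : a * b = C.t * a * (C.t * b) := by
            rw [show C.t * a * (C.t * b) = C.t * a * C.t * b by group, ← (C.comm _ ha).eq, ← mul_assoc, C.ht,
              one_mul]
          rw [e]
          exact mul_mem ha hb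
      inv_mem' := by
        rintro a (ha | ha)
        · exact Or.inl (inv_mem ha)
        · refine Or.inr ?_
          have e : C.t * a⁻¹ = (C.t * a)⁻¹ := by
            rw [mul_inv_rev, hinv]
            have h1 := (C.comm _ ha).eq
            have h2 : a * C.t = C.t * a := by
              rw [← mul_assoc, C.ht, one_mul] at h1
              calc a * C.t = C.t * (C.t * a) * C.t := by rw [← mul_assoc C.t, C.ht, one_mul]
                _ = C.t * (C.t * a * C.t) := by group
                _ = C.t * a := by rw [← h1]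
            calc C.t * a⁻¹ = a⁻¹ * (a * C.t) * a⁻¹ := by group
              _ = a⁻¹ * C.t := by rw [h2]; group
          rw [e]
          exact inv_mem ha }
  constructor
  · intro hx
    have hle : C.T ≤ M := sup_le (zpowers_le.2 (Or.inr (by rw [C.ht]; exact one_mem _))) fun d hd => Or.inl hd
    exact hle hx
  · rintro (h | h)
    · exact C.D_le h
    · have e : x = C.t * (C.t * x) := by rw [← mul_assoc, C.ht, one_mul]
      rw [e]
      exact mul_mem C.t_mem (C.D_le h)

theorem exists_decomp {x : G} (hx : x ∈ C.T) (hD : x ∉ C.D) : ∃ d ∈ C.D, x = C.t * d := by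
  refine ⟨_, (C.mem_T.1 hx).resolve_left hD, ?_⟩
  rw [← mul_assoc, C.ht, one_mul]

theorem sq_T {x : G} (hx : x ∈ C.T) : x * x = 1 := by
  by_cases hD : x ∈ C.D
  · exact C.sqD x hD
  · obtain ⟨d, hd, rfl⟩ := C.exists_decomp hx hD
    rw [show C.t * d * (C.t * d) = C.t * (d * C.t) * d by group, ← (C.comm d hd).eq,
      show C.t * (C.t * d) * d = C.t * C.t * (d * d) by group, C.ht, C.sqD d hd, one_mul]

theorem inv_T {x : G} (hx : x ∈ C.T) : x⁻¹ = x := inv_eq_of_mul_eq_one_right (C.sq_T hx)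

theorem comm_T {x y : G} (hx : x ∈ C.T) (hy : y ∈ C.T) : x * y = y * x := by
  have := C.inv_T (mul_mem hx hy)
  rwa [mul_inv_rev, C.inv_T hx, C.inv_T hy, eq_comm] at this

theorem isPGroup_T : IsPGroup 2 C.T := fun x =>
  ⟨1, Subtype.ext (by rw [pow_one, pow_two, coe_mul, coe_one]; exact C.sq_T x.2)⟩

theorem card_T [Finite G] : Nat.card C.T = 16 := by
  have hi : (C.D.subgroupOf C.T).index = 2 := by
    rw [index_eq_two_iff_exists_notMem_and']
    refine ⟨⟨C.t, C.t_mem⟩, C.tD, fun b => ?_⟩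
    rcases C.mem_T.1 b.2 with h | h
    · exact Or.inr h
    · exact Or.inl h
  have h := (C.D.subgroupOf C.T).card_mul_index
  rw [hi, Nat.card_congr (subgroupOfEquivOfLe C.D_le).toEquiv, C.cardD] at h
  omega

theorem cls_iff {x : G} (hx : x ∈ C.T) : IsConj C.t x ↔ x ∉ C.D := by
  refine ⟨fun h hd => C.ncls x hd h, fun h => ?_⟩
  obtain ⟨d, hd, rfl⟩ := C.exists_decomp hx h
  exact C.fused d hd

theorem cls_conj {x n : G} : IsConj C.t (n * x * n⁻¹) ↔ IsConj C.t x :=
  ⟨fun h => h.trans (IsConj.symm (isConj_iff.2 ⟨n, rfl⟩)), fun h => h.trans (isConj_iff.2 ⟨n, rfl⟩)⟩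

theorem norm_D {n d : G} (hn : n ∈ normalizer (C.T : Set G)) (hd : d ∈ C.D) : n * d * n⁻¹ ∈ C.D := by
  by_contra hnot
  have hT : n * d * n⁻¹ ∈ C.T := (mem_normalizer_iff.1 hn d).1 (C.D_le hd)
  exact C.ncls d hd (C.cls_conj.1 ((C.cls_iff hT).2 hnot))

/-- The translate `g D g⁻¹` depends only on `g T g⁻¹`. -/
theorem cj_D_eq {g h : G} (e : cj g C.T = cj h C.T) : cj g C.D = cj h C.D := by
  have key : ∀ g h : G, cj g C.T = cj h C.T → cj g C.D ≤ cj h C.D := by
    intro g h e y hy
    rw [mem_cj] at hy ⊢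
    have hn : h⁻¹ * g ∈ normalizer (C.T : Set G) :=
      cj_eq_self_iff.1 (by rw [cj_mul, e, ← cj_mul, inv_mul_cancel, cj_one])
    have := C.norm_D hn hy
    rwa [show h⁻¹ * g * (g⁻¹ * y * g) * (h⁻¹ * g)⁻¹ = h⁻¹ * y * h by group] at this
  exact le_antisymm (key g h e) (key h g e.symm)

theorem cls_cj {g x : G} (hx : x ∈ cj g C.T) : IsConj C.t x ↔ x ∉ cj g C.D := by
  rw [mem_cj, ← C.cls_iff (mem_cj.1 hx)]
  conv_rhs => rw [show g⁻¹ * x * g = g⁻¹ * x * g⁻¹⁻¹ by rw [inv_inv], C.cls_conj]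

variable [Finite G]

/-- A 2-group containing `T` meets the centraliser of a conjugate of `t` in `T` only in `T`. -/
theorem cent {R : Subgroup G} (hR : IsPGroup 2 R) (hTR : C.T ≤ R) {u x : G} (huT : u ∈ C.T) (huD : u ∉ C.D)
    (hx : x ∈ R) (hxu : x * u = u * x) : x ∈ C.T := by
  set X := R ⊓ centralizer ({u} : Set G) with hX
  have hle : C.T ≤ X := le_inf hTR fun y hy => mem_centralizer_singleton_iff.2 (C.comm_T hy huT)
  have h := C.bound u ((C.cls_iff huT).2 huD) X (hR.to_le inf_le_left) fun y hy =>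
    mem_centralizer_singleton_iff.1 hy.2
  have e : C.T = X := eq_of_le_of_card_ge hle (by rw [C.card_T]; exact h.2)
  rw [e]
  exact ⟨hx, mem_centralizer_singleton_iff.2 hxu⟩

/-- An element of a 2-group normalising `T` and centralising `D` lies in `T`. -/
theorem mem_T_of_cent_D {R : Subgroup G} (hR : IsPGroup 2 R) (hTR : C.T ≤ R) {x : G} (hx : x ∈ R)
    (hn : x ∈ normalizer (C.T : Set G)) (hc : ∀ d ∈ C.D, x * d = d * x) : x ∈ C.T :=
  C.cent hR hTR C.t_mem C.tD hx (mul_inv_eq_iff_eq_mul.1 (C.kerD x hn hc))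

/-- A conjugate of `t` with a centraliser of order `16` in a 2-group. -/
theorem exists_conjugate {R : Subgroup G} (hR : IsPGroup 2 R) {v : G} (hv : IsConj C.t v)
    (hc : 16 ≤ Nat.card ↥(R ⊓ centralizer ({v} : Set G))) :
    ∃ g : G, v = g * C.t * g⁻¹ ∧ cj g C.T ≤ R := by
  haveI : Fact (Nat.Prime 2) := ⟨Nat.prime_two⟩
  set X := R ⊓ centralizer ({v} : Set G) with hX
  have hXp : IsPGroup 2 X := hR.to_le inf_le_left
  obtain ⟨g, hg⟩ := isConj_iff.1 hv
  set Cv := centralizer ({v} : Set G) with hCv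
  have hTC : cj g C.T ≤ Cv := fun y hy => by
    refine mem_centralizer_singleton_iff.2 ?_
    rw [mem_cj] at hy
    rw [← hg]
    calc y * (g * C.t * g⁻¹) = g * ((g⁻¹ * y * g) * C.t) * g⁻¹ := by group
      _ = g * (C.t * (g⁻¹ * y * g)) * g⁻¹ := by rw [C.comm_T hy C.t_mem]
      _ = _ := by group
  have hTp : IsPGroup 2 (cj g C.T) := C.isPGroup_T.map _
  obtain ⟨P₁, hP₁⟩ := (hTp.comap_subtype (K := Cv)).exists_le_sylow
  obtain ⟨P₂, hP₂⟩ := (hXp.comap_subtype (K := Cv)).exists_le_sylow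
  obtain ⟨c, hc'⟩ := MulAction.exists_smul_eq (Cv : Subgroup G) P₁ P₂
  have hcard : ∀ P : Sylow 2 Cv, Nat.card ((P : Subgroup Cv).map Cv.subtype) ≤ 16 := fun P =>
    (C.bound v hv _ (P.2.map _) (by
      rintro _ ⟨y, -, rfl⟩
      exact mem_centralizer_singleton_iff.1 y.2)).2
  have e1 : cj g C.T = (P₁ : Subgroup Cv).map Cv.subtype := by
    refine eq_of_le_of_card_ge (fun y hy => ⟨⟨y, hTC hy⟩, hP₁ hy, rfl⟩) ?_
    rw [card_cj, C.card_T]
    exact hcard P₁
  have e2 : X = (P₂ : Subgroup Cv).map Cv.subtype :=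
    eq_of_le_of_card_ge (fun y hy => ⟨⟨y, hy.2⟩, hP₂ hy, rfl⟩) ((hcard P₂).trans hc)
  refine ⟨(c : G) * g, ?_, ?_⟩
  · calc v = (c : G) * v * (c : G)⁻¹ := by rw [mem_centralizer_singleton_iff.1 c.2]; group
      _ = _ := by rw [← hg]; group
  · rw [cj_mul, e1]
    rintro y ⟨z, hz, rfl⟩
    obtain ⟨w, hw, rfl⟩ := hz
    have hw2 : c * w * c⁻¹ ∈ ((c • P₁ : Sylow 2 Cv) : Subgroup Cv) := by
      rw [Sylow.coe_subgroup_smul]
      exact smul_mem_pointwise_smul w (MulAut.conj c) _ hw
    rw [hc'] at hw2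
    have h3 : (c : G) * (w : G) * (c : G)⁻¹ ∈ X := by
      rw [e2]
      exact ⟨_, hw2, rfl⟩
    exact h3.1

/-- The centraliser of `t` has order divisible by `16`. -/
theorem dvd_cent : 2 ^ 4 ∣ Nat.card (centralizer ({C.t} : Set G)) := by
  rw [show (2 : ℕ) ^ 4 = Nat.card C.T from C.card_T.symm]
  exact card_dvd_of_le fun y hy => mem_centralizer_singleton_iff.2 (C.comm_T hy C.t_mem)

/-- A 2-subgroup of order at least `128` normalising `T`. -/
theorem exists_big : ∃ R : Subgroup G, IsPGroup 2 R ∧ C.T ≤ R ∧ R ≤ normalizer (C.T : Set G) ∧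
    128 ≤ Nat.card R := by
  classical
  haveI : Fact (Nat.Prime 2) := ⟨Nat.prime_two⟩
  set N := normalizer (C.T : Set G) with hN
  have hstep : ∀ (n : N) (d : C.D), (n : G) * (d : G) * (n : G)⁻¹ ∈ C.D := fun n d => C.norm_D n.2 d.2
  let ψ : N →* MulAut C.D :=
    { toFun := fun n =>
        { toFun := fun d => ⟨_, hstep n d⟩
          invFun := fun d => ⟨(n : G)⁻¹ * (d : G) * (n : G), by
            have := hstep n⁻¹ d
            rwa [InvMemClass.coe_inv, inv_inv] at this⟩
          left_inv := fun d => Subtype.ext (by show (n : G)⁻¹ * ((n : G) * d * (n : G)⁻¹) * n = d; group)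
          right_inv := fun d => Subtype.ext (by show (n : G) * ((n : G)⁻¹ * d * n) * (n : G)⁻¹ = d; group)
          map_mul' := fun d e => Subtype.ext (by
            show (n : G) * ((d : G) * e) * (n : G)⁻¹ = (n : G) * d * (n : G)⁻¹ * ((n : G) * e * (n : G)⁻¹)
            group) }
      map_one' := MulEquiv.ext fun d => Subtype.ext (by show (1 : G) * d * (1 : G)⁻¹ = d; group)
      map_mul' := fun m n => MulEquiv.ext fun d => Subtype.ext (by
        show (m : G) * (n : G) * d * ((m : G) * (n : G))⁻¹ = (m : G) * ((n : G) * d * (n : G)⁻¹) * (m : G)⁻¹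
        group) }
  have hsurj : Function.Surjective ψ := fun φ => by
    obtain ⟨g, hg, hgd⟩ := C.gl φ
    exact ⟨⟨g, hg⟩, MulEquiv.ext fun d => Subtype.ext (hgd d)⟩
  have hTN : C.T ≤ N := le_normalizer
  have hker : C.T.subgroupOf N ≤ ψ.ker := fun n hn => MonoidHom.mem_ker.2 (MulEquiv.ext fun d => Subtype.ext (by
    show (n : G) * d * (n : G)⁻¹ = d
    rw [C.comm_T (show (n : G) ∈ C.T from hn) (C.D_le d.2), mul_inv_cancel_right]))
  have hdvd : 2 ^ 7 ∣ Nat.card N := by
    rw [← ψ.ker.index_mul_card, index_ker, MonoidHom.range_eq_top.2 hsurj, card_top,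
      JankoFour.card_aut_eight C.D (fun a => Subtype.ext (C.sqD a a.2)) C.cardD]
    have h16 : 16 ∣ Nat.card ψ.ker := by
      rw [← C.card_T, ← Nat.card_congr (subgroupOfEquivOfLe hTN).toEquiv]
      exact card_dvd_of_le hker
    exact (show 2 ^ 7 ∣ 168 * 16 by norm_num).trans (Nat.mul_dvd_mul_left _ h16)
  obtain ⟨R₀, hR₀⟩ := Sylow.exists_subgroup_card_pow_prime 2 hdvd
  haveI hTn : (C.T.subgroupOf N).Normal := normal_subgroupOf_of_le_normalizer le_rfl
  have hR : IsPGroup 2 (R₀ ⊔ C.T.subgroupOf N : Subgroup N) :=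
    (IsPGroup.of_card hR₀).to_sup_of_normal_right (C.isPGroup_T.of_equiv (subgroupOfEquivOfLe hTN).symm)
  refine ⟨(R₀ ⊔ C.T.subgroupOf N).map N.subtype, hR.map _, ?_, map_subtype_le _, ?_⟩
  · rw [Subgroup.map_sup, map_subgroupOf_eq_of_le hTN]
    exact le_sup_right
  · rw [← Nat.card_congr (Subgroup.equivMapOfInjective _ _ N.subtype_injective).toEquiv,
      show 128 = Nat.card R₀ by rw [hR₀]; norm_num]
    exact card_le_of_le le_sup_left

end EightCfg

end Cfsg.Agent.TwoXDih
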