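import Cfsg.Agent.Lib.TwoXDih.EightFrame
import Mathlib.GroupTheory.Nilpotent

/-!
# The configuration `q = 8`: the conjugates of `T` in a Sylow 2-subgroup
-/

set_option autoImplicit false
set_option linter.style.haveILetI false
set_option linter.unusedSectionVars false

namespace Cfsg.Agent.TwoXDih

open Subgroup

universe u

namespace EightCfg

variable {G : Type u} [Group G] [Finite G] {C : EightCfg G}

/-- The conjugates of `T`. -/
def IsTc (C : EightCfg G) (X : Subgroup G) : Prop := ∃ g, X = cj g C.T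

theorem isTc_T : C.IsTc C.T := ⟨1, (cj_one _).symm⟩

theorem IsTc.cjTc {X : Subgroup G} (h : C.IsTc X) (g : G) : C.IsTc (cj g X) := by
  obtain ⟨h', rfl⟩ := h
  exact ⟨g * h', (cj_mul _ _ _).symm⟩

theorem IsTc.card {X : Subgroup G} (h : C.IsTc X) : Nat.card X = 16 := by
  obtain ⟨g, rfl⟩ := h
  rw [card_cj, C.card_T]

theorem IsTc.commX {X : Subgroup G} (h : C.IsTc X) {x y : G} (hx : x ∈ X) (hy : y ∈ X) : x * y = y * x := by
  obtain ⟨g, rfl⟩ := h
  rw [mem_cj] at hx hy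
  have e := C.comm_T hx hy
  calc x * y = g * (g⁻¹ * x * g * (g⁻¹ * y * g)) * g⁻¹ := by group
    _ = g * (g⁻¹ * y * g * (g⁻¹ * x * g)) * g⁻¹ := by rw [e]
    _ = y * x := by group

theorem IsTc.sqX {X : Subgroup G} (h : C.IsTc X) {x : G} (hx : x ∈ X) : x * x = 1 := by
  obtain ⟨g, rfl⟩ := h
  rw [mem_cj] at hx
  have e := C.sq_T hx
  calc x * x = g * (g⁻¹ * x * g * (g⁻¹ * x * g)) * g⁻¹ := by group
    _ = 1 := by rw [e]; group

namespace Frame

variable {R : Subgroup G} (F : C.Frame R)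
include F

omit F in
/-- A conjugate of `T` inside `T` is `T`. -/
theorem eq_T_of_le {X : Subgroup G} (h : C.IsTc X) (hle : X ≤ C.T) : X = C.T :=
  eq_of_le_of_card_ge hle (by rw [h.card, C.card_T])

theorem inter_le_D {X : Subgroup G} (h : C.IsTc X) (hXR : X ≤ R) (hne : X ≠ C.T) {x : G} (hx : x ∈ X)
    (hxT : x ∈ C.T) : x ∈ C.D := by
  by_contra hD
  exact hne (eq_T_of_le h fun y hy => C.cent F.big.pgroup F.big.le hxT hD (hXR hy) (h.commX hy hx))

theorem inter_le_U {X : Subgroup G} (h : C.IsTc X) {Y : Subgroup G} (hYX : Y ≤ X) (hYQ : Y ≤ F.Q)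
    (hY : 4 < Nat.card Y) (hint : Nat.card (X ⊓ C.T : Subgroup G) ≤ 4) {x : G} (hx : x ∈ X)
    (hxD : x ∈ C.D) : x ∈ F.U := by
  by_contra hxU
  have hle : Y ≤ X ⊓ C.T := fun y hy => ⟨hYX hy, by
    refine F.mem_T_of_fix (hYQ hy) ?_
    have hfix : y * x * y⁻¹ = x := mul_inv_eq_iff_eq_mul.2 (h.commX (hYX hy) hx)
    have hm : x * F.d0 ∈ F.U := by
      rw [C.commD hxD F.hd0]
      exact (F.mem_D_iff.1 hxD).resolve_left hxU
    calc y * F.d0 * y⁻¹ = (y * x * y⁻¹)⁻¹ * (y * (x * F.d0) * y⁻¹) := by group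
      _ = x⁻¹ * (x * F.d0) := by rw [hfix, (F.mem_Q.1 (hYQ hy)).2 _ hm]
      _ = F.d0 := inv_mul_cancel_left _ _⟩
  have := card_le_of_le hle
  omega

theorem inter_card_le {X : Subgroup G} (h : C.IsTc X) (hXR : X ≤ R) (hne : X ≠ C.T) :
    Nat.card (X ⊓ C.T : Subgroup G) ≤ 4 := by
  have hle : X ⊓ C.T ≤ C.D := fun x hx => F.inter_le_D h hXR hne hx.1 hx.2
  have hdvd := card_dvd_of_le hle
  rw [C.cardD, show (8 : ℕ) = 2 ^ 3 from rfl] at hdvd
  obtain ⟨k, hk, hk'⟩ := (Nat.dvd_prime_pow Nat.prime_two).1 hdvd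
  by_contra hlt
  rw [hk'] at hlt
  have hk3 : k = 3 := by
    interval_cases k <;> simp_all
  have e : X ⊓ C.T = C.D := eq_of_le_of_card_ge hle (by rw [C.cardD, hk', hk3]; norm_num)
  refine hne (eq_T_of_le h fun y hy => ?_)
  exact C.mem_T_of_cent_D F.big.pgroup F.big.le (hXR hy) (F.big.norm (hXR hy)) fun d hd =>
    h.commX hy (show d ∈ X ⊓ C.T from e.symm ▸ hd).1

theorem inter_Q_ge {X : Subgroup G} (hXR : X ≤ R) : Nat.card X ≤ 2 * Nat.card (X ⊓ F.Q : Subgroup G) := by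
  have := card_le_fib X (X ⊓ F.Q) (F.valU hXR) fun x x' e =>
    mem_inf.2 ⟨mul_mem (inv_mem x.2) x'.2, F.diff_u (hXR x.2) (hXR x'.2) (congrArg Subtype.val e)⟩
  rwa [F.card_pair] at this

theorem tc_le_Q {X : Subgroup G} (h : C.IsTc X) (hXR : X ≤ R) (hne : X ≠ C.T) : X ≤ F.Q := by
  classical
  by_contra hno
  obtain ⟨v, hvX, hvQ⟩ := SetLike.not_le_iff_exists.1 hno
  have hvR := hXR hvX
  have hvu : v * F.u * v⁻¹ = F.z * F.u := (F.moveu v hvR).resolve_left fun e => hvQ (F.mem_Q_of_u hvR e)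
  set Y := X ⊓ F.Q with hY
  have hYcard : 8 ≤ Nat.card Y := by have := F.inter_Q_ge hXR; rw [h.card, ← hY] at this; omega
  have hW := F.inter_card_le h hXR hne
  have hval : ∀ x : Y, F.d0 * ((x : G) * F.d0 * (x : G)⁻¹) ∈ ({1, F.z} : Set G) := by
    intro x
    have hxR := hXR x.2.1
    have hxU := (F.mem_Q.1 x.2.2).2
    set e := F.d0 * ((x : G) * F.d0 * (x : G)⁻¹) with he
    have heU : e ∈ F.U :=
      (F.mem_D_iff.1 (F.big.conjD hxR F.hd0)).resolve_left (F.conj_notMem_U hxR F.d0_notMem)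
    set w := F.d0 * (v * F.d0 * v⁻¹) with hw
    have hwU : w ∈ F.U :=
      (F.mem_D_iff.1 (F.big.conjD hvR F.hd0)).resolve_left (F.conj_notMem_U hvR F.d0_notMem)
    have hveU := F.conjU hvR heU
    have hd : F.d0 * F.d0 = 1 := C.sqD _ F.hd0
    have e1 : v * ((x : G) * F.d0 * (x : G)⁻¹) * v⁻¹ = F.d0 * w * (v * e * v⁻¹) := by
      rw [hw, ← mul_assoc F.d0 F.d0, hd, one_mul, he]
      calc v * ((x : G) * F.d0 * (x : G)⁻¹) * v⁻¹ = v * (F.d0 * F.d0 * ((x : G) * F.d0 * (x : G)⁻¹)) * v⁻¹ := by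
            rw [hd, one_mul]
        _ = _ := by group
    have e2 : v * ((x : G) * F.d0 * (x : G)⁻¹) * v⁻¹ = F.d0 * w * e := by
      have hvx := h.commX hvX x.2.1
      calc v * ((x : G) * F.d0 * (x : G)⁻¹) * v⁻¹ = (v * (x : G)) * F.d0 * (v * (x : G))⁻¹ := by group
        _ = (x : G) * (v * F.d0 * v⁻¹) * (x : G)⁻¹ := by rw [hvx]; group
        _ = (x : G) * (F.d0 * w) * (x : G)⁻¹ := by rw [hw, ← mul_assoc F.d0 F.d0, hd, one_mul]
        _ = ((x : G) * F.d0 * (x : G)⁻¹) * ((x : G) * w * (x : G)⁻¹) := by group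
        _ = F.d0 * e * w := by rw [hxU w hwU, he, ← mul_assoc F.d0 F.d0, hd, one_mul]
        _ = _ := by rw [mul_assoc, C.commD (F.U_le heU) (F.U_le hwU), ← mul_assoc]
    have hfix : v * e * v⁻¹ = e := mul_left_cancel (e1.symm.trans e2)
    rcases F.mem_U.1 heU with h0 | h0 | h0 | h0
    · exact Or.inl h0
    · exact Or.inr h0
    · rw [h0, hvu] at hfix
      exact absurd (mul_eq_right.1 hfix) F.z1
    · rw [h0, show v * (F.z * F.u) * v⁻¹ = v * F.z * v⁻¹ * (v * F.u * v⁻¹) by group, F.fixz v hvR, hvu,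
        ← mul_assoc, C.sqD _ F.hz, one_mul] at hfix
      exact absurd (mul_eq_right.1 hfix.symm) F.z1
  have hfib := card_le_fib Y (X ⊓ C.T)
    (fun x => (⟨F.d0 * ((x : G) * F.d0 * (x : G)⁻¹), hval x⟩ : ({1, F.z} : Set G)))
    fun x x' e => mem_inf.2 ⟨mul_mem (inv_mem (mem_inf.1 x.2).1) (mem_inf.1 x'.2).1,
      F.diff_d0 x.2.2 x'.2.2 (mul_left_cancel (congrArg Subtype.val e))⟩
  rw [Nat.card_coe_set_eq, Set.ncard_pair (Ne.symm F.z1)] at hfib
  have hWU : X ⊓ C.T ≤ F.U := fun x hx =>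
    F.inter_le_U h (Y := Y) inf_le_left inf_le_right (by omega) hW hx.1 (F.inter_le_D h hXR hne hx.1 hx.2)
  have e : X ⊓ C.T = F.U := eq_of_le_of_card_ge hWU (by rw [F.card_U]; omega)
  have hu : F.u ∈ X ⊓ C.T := e.symm ▸ (Or.inr (Or.inr (Or.inl rfl)) : F.u ∈ F.U)
  exact hvQ (F.mem_Q_of_u hvR (mul_inv_eq_iff_eq_mul.2 (h.commX hvX hu.1)))

theorem inter_eq {X : Subgroup G} (h : C.IsTc X) (hXR : X ≤ R) (hne : X ≠ C.T) : X ⊓ C.T = F.U := by
  have hXQ := F.tc_le_Q h hXR hne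
  have hW := F.inter_card_le h hXR hne
  have hWU : X ⊓ C.T ≤ F.U := fun x hx =>
    F.inter_le_U h le_rfl hXQ (by rw [h.card]; omega) hW hx.1 (F.inter_le_D h hXR hne hx.1 hx.2)
  refine eq_of_le_of_card_ge hWU ?_
  have hfib := card_le_fib X (X ⊓ C.T) (F.valOut (hXQ.trans F.Q_le)) fun x x' e =>
    mem_inf.2 ⟨mul_mem (inv_mem x.2) x'.2, F.diff_d0 (hXQ x.2) (hXQ x'.2) (congrArg Subtype.val e)⟩
  rw [F.card_Out, h.card] at hfib
  rw [F.card_U]
  omega

theorem exists_factor {X : Subgroup G} (h : C.IsTc X) (hXR : X ≤ R) (hne : X ≠ C.T) {q : G} (hq : q ∈ F.Q) :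
    ∃ y ∈ C.T, ∃ y' ∈ X, q = y * y' := by
  have hXQ := F.tc_le_Q h hXR hne
  have hW := F.inter_eq h hXR hne
  have hqi : q⁻¹ ∈ F.Q := inv_mem hq
  obtain ⟨x, hx⟩ := surj_of_fib X (X ⊓ C.T) (F.valOut (hXQ.trans F.Q_le))
    (fun x x' e => mem_inf.2 ⟨mul_mem (inv_mem x.2) x'.2, F.diff_d0 (hXQ x.2) (hXQ x'.2) (congrArg Subtype.val e)⟩)
    (by rw [F.card_Out, hW, F.card_U, h.card]) ⟨q⁻¹ * F.d0 * q⁻¹⁻¹,
      F.big.conjD (F.Q_le hqi) F.hd0, F.conj_notMem_U (F.Q_le hqi) F.d0_notMem⟩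
  have e := F.diff_d0 hqi (hXQ x.2) (congrArg Subtype.val hx).symm
  rw [inv_inv] at e
  exact ⟨q * (x : G), e, (x : G)⁻¹, inv_mem x.2, (mul_inv_cancel_right _ _).symm⟩

theorem involution_mem {X : Subgroup G} (h : C.IsTc X) (hXR : X ≤ R) (hne : X ≠ C.T) {q : G} (hq : q ∈ F.Q)
    (hq2 : q * q = 1) : q ∈ C.T ∨ q ∈ X := by
  obtain ⟨y, hy, y', hy', rfl⟩ := F.exists_factor h hXR hne hq
  have hXQ := F.tc_le_Q h hXR hne
  have hW := F.inter_eq h hXR hne
  have hc : y * y' = y' * y := by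
    have h1 := inv_eq_of_mul_eq_one_right hq2
    rw [mul_inv_rev, C.inv_T hy, inv_eq_of_mul_eq_one_right (h.sqX hy')] at h1
    exact h1.symm
  by_cases hyT : y' ∈ C.T
  · exact Or.inl (mul_mem hy hyT)
  by_cases hyU : y ∈ F.U
  · exact Or.inr (mul_mem (show y ∈ X ⊓ C.T from hW.symm ▸ hyU).1 hy')
  exfalso
  by_cases hyD : y ∈ C.D
  · refine hyT (F.mem_T_of_fix (hXQ hy') ?_)
    have hfix : y' * y * y'⁻¹ = y := mul_inv_eq_iff_eq_mul.2 hc.symm
    have hm : y * F.d0 ∈ F.U := by rw [C.commD hyD F.hd0]; exact (F.mem_D_iff.1 hyD).resolve_left hyU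
    calc y' * F.d0 * y'⁻¹ = (y' * y * y'⁻¹)⁻¹ * (y' * (y * F.d0) * y'⁻¹) := by group
      _ = y⁻¹ * (y * F.d0) := by rw [hfix, (F.mem_Q.1 (hXQ hy')).2 _ hm]
      _ = F.d0 := inv_mul_cancel_left _ _
  · exact hyT (C.cent F.big.pgroup F.big.le hy hyD (hXR hy') hc.symm)

/-- There are at most two conjugates of `T` in `R`. -/
theorem tc_unique {X Y : Subgroup G} (hX : C.IsTc X) (hXR : X ≤ R) (hXne : X ≠ C.T) (hY : C.IsTc Y) (hYR : Y ≤ R)
    (hYne : Y ≠ C.T) : Y = X := by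
  have hYQ := F.tc_le_Q hY hYR hYne
  have hle : Y ≤ X := by
    intro y hy
    rcases F.involution_mem hX hXR hXne (hYQ hy) (hY.sqX hy) with h | h
    · have h1 : y ∈ F.U := F.inter_eq hY hYR hYne ▸ (show y ∈ Y ⊓ C.T from ⟨hy, h⟩)
      exact (show y ∈ X ⊓ C.T from (F.inter_eq hX hXR hXne).symm ▸ h1).1
    · exact h
  exact eq_of_le_of_card_ge hle (by rw [hX.card, hY.card])

end Frame

/-- Every conjugate of `T` in a Sylow 2-subgroup normalises `T`, up to the flag. -/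
theorem tc_le_normalizer (S : Sylow 2 G) {R : Subgroup G} (hR : R = (S : Subgroup G) ⊓ normalizer (C.T : Set G))
    (F : C.Frame R) {X : Subgroup G} (hX : C.IsTc X) (hXS : X ≤ (S : Subgroup G)) : X ≤ R := by
  classical
  haveI : Fact (Nat.Prime 2) := ⟨Nat.prime_two⟩
  have hRS : R ≤ (S : Subgroup G) := hR ▸ inf_le_left
  have hmemR : ∀ {x : G}, x ∈ (S : Subgroup G) → cj x C.T = C.T → x ∈ R := fun {x} hx e => by
    rw [hR]; exact ⟨hx, cj_eq_self_iff.1 e⟩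
  let M : Submonoid G :=
    { carrier := {x | x ∈ (S : Subgroup G) ∧ ∀ X, C.IsTc X → X ≤ R → cj x X ≤ R}
      one_mem' := ⟨one_mem (S : Subgroup G), fun X _ hX => by rwa [cj_one]⟩
      mul_mem' := fun {a b} ha hb => ⟨mul_mem ha.1 hb.1, fun X hX hXR => by
        rw [cj_mul]; exact ha.2 _ (hX.cjTc b) (hb.2 X hX hXR)⟩ }
  let S₁ : Subgroup G :=
    { M with
      inv_mem' := fun {a} ha => by
        have h1 : a ^ (orderOf a - 1) ∈ M := pow_mem ha _
        rw [inv_eq_of_mul_eq_one_right (show a * a ^ (orderOf a - 1) = 1 by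
          rw [← pow_succ', Nat.sub_add_cancel (orderOf_pos a), pow_orderOf_eq_one])]
        exact h1 }
  have hS₁S : S₁ ≤ (S : Subgroup G) := fun x hx => hx.1
  have hRuniq : ∀ {X : Subgroup G}, C.IsTc X → X ≤ R → ∀ x ∈ R, cj x X ≤ R := fun {X} _ hXR x hx y hy => by
    rw [mem_cj] at hy
    have e : y = x * (x⁻¹ * y * x) * x⁻¹ := by group
    rw [e]
    exact mul_mem (mul_mem hx (hXR hy)) (inv_mem hx)
  have hRS₁ : R ≤ S₁ := fun x hx => ⟨hRS hx, fun X hX hXR => hRuniq hX hXR x hx⟩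
  have key : ∀ X : Subgroup G, C.IsTc X → X ≤ S₁ → X ≤ R := by
    intro X hX hXS₁
    by_contra hno
    obtain ⟨v, hvX, hvR⟩ := SetLike.not_le_iff_exists.1 hno
    have hv := hXS₁ hvX
    set T' := cj v C.T with hT'
    have hT'ne : T' ≠ C.T := fun e => hvR (hmemR hv.1 e)
    have hT'tc : C.IsTc T' := ⟨v, rfl⟩
    have hT'R : T' ≤ R := hv.2 _ isTc_T F.big.le
    have hback : cj v T' = C.T := by
      by_contra hne
      have h1 := F.tc_unique hT'tc hT'R hT'ne (hT'tc.cjTc v) (hv.2 _ hT'tc hT'R) hne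
      have h2 : cj v T' = cj v C.T := h1
      have h3 : cj v⁻¹ (cj v C.T) = T' := cj_inv h2
      rw [← cj_mul, inv_mul_cancel, cj_one] at h3
      exact hT'ne h3.symm
    have hW := F.inter_eq hT'tc hT'R hT'ne
    have hle : ∀ x ∈ X, x ∈ F.Q → x ∈ F.U := by
      intro x hxX hxQ
      have hfix : v⁻¹ * x * v = x := by
        rw [mul_assoc, ← hX.commX hvX hxX, inv_mul_cancel_left]
      have h1 : x ∈ T' ↔ x ∈ C.T := by rw [hT', mem_cj, hfix]
      rcases F.involution_mem hT'tc hT'R hT'ne hxQ (hX.sqX hxX) with h | h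
      · exact hW ▸ (⟨h1.2 h, h⟩ : x ∈ T' ⊓ C.T)
      · exact hW ▸ (⟨h, h1.1 h⟩ : x ∈ T' ⊓ C.T)
    -- the sizes
    have hXR8 : 8 ≤ Nat.card (X ⊓ R : Subgroup G) := by
      have h1 := card_le_fib X (X ⊓ R) (α := ({C.T, T'} : Set (Subgroup G)))
        (fun x => ⟨cj (x : G) C.T, by
          by_cases e : cj (x : G) C.T = C.T
          · exact Or.inl e
          · exact Or.inr (F.tc_unique hT'tc hT'R hT'ne ⟨_, rfl⟩ ((hXS₁ x.2).2 _ isTc_T F.big.le) e)⟩)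
        fun x x' e => mem_inf.2 ⟨mul_mem (inv_mem x.2) x'.2, hmemR (mul_mem (inv_mem (hXS₁ x.2).1) (hXS₁ x'.2).1) (by
          have e' : cj (x : G) C.T = cj (x' : G) C.T := congrArg Subtype.val e
          rw [cj_mul, ← e', ← cj_mul, inv_mul_cancel, cj_one])⟩
      rw [Nat.card_coe_set_eq, Set.ncard_pair hT'ne.symm, hX.card] at h1
      omega
    have hY : (X ⊓ R) ⊓ F.Q ≤ X ⊓ F.Q := inf_le_inf_right _ inf_le_left
    have h4 := F.inter_Q_ge (inf_le_right : X ⊓ R ≤ R)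
    have hYU : X ⊓ F.Q ≤ F.U := fun x hx => hle x hx.1 hx.2
    have h5 := card_le_of_le hY
    have hYeq : X ⊓ F.Q = F.U := eq_of_le_of_card_ge hYU (by rw [F.card_U]; omega)
    have hu : F.u ∈ X ⊓ F.Q := hYeq.symm ▸ (Or.inr (Or.inr (Or.inl rfl)) : F.u ∈ F.U)
    have hXQ : X ⊓ R ≤ F.U := fun x hx => hle x hx.1
      (F.mem_Q_of_u hx.2 (mul_inv_eq_iff_eq_mul.2 (hX.commX hx.1 hu.1)))
    have := card_le_of_le hXQ
    rw [F.card_U] at this
    omega
  have hself : ∀ x ∈ (S : Subgroup G), x ∈ normalizer (S₁ : Set G) → x ∈ S₁ := fun x hx hn => by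
    refine ⟨hx, fun Y hY hYR => key _ (hY.cjTc x) fun y hy => ?_⟩
    rw [mem_cj] at hy
    have := (mem_normalizer_iff.1 hn _).1 (hRS₁ (hYR hy))
    rwa [show x * (x⁻¹ * y * x) * x⁻¹ = y by group] at this
  have htop : S₁ = (S : Subgroup G) := by
    haveI : Finite ↥(S : Subgroup G) := inferInstance
    haveI : Group.IsNilpotent ↥(S : Subgroup G) := S.2.isNilpotent
    by_contra hne
    have hlt : S₁.subgroupOf S < ⊤ := lt_top_iff_ne_top.2 fun e => hne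
      (le_antisymm hS₁S (subgroupOf_eq_top.1 e))
    obtain ⟨x, hxn, hxS₁⟩ := SetLike.exists_of_lt
      (normalizerCondition_iff_only_full_group_self_normalizing.2 (fun H h => by
        by_contra hH
        exact (Group.normalizerCondition_of_isNilpotent (G := ↥(S : Subgroup G)) H (lt_top_iff_ne_top.2 hH)).ne
          h.symm) _ hlt)
    refine hxS₁ (mem_subgroupOf.2 (hself x x.2 (mem_normalizer_iff.2 fun y => ?_)))
    by_cases hy : y ∈ (S : Subgroup G)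
    · exact mem_normalizer_iff.1 hxn ⟨y, hy⟩
    · refine iff_of_false (fun h => hy (hS₁S h)) fun h => hy ?_
      have := mul_mem (mul_mem (inv_mem x.2) (hS₁S h)) x.2
      rwa [show (x : G)⁻¹ * ((x : G) * y * (x : G)⁻¹) * (x : G) = y by group] at this
  exact key X hX (htop.symm ▸ hXS)

end EightCfg

end Cfsg.Agent.TwoXDih
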