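import Cfsg.Agent.Lib.TwoXDih.EightBasic

/-!
# The configuration `q = 8`: the flag fixed by a Sylow 2-subgroup of `N(T)`
-/

set_option autoImplicit false
set_option linter.style.haveILetI false
set_option linter.unusedSectionVars false

namespace Cfsg.Agent.TwoXDih

open Subgroup

universe u

namespace EightCfg

variable {G : Type u} [Group G] [Finite G] (C : EightCfg G)

/-- A big 2-subgroup of the normaliser of `T`. -/
structure Big (R : Subgroup G) : Prop where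
  pgroup : IsPGroup 2 R
  le : C.T ≤ R
  norm : R ≤ normalizer (C.T : Set G)
  big : 128 ≤ Nat.card R

variable {C} in
theorem Big.conjD {R : Subgroup G} (hB : C.Big R) {p d : G} (hp : p ∈ R) (hd : d ∈ C.D) : p * d * p⁻¹ ∈ C.D :=
  C.norm_D (hB.norm hp) hd

/-- A flag fixed by a big 2-subgroup. -/
structure Frame (R : Subgroup G) where
  big : C.Big R
  z : G
  u : G
  d0 : G
  hz : z ∈ C.D
  hu : u ∈ C.D
  hd0 : d0 ∈ C.D
  z1 : z ≠ 1
  u1 : u ≠ 1
  uz : u ≠ z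
  fixz : ∀ p ∈ R, p * z * p⁻¹ = z
  moveu : ∀ p ∈ R, p * u * p⁻¹ = u ∨ p * u * p⁻¹ = z * u
  hout : d0 ≠ 1 ∧ d0 ≠ z ∧ d0 ≠ u ∧ d0 ≠ z * u

theorem exists_frame {R : Subgroup G} (hB : C.Big R) : Nonempty (C.Frame R) := by
  classical
  haveI : Fact (Nat.Prime 2) := ⟨Nat.prime_two⟩
  letI : MulAction R C.D :=
    { smul := fun p d => ⟨(p : G) * (d : G) * (p : G)⁻¹, hB.conjD p.2 d.2⟩
      one_smul := fun d => Subtype.ext (by show (1 : G) * d * (1 : G)⁻¹ = d; group)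
      mul_smul := fun p q d => Subtype.ext (by
        show (p : G) * (q : G) * d * ((p : G) * (q : G))⁻¹ = (p : G) * ((q : G) * d * (q : G)⁻¹) * (p : G)⁻¹
        group) }
  obtain ⟨z, hz, hz1⟩ := hB.pgroup.exists_fixed_point_of_prime_dvd_card_of_fixed_point C.D
    (by rw [C.cardD]; norm_num) (a := (1 : C.D)) (fun p => Subtype.ext (by show (p : G) * 1 * (p : G)⁻¹ = 1; group))
  have hzfix : ∀ p ∈ R, p * (z : G) * p⁻¹ = z := fun p hp => congrArg Subtype.val (hz ⟨p, hp⟩)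
  set Z : Subgroup C.D := zpowers z with hZ
  haveI : Z.Normal := ⟨fun a ha g => by
    rw [show g * a * g⁻¹ = a from Subtype.ext (by
      show (g : G) * (a : G) * (g : G)⁻¹ = a
      rw [C.commD g.2 a.2, mul_inv_cancel_right])]
    exact ha⟩
  have hZmem : ∀ {a : C.D}, a ∈ Z → a = 1 ∨ a = z := fun {a} ha => by
    have hz2 : z * z = 1 := Subtype.ext (C.sqD z z.2)
    obtain ⟨k, rfl⟩ := mem_zpowers_iff.1 ha
    rcases Int.even_or_odd k with ⟨m, rfl⟩ | ⟨m, rfl⟩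
    · refine Or.inl ?_
      rw [← two_mul, zpow_mul, show z ^ (2 : ℤ) = 1 by rw [show (2 : ℤ) = 1 + 1 from rfl, zpow_add, zpow_one, hz2],
        one_zpow]
    · refine Or.inr ?_
      rw [zpow_add, zpow_mul, show z ^ (2 : ℤ) = 1 by rw [show (2 : ℤ) = 1 + 1 from rfl, zpow_add, zpow_one, hz2],
        one_zpow, one_mul, zpow_one]
  letI : MulAction R (C.D ⧸ Z) :=
    { smul := fun p => Quotient.map' (fun d => p • d) fun a b hab => by
        rw [QuotientGroup.leftRel_apply] at hab ⊢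
        have e : (p • a)⁻¹ * (p • b) = p • (a⁻¹ * b) := Subtype.ext (by
          show ((p : G) * (a : G) * (p : G)⁻¹)⁻¹ * ((p : G) * (b : G) * (p : G)⁻¹) =
            (p : G) * ((a : G)⁻¹ * (b : G)) * (p : G)⁻¹
          group)
        rw [e]
        rcases hZmem hab with h | h <;> rw [h]
        · rw [show p • (1 : C.D) = 1 from Subtype.ext (by show (p : G) * 1 * (p : G)⁻¹ = 1; group)]
          exact one_mem _
        · rw [hz p]
          exact mem_zpowers z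
      one_smul := fun q => Quotient.inductionOn' q fun d => congrArg Quotient.mk'' (one_smul R d)
      mul_smul := fun p p' q => Quotient.inductionOn' q fun d => congrArg Quotient.mk'' (mul_smul p p' d) }
  have hcard : Nat.card (C.D ⧸ Z) = 4 := by
    have h := Subgroup.card_eq_card_quotient_mul_card_subgroup Z
    have h2 : Nat.card Z = 2 := by
      rw [hZ, Nat.card_zpowers]
      exact orderOf_eq_prime (by rw [pow_two]; exact Subtype.ext (C.sqD z z.2)) (Ne.symm hz1)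
    rw [C.cardD, h2] at h
    omega
  obtain ⟨q, hq, hq1⟩ := hB.pgroup.exists_fixed_point_of_prime_dvd_card_of_fixed_point (C.D ⧸ Z)
    (by rw [hcard]; norm_num) (a := ((1 : C.D) : C.D ⧸ Z)) (fun p => by
      show ((p • (1 : C.D) : C.D) : C.D ⧸ Z) = _
      rw [show p • (1 : C.D) = 1 from Subtype.ext (by show (p : G) * 1 * (p : G)⁻¹ = 1; group)])
  obtain ⟨u, rfl⟩ := QuotientGroup.mk_surjective q
  have huZ : u ∉ Z := fun h => hq1 (by rw [QuotientGroup.eq, inv_one, one_mul]; exact h)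
  have hmove : ∀ p ∈ R, p * (u : G) * p⁻¹ = u ∨ p * (u : G) * p⁻¹ = z * u := fun p hp => by
    have h : ((⟨p, hp⟩ : R) • u : C.D) * u⁻¹ ∈ Z := by
      have h0 : ((((⟨p, hp⟩ : R) • u : C.D)) : C.D ⧸ Z) = (u : C.D ⧸ Z) := hq ⟨p, hp⟩
      rw [eq_comm, QuotientGroup.eq] at h0
      rw [show ((⟨p, hp⟩ : R) • u : C.D) * u⁻¹ = u⁻¹ * ((⟨p, hp⟩ : R) • u) from
        Subtype.ext (C.commD ((⟨p, hp⟩ : R) • u : C.D).2 (inv_mem u.2))]
      exact h0
    rcases hZmem h with h | h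
    · exact Or.inl (congrArg Subtype.val (mul_inv_eq_one.1 h))
    · exact Or.inr (congrArg Subtype.val (mul_inv_eq_iff_eq_mul.1 h))
  obtain ⟨d0, hd0, hd0'⟩ : ∃ d0 ∈ C.D, d0 ∉ ({1, (z : G), (u : G), (z : G) * u} : Set G) := by
    by_contra hno
    push Not at hno
    have h1 := Nat.card_mono (Set.toFinite _) (fun d hd => hno d hd : (C.D : Set G) ⊆ _)
    have h2 : Nat.card ({1, (z : G), (u : G), (z : G) * u} : Set G) ≤ 4 := by
      rw [Nat.card_coe_set_eq]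
      refine (Set.ncard_insert_le _ _).trans (Nat.succ_le_succ ((Set.ncard_insert_le _ _).trans
        (Nat.succ_le_succ ((Set.ncard_insert_le _ _).trans (by rw [Set.ncard_singleton])))))
    have h3 : Nat.card ((C.D : Set G)) = 8 := C.cardD
    omega
  simp only [Set.mem_insert_iff, Set.mem_singleton_iff, not_or] at hd0'
  exact ⟨{ big := hB, z := z, u := u, d0 := d0, hz := z.2, hu := u.2, hd0 := hd0,
           z1 := fun e => hz1 (Subtype.ext e).symm,
           u1 := fun e => huZ (by rw [show u = 1 from Subtype.ext e]; exact one_mem _),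
           uz := fun e => huZ (by rw [show u = z from Subtype.ext e]; exact mem_zpowers z),
           fixz := hzfix, moveu := hmove, hout := hd0' }⟩

variable {C}

namespace Frame

variable {R : Subgroup G} (F : C.Frame R)

/-- The fixed hyperplane. -/
def U : Subgroup G where
  carrier := {1, F.z, F.u, F.z * F.u}
  one_mem' := Or.inl rfl
  mul_mem' := by
    have hc := C.commD F.hu F.hz
    have hzz := C.sqD _ F.hz
    have huu := C.sqD _ F.hu
    have e1 : F.z * (F.z * F.u) = F.u := by rw [← mul_assoc, hzz, one_mul]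
    have e2 : F.u * (F.z * F.u) = F.z := by rw [← mul_assoc, hc, mul_assoc, huu, mul_one]
    have e3 : F.z * F.u * F.z = F.u := by rw [mul_assoc, hc, e1]
    have e4 : F.z * F.u * F.u = F.z := by rw [mul_assoc, huu, mul_one]
    have e5 : F.z * F.u * (F.z * F.u) = 1 := C.sqD _ (mul_mem F.hz F.hu)
    rintro a b (rfl | rfl | rfl | rfl) (rfl | rfl | rfl | rfl) <;>
      simp [hzz, huu, hc, e1, e2, e3, e4, e5]
  inv_mem' := by
    rintro a (rfl | rfl | rfl | rfl)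
    · exact Or.inl inv_one
    · exact Or.inr (Or.inl (C.invD F.hz))
    · exact Or.inr (Or.inr (Or.inl (C.invD F.hu)))
    · exact Or.inr (Or.inr (Or.inr (C.invD (mul_mem F.hz F.hu))))

theorem mem_U {x : G} : x ∈ F.U ↔ x = 1 ∨ x = F.z ∨ x = F.u ∨ x = F.z * F.u := Iff.rfl

theorem U_le : F.U ≤ C.D := by
  rintro x (rfl | rfl | rfl | rfl)
  exacts [one_mem _, F.hz, F.hu, mul_mem F.hz F.hu]

theorem d0_notMem : F.d0 ∉ F.U := by
  rw [mem_U]
  push Not
  exact F.hout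

theorem card_U : Nat.card F.U = 4 := by
  classical
  have hzu1 : F.z * F.u ≠ 1 := fun e => F.uz (by rw [eq_inv_of_mul_eq_one_right e, C.invD F.hz])
  have hzuz : F.z * F.u ≠ F.z := fun e => F.u1 (mul_eq_left.1 e)
  have hzuu : F.z * F.u ≠ F.u := fun e => F.z1 (mul_eq_right.1 e)
  show Nat.card ({1, F.z, F.u, F.z * F.u} : Set G) = 4
  rw [Nat.card_coe_set_eq, Set.ncard_insert_of_notMem, Set.ncard_insert_of_notMem, Set.ncard_pair (Ne.symm hzuu)]
  · simp [Ne.symm F.uz, Ne.symm hzuz]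
  · simp [Ne.symm F.z1, Ne.symm F.u1, Ne.symm hzu1]

theorem mem_D_iff {x : G} : x ∈ C.D ↔ x ∈ F.U ∨ F.d0 * x ∈ F.U := by
  have hi : (F.U.subgroupOf C.D).index = 2 := by
    have h := (F.U.subgroupOf C.D).card_mul_index
    rw [Nat.card_congr (subgroupOfEquivOfLe F.U_le).toEquiv, F.card_U, C.cardD] at h
    omega
  constructor
  · intro hx
    by_cases h : x ∈ F.U
    · exact Or.inl h
    · exact Or.inr ((mul_mem_iff_of_index_two hi (a := ⟨F.d0, F.hd0⟩) (b := ⟨x, hx⟩)).2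
        (iff_of_false F.d0_notMem h))
  · rintro (h | h)
    · exact F.U_le h
    · have e : x = F.d0⁻¹ * (F.d0 * x) := (inv_mul_cancel_left _ _).symm
      rw [e]
      exact mul_mem (inv_mem F.hd0) (F.U_le h)

/-- The centraliser of the hyperplane. -/
def Q : Subgroup G := R ⊓ centralizer (F.U : Set G)

theorem mem_Q {x : G} : x ∈ F.Q ↔ x ∈ R ∧ ∀ y ∈ F.U, x * y * x⁻¹ = y := by
  refine Iff.trans mem_inf (and_congr Iff.rfl ?_)
  rw [mem_centralizer_iff]
  exact ⟨fun h y hy => by rw [← h y hy, mul_inv_cancel_right], fun h y hy => (mul_inv_eq_iff_eq_mul.1 (h y hy)).symm⟩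

theorem mem_Q_of_u {x : G} (hx : x ∈ R) (hu : x * F.u * x⁻¹ = F.u) : x ∈ F.Q := by
  refine F.mem_Q.2 ⟨hx, ?_⟩
  rintro y (rfl | rfl | rfl | rfl)
  · group
  · exact F.fixz x hx
  · exact hu
  · rw [show x * (F.z * F.u) * x⁻¹ = x * F.z * x⁻¹ * (x * F.u * x⁻¹) by group, F.fixz x hx, hu]

theorem T_le_Q : C.T ≤ F.Q := fun x hx => F.mem_Q.2 ⟨F.big.le hx, fun y hy => by
  rw [C.comm_T hx (C.D_le (F.U_le hy)), mul_inv_cancel_right]⟩

theorem conjU {p y : G} (hp : p ∈ R) (hy : y ∈ F.U) : p * y * p⁻¹ ∈ F.U := by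
  rcases F.mem_U.1 hy with rfl | rfl | rfl | rfl
  · rw [mul_one, mul_inv_cancel]; exact one_mem _
  · rw [F.fixz p hp]; exact Or.inr (Or.inl rfl)
  · rcases F.moveu p hp with h | h <;> rw [h]
    · exact Or.inr (Or.inr (Or.inl rfl))
    · exact Or.inr (Or.inr (Or.inr rfl))
  · rw [show p * (F.z * F.u) * p⁻¹ = p * F.z * p⁻¹ * (p * F.u * p⁻¹) by group, F.fixz p hp]
    rcases F.moveu p hp with h | h <;> rw [h]
    · exact Or.inr (Or.inr (Or.inr rfl))
    · rw [← mul_assoc, C.sqD _ F.hz, one_mul]; exact Or.inr (Or.inr (Or.inl rfl))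

theorem conj_notMem_U {p y : G} (hp : p ∈ R) (hy : y ∉ F.U) : p * y * p⁻¹ ∉ F.U := fun h => hy (by
  have := F.conjU (inv_mem hp) h
  rwa [show p⁻¹ * (p * y * p⁻¹) * p⁻¹⁻¹ = y by group] at this)

theorem mem_T_of_fix {x : G} (hx : x ∈ F.Q) (h : x * F.d0 * x⁻¹ = F.d0) : x ∈ C.T := by
  have hxU := (F.mem_Q.1 hx).2
  refine C.mem_T_of_cent_D F.big.pgroup F.big.le (F.mem_Q.1 hx).1 (F.big.norm (F.mem_Q.1 hx).1) fun d hd => ?_
  refine mul_inv_eq_iff_eq_mul.1 ?_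
  rcases F.mem_D_iff.1 hd with h' | h'
  · exact hxU d h'
  · calc x * d * x⁻¹ = (x * F.d0 * x⁻¹)⁻¹ * (x * (F.d0 * d) * x⁻¹) := by group
      _ = F.d0⁻¹ * (F.d0 * d) := by rw [h, hxU _ h']
      _ = d := inv_mul_cancel_left _ _

theorem diff_d0 {x x' : G} (hx : x ∈ F.Q) (hx' : x' ∈ F.Q) (h : x * F.d0 * x⁻¹ = x' * F.d0 * x'⁻¹) :
    x⁻¹ * x' ∈ C.T := by
  refine F.mem_T_of_fix (mul_mem (inv_mem hx) hx') ?_
  calc x⁻¹ * x' * F.d0 * (x⁻¹ * x')⁻¹ = x⁻¹ * (x' * F.d0 * x'⁻¹) * x := by group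
    _ = F.d0 := by rw [← h]; group

/-- The elements of `D` outside the hyperplane. -/
def Out : Set G := {y | y ∈ C.D ∧ y ∉ F.U}

theorem card_Out : Nat.card F.Out = 4 := by
  have h : F.Out = (C.D : Set G) \ (F.U : Set G) := rfl
  rw [h, Nat.card_coe_set_eq, Set.ncard_sdiff F.U_le (Set.toFinite _), ← Nat.card_coe_set_eq,
    ← Nat.card_coe_set_eq]
  show Nat.card C.D - Nat.card F.U = 4
  rw [C.cardD, F.card_U]

/-- The value at `d0`. -/
def valOut {X : Subgroup G} (hX : X ≤ R) (x : X) : F.Out :=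
  ⟨(x : G) * F.d0 * (x : G)⁻¹, F.big.conjD (hX x.2) F.hd0, F.conj_notMem_U (hX x.2) F.d0_notMem⟩

/-- The value at `u`. -/
def valU {X : Subgroup G} (hX : X ≤ R) (x : X) : ({F.u, F.z * F.u} : Set G) :=
  ⟨(x : G) * F.u * (x : G)⁻¹, F.moveu _ (hX x.2)⟩

theorem diff_u {x x' : G} (hx : x ∈ R) (hx' : x' ∈ R) (h : x * F.u * x⁻¹ = x' * F.u * x'⁻¹) :
    x⁻¹ * x' ∈ F.Q := by
  refine F.mem_Q_of_u (mul_mem (inv_mem hx) hx') ?_
  calc x⁻¹ * x' * F.u * (x⁻¹ * x')⁻¹ = x⁻¹ * (x' * F.u * x'⁻¹) * x := by group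
    _ = F.u := by rw [← h]; group

theorem card_pair : Nat.card ({F.u, F.z * F.u} : Set G) = 2 := by
  rw [Nat.card_coe_set_eq]
  exact Set.ncard_pair fun e => F.z1 (mul_eq_right.1 e.symm)

theorem Q_le : F.Q ≤ R := inf_le_left

theorem card_Q_le : Nat.card F.Q ≤ 64 := by
  have h := card_le_fib F.Q C.T (F.valOut F.Q_le) fun x x' e => F.diff_d0 x.2 x'.2 (congrArg Subtype.val e)
  rw [F.card_Out, C.card_T] at h
  omega

theorem card_R_le : Nat.card R ≤ 2 * Nat.card F.Q := by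
  have h := card_le_fib R F.Q (F.valU le_rfl) fun x x' e => F.diff_u x.2 x'.2 (congrArg Subtype.val e)
  rwa [F.card_pair] at h

theorem card_R : Nat.card R = 128 ∧ Nat.card F.Q = 64 := by
  have h1 := F.card_Q_le
  have h2 := F.card_R_le
  have h3 := F.big.big
  omega

theorem surj_d0 {y : G} (hy : y ∈ C.D) (hy' : y ∉ F.U) : ∃ q ∈ F.Q, q * F.d0 * q⁻¹ = y := by
  obtain ⟨q, hq⟩ := surj_of_fib F.Q C.T (F.valOut F.Q_le)
    (fun x x' e => F.diff_d0 x.2 x'.2 (congrArg Subtype.val e))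
    (by rw [F.card_Out, C.card_T, F.card_R.2]) ⟨y, hy, hy'⟩
  exact ⟨q, q.2, congrArg Subtype.val hq⟩

/-- Squares in the centraliser of the hyperplane. -/
theorem sq_Q {x : G} (hx : x ∈ F.Q) : x * x ∈ C.D := by
  have hxU := (F.mem_Q.1 hx).2
  have hxR := (F.mem_Q.1 hx).1
  have h1 : x * x * F.d0 * (x * x)⁻¹ = F.d0 := by
    have hv : F.d0 * (x * F.d0 * x⁻¹) ∈ F.U := by
      refine ((F.mem_D_iff).1 (F.big.conjD hxR F.hd0)).resolve_left (F.conj_notMem_U hxR F.d0_notMem)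
    calc x * x * F.d0 * (x * x)⁻¹ = x * F.d0⁻¹ * x⁻¹ * (x * (F.d0 * (x * F.d0 * x⁻¹)) * x⁻¹) := by group
      _ = x * F.d0⁻¹ * x⁻¹ * (F.d0 * (x * F.d0 * x⁻¹)) := by rw [hxU _ hv]
      _ = x * F.d0⁻¹ * x⁻¹ * (x * F.d0 * x⁻¹ * F.d0) := by rw [C.commD F.hd0 (F.big.conjD hxR F.hd0)]
      _ = F.d0 := by group
  have h2 : x * x ∈ C.T := F.mem_T_of_fix (mul_mem hx hx) h1
  by_contra hD
  have := C.cent F.big.pgroup F.big.le h2 hD hxR (by group)
  exact hD (by rw [C.sq_T this]; exact one_mem _)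

theorem exists_b : ∃ b ∈ R, b ∉ F.Q ∧ b * F.d0 * b⁻¹ = F.d0 ∧ b * b ∈ C.D := by
  obtain ⟨s, hs, hsQ⟩ : ∃ s ∈ R, s ∉ F.Q := by
    by_contra hno
    push Not at hno
    have h1 := card_le_of_le (H := R) (K := F.Q) hno
    rw [F.card_R.1, F.card_R.2] at h1
    omega
  obtain ⟨q, hq, hqd⟩ := F.surj_d0 (y := s⁻¹ * F.d0 * s) (by simpa using F.big.conjD (inv_mem hs) F.hd0)
    (by simpa using F.conj_notMem_U (inv_mem hs) F.d0_notMem)
  set b := s * q with hb
  have hbR : b ∈ R := mul_mem hs (F.Q_le hq)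
  have hbQ : b ∉ F.Q := fun h => hsQ (by
    have := mul_mem h (inv_mem hq)
    rwa [hb, mul_inv_cancel_right] at this)
  have hbd : b * F.d0 * b⁻¹ = F.d0 := by
    rw [hb, show s * q * F.d0 * (s * q)⁻¹ = s * (q * F.d0 * q⁻¹) * s⁻¹ by group, hqd]
    group
  have hbu : b * F.u * b⁻¹ = F.z * F.u :=
    (F.moveu b hbR).resolve_left fun h => hbQ (F.mem_Q_of_u hbR h)
  have hbb : b * b ∈ F.Q := by
    refine F.mem_Q_of_u (mul_mem hbR hbR) ?_
    calc b * b * F.u * (b * b)⁻¹ = b * (b * F.u * b⁻¹) * b⁻¹ := by group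
      _ = b * (F.z * F.u) * b⁻¹ := by rw [hbu]
      _ = b * F.z * b⁻¹ * (b * F.u * b⁻¹) := by group
      _ = F.u := by rw [F.fixz b hbR, hbu, ← mul_assoc, C.sqD _ F.hz, one_mul]
  have hbbd : b * b * F.d0 * (b * b)⁻¹ = F.d0 := by
    rw [show b * b * F.d0 * (b * b)⁻¹ = b * (b * F.d0 * b⁻¹) * b⁻¹ by group, hbd, hbd]
  have h2 : b * b ∈ C.T := F.mem_T_of_fix hbb hbbd
  refine ⟨b, hbR, hbQ, hbd, ?_⟩
  by_contra hD
  exact hbQ (F.T_le_Q (C.cent F.big.pgroup F.big.le h2 hD hbR (by group)))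

end Frame

end EightCfg

end Cfsg.Agent.TwoXDih
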