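import Cfsg.Agent.Lib.TwoXDih.Full
import Cfsg.Agent.Lib.TwoXDih.Transfer
import Mathlib.Algebra.CharP.Two
import Mathlib.FieldTheory.Finite.Basic

/-!
# The elementary case: the orbit of `t` under the normalizer of `T`
-/

set_option autoImplicit false
set_option linter.unusedSectionVars false
set_option linter.style.haveILetI false
set_option linter.unusedVariables false

namespace Cfsg.Agent.TwoXDih

open Subgroup

universe u

/-- The data when `D` is elementary abelian. -/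
structure ECfg (G : Type u) [Group G] where
  t : G
  D : Subgroup G
  T : Subgroup G
  memT : ∀ x, x ∈ T ↔ x ∈ D ∨ t * x ∈ D
  tsq : t * t = 1
  tnot : t ∉ D
  sqD : ∀ d ∈ D, d * d = 1
  four : 4 ≤ Nat.card D
  commD : ∀ d ∈ D, d * t = t * d
  full : Full t T
  k : G
  kt : k * t = t * k
  kD : ∀ d ∈ D, k * d * k⁻¹ ∈ D
  trans : ∀ d ∈ D, ∀ e ∈ D, d ≠ 1 → e ≠ 1 → ∃ i : ℕ, k ^ i * d * (k ^ i)⁻¹ = e
  nD : ∀ g : G, g * t = t * g → (∀ x ∈ T, g * x * g⁻¹ ∈ T) → ∀ d ∈ D, g * d * g⁻¹ ∈ D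

namespace ECfg

variable {G : Type u} [Group G] [Finite G] (C : ECfg G)

theorem DT {d : G} (hd : d ∈ C.D) : d ∈ C.T := (C.memT d).2 (Or.inl hd)

theorem tT : C.t ∈ C.T := C.full.tT

theorem sqT {x : G} (hx : x ∈ C.T) : x * x = 1 := by
  rcases (C.memT x).1 hx with h | h
  · exact C.sqD x h
  · have h1 := C.sqD _ h
    have h2 : x * C.t = C.t * x := C.full.cent x hx
    rwa [mul_assoc, ← mul_assoc x, h2, mul_assoc, ← mul_assoc C.t, C.tsq, one_mul] at h1

theorem commT {x y : G} (hx : x ∈ C.T) (hy : y ∈ C.T) : x * y = y * x := by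
  have h := inv_eq_of_mul_eq_one_right (C.sqT (C.T.mul_mem hx hy))
  rw [mul_inv_rev, inv_eq_of_mul_eq_one_right (C.sqT hx), inv_eq_of_mul_eq_one_right (C.sqT hy)] at h
  exact h.symm

theorem kT {x : G} (hx : x ∈ C.T) : C.k * x * C.k⁻¹ ∈ C.T := by
  rcases (C.memT x).1 hx with h | h
  · exact C.DT (C.kD x h)
  · refine (C.memT _).2 (Or.inr ?_)
    have := C.kD _ h
    rwa [show C.k * (C.t * x) * C.k⁻¹ = C.k * C.t * (x * C.k⁻¹) by group, C.kt, mul_assoc,
      ← mul_assoc C.k] at this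

theorem kN : C.k ∈ Subgroup.normalizer (C.T : Set G) := Subgroup.mem_normalizer_fintype fun _ => C.kT

theorem tne : C.t ≠ 1 := fun e => C.tnot (e ▸ C.D.one_mem)

/-- The orbit of `t` under the normalizer of `T`. -/
def O : Set G := SixInv.orb (Subgroup.normalizer (C.T : Set G)) C.t

theorem t_mem_O : C.t ∈ C.O := SixInv.mem_orb_self _ _

theorem O_sub {u : G} (hu : u ∈ C.O) : u ∈ C.T ∧ u ≠ 1 := by
  obtain ⟨g, hg, rfl⟩ := hu
  exact ⟨(Subgroup.mem_normalizer_iff.1 hg _).1 C.tT, fun e => C.tne (by simpa using e)⟩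

theorem O_inv {g : G} (hg : g ∈ Subgroup.normalizer (C.T : Set G)) {u : G} (hu : u ∈ C.O) :
    g * u * g⁻¹ ∈ C.O := by
  obtain ⟨h, hh, rfl⟩ := hu
  exact ⟨g * h, mul_mem hg hh, by group⟩

theorem O_kpow {u : G} (hu : u ∈ C.O) (i : ℕ) : C.k ^ i * u * (C.k ^ i)⁻¹ ∈ C.O :=
  C.O_inv (Subgroup.pow_mem _ C.kN i) hu

theorem kpow_t (i : ℕ) : C.k ^ i * C.t * (C.k ^ i)⁻¹ = C.t := by
  rw [(Commute.pow_left (C.kt : Commute C.k C.t) i).eq, mul_inv_cancel_right]

theorem O_D {d : G} (hd : d ∈ C.D) (hdO : d ∈ C.O) : ∀ e ∈ C.D, e ≠ 1 → e ∈ C.O := by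
  intro e he he1
  obtain ⟨i, hi⟩ := C.trans d hd e he (C.O_sub hdO).2 he1
  exact hi ▸ C.O_kpow hdO i

theorem O_tD {d : G} (hd : d ∈ C.D) (hd1 : d ≠ 1) (hdO : C.t * d ∈ C.O) :
    ∀ e ∈ C.D, C.t * e ∈ C.O := by
  intro e he
  by_cases he1 : e = 1
  · rw [he1, mul_one]; exact C.t_mem_O
  obtain ⟨i, hi⟩ := C.trans d hd e he hd1 he1
  have := C.O_kpow hdO i
  rwa [show C.k ^ i * (C.t * d) * (C.k ^ i)⁻¹ = (C.k ^ i * C.t * (C.k ^ i)⁻¹) * (C.k ^ i * d * (C.k ^ i)⁻¹) by
    group, C.kpow_t, hi] at this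

theorem O_card : (C.O).ncard * Nat.card ↥(Subgroup.normalizer (C.T : Set G) ⊓ centralizer ({C.t} : Set G)) =
    Nat.card (Subgroup.normalizer (C.T : Set G)) := SixInv.orb_card _ _

theorem T_le_NC : C.T ≤ Subgroup.normalizer (C.T : Set G) ⊓ centralizer ({C.t} : Set G) :=
  le_inf le_normalizer fun x hx => mem_centralizer_singleton_iff.2 (C.full.cent x hx)

theorem odd_O (S : Sylow 2 G) (hS : (S : Subgroup G) = C.T) : Odd (C.O).ncard := by
  haveI : Fact (Nat.Prime 2) := ⟨Nat.prime_two⟩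
  rw [← Nat.not_even_iff_odd, even_iff_two_dvd]
  intro h
  have h1 : 2 * Nat.card C.T ∣ Nat.card G := by
    refine (Nat.mul_dvd_mul h (Subgroup.card_dvd_of_le C.T_le_NC)).trans ?_
    rw [C.O_card]
    exact Subgroup.card_subgroup_dvd_card _
  refine S.not_dvd_index ?_
  rw [← (S : Subgroup G).card_mul_index, hS, mul_comm 2] at h1
  rw [hS]
  exact Nat.dvd_of_mul_dvd_mul_left Nat.card_pos h1

theorem exists_move (S : Sylow 2 G) (hTS : C.T < (S : Subgroup G)) :
    ∃ x ∈ Subgroup.normalizer (C.T : Set G), x * C.t * x⁻¹ ≠ C.t ∧ Even (C.O).ncard := by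
  haveI : Fact (Nat.Prime 2) := ⟨Nat.prime_two⟩
  haveI := S.2.isNilpotent
  obtain ⟨x, hxN, hxT⟩ := SetLike.exists_of_lt (Group.normalizerCondition_of_isNilpotent (C.T.subgroupOf (S : Subgroup G))
    (lt_top_iff_ne_top.2 fun e => hTS.not_ge (Subgroup.subgroupOf_eq_top.1 e)))
  have hxN' : (x : G) ∈ Subgroup.normalizer (C.T : Set G) := Subgroup.mem_normalizer_fintype fun y hy =>
    (Subgroup.mem_normalizer_iff.1 hxN ⟨y, hTS.le hy⟩).1 hy
  refine ⟨x, hxN', fun e => hxT (C.full.inter S.2 hTS.le x.2 (mul_inv_eq_iff_eq_mul.1 e)), ?_⟩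
  rw [even_iff_two_dvd]
  set N := Subgroup.normalizer (C.T : Set G)
  set H := N ⊓ centralizer ({C.t} : Set G)
  obtain ⟨P, hP⟩ := (C.full.pg.of_injective (Subgroup.subgroupOfEquivOfLe C.T_le_NC).toMonoidHom
    (MulEquiv.injective _) : IsPGroup 2 (C.T.subgroupOf H)).exists_le_sylow
  have hPle : Nat.card (P : Subgroup H) ≤ Nat.card C.T := by
    refine le_of_eq_of_le ?_ (C.full.card_le (P.2.map H.subtype) ?_)
    · exact (Subgroup.card_map_of_injective (Subgroup.subtype_injective _)).symm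
    · rintro _ ⟨y, -, rfl⟩
      exact mem_centralizer_singleton_iff.1 y.2.2
  have hPN : 2 * Nat.card C.T ∣ Nat.card N := by
    set Y : Subgroup G := Subgroup.zpowers (x : G) ⊔ C.T
    have hY : IsPGroup 2 Y := S.2.to_le (sup_le (Subgroup.zpowers_le.2 x.2) hTS.le)
    have hYN : Y ≤ N := sup_le (Subgroup.zpowers_le.2 hxN') le_normalizer
    have hlt : C.T < Y := lt_of_le_of_ne le_sup_right fun e =>
      hxT (show (x : G) ∈ C.T from e ▸ Subgroup.mem_sup_left (Subgroup.mem_zpowers _))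
    obtain ⟨c, hc⟩ := IsPGroup.iff_card.1 C.full.pg
    obtain ⟨d, hd⟩ := IsPGroup.iff_card.1 hY
    have hcd : c < d := by
      by_contra hle
      exact hlt.ne (Subgroup.eq_of_le_of_card_ge hlt.le (by rw [hc, hd]; exact Nat.pow_le_pow_right (by norm_num) (by omega)))
    refine dvd_trans ?_ (Subgroup.card_dvd_of_le hYN)
    rw [hc, hd, ← pow_succ']
    exact pow_dvd_pow 2 (by omega)
  by_contra hodd
  have h2 : 2 * Nat.card C.T ∣ Nat.card H := by
    rw [← C.O_card] at hPN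
    obtain ⟨c, hc⟩ := IsPGroup.iff_card.1 C.full.pg
    rw [hc, ← pow_succ'] at hPN ⊢
    exact (Nat.Coprime.pow_left _ ((Nat.prime_two.coprime_iff_not_dvd).2 hodd)).dvd_of_dvd_mul_left hPN
  obtain ⟨c, hc⟩ := IsPGroup.iff_card.1 C.full.pg
  rw [hc, ← pow_succ'] at h2
  rw [hc, Sylow.card_eq_multiplicity] at hPle
  have := (Nat.prime_two.pow_dvd_iff_le_factorization Nat.card_pos.ne').1 h2
  have := (Nat.pow_le_pow_iff_right (le_refl 2)).1 hPle
  omega

theorem card_T : Nat.card C.T = 2 * Nat.card C.D := by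
  have hle : C.D ≤ C.T := fun d => C.DT
  have hi : (C.D.subgroupOf C.T).index = 2 := by
    rw [Subgroup.index_eq_two_iff_exists_notMem_and']
    exact ⟨⟨C.t, C.tT⟩, C.tnot, fun b => ((C.memT b.1).1 b.2).symm⟩
  rw [← (C.D.subgroupOf C.T).card_mul_index, hi, Nat.card_congr (Subgroup.subgroupOfEquivOfLe hle).toEquiv,
    mul_comm]

/-- `{t} ∪ D#`. -/
theorem O_shape_D_card (h1 : ∀ d ∈ C.D, d ≠ 1 → d ∈ C.O) (h2 : ∀ d ∈ C.D, d ≠ 1 → C.t * d ∉ C.O) :
    (C.O).ncard = Nat.card C.D := by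
  classical
  have e : C.O = (fun d : G => if d = 1 then C.t else d) '' (C.D : Set G) := by
    ext u
    constructor
    · intro hu
      rcases (C.memT u).1 (C.O_sub hu).1 with h | h
      · exact ⟨u, h, if_neg (C.O_sub hu).2⟩
      · by_cases h1 : C.t * u = 1
        · refine ⟨1, C.D.one_mem, (if_pos rfl).trans ?_⟩
          rw [eq_inv_of_mul_eq_one_right h1, inv_eq_of_mul_eq_one_right C.tsq]
        · exfalso
          refine h2 _ h h1 ?_
          rwa [← mul_assoc, C.tsq, one_mul]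
    · rintro ⟨d, hd, rfl⟩
      by_cases hd1 : d = 1
      · show (if d = 1 then C.t else d) ∈ C.O
        rw [if_pos hd1]; exact C.t_mem_O
      · show (if d = 1 then C.t else d) ∈ C.O
        rw [if_neg hd1]; exact h1 d hd hd1
  have hinj : Set.InjOn (fun d : G => if d = 1 then C.t else d) (C.D : Set G) := by
    intro a ha b hb hab
    simp only at hab
    split_ifs at hab with ha1 hb1 hb1
    · rw [ha1, hb1]
    · exact absurd (hab ▸ hb) C.tnot
    · exact absurd (hab ▸ ha) C.tnot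
    · exact hab
  rw [e, hinj.ncard_image, ← Nat.card_coe_set_eq]
  rfl

/-- `t D`. -/
theorem O_shape_tD_card (h1 : ∀ d ∈ C.D, d ≠ 1 → d ∉ C.O) (h2 : ∀ d ∈ C.D, C.t * d ∈ C.O) :
    (C.O).ncard = Nat.card C.D := by
  have e : C.O = (fun d : G => C.t * d) '' (C.D : Set G) := by
    ext u
    constructor
    · intro hu
      rcases (C.memT u).1 (C.O_sub hu).1 with h | h
      · exact absurd hu (h1 u h (C.O_sub hu).2)
      · refine ⟨C.t * u, h, ?_⟩
        show C.t * (C.t * u) = u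
        rw [← mul_assoc, C.tsq, one_mul]
    · rintro ⟨d, hd, rfl⟩
      exact h2 d hd
  rw [e, ((mul_right_injective C.t).injOn).ncard_image, ← Nat.card_coe_set_eq]
  rfl

theorem card_D_even : Even (Nat.card C.D) := by
  haveI : Fact (Nat.Prime 2) := ⟨Nat.prime_two⟩
  obtain ⟨n, hn⟩ := IsPGroup.iff_card.1 (fun d : C.D => ⟨1, Subtype.ext (by
    show ((d : G)) ^ (2 ^ 1) = 1
    rw [pow_one, pow_two, C.sqD _ d.2])⟩ : IsPGroup 2 C.D)
  have := C.four
  rw [hn] at this ⊢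
  cases n with
  | zero => simp at this
  | succ n => exact ⟨2 ^ n, by ring⟩

/-- The fusion when `T` is not a Sylow subgroup. -/
theorem fusion (S : Sylow 2 G) (hTS : C.T < (S : Subgroup G)) :
    (∀ d ∈ C.D, IsConj C.t (C.t * d)) ∧ (∀ d ∈ C.D, ¬ IsConj C.t d) := by
  classical
  obtain ⟨x, hx, hxt, heven⟩ := C.exists_move S hTS
  have hxO : x * C.t * x⁻¹ ∈ C.O := C.O_inv hx C.t_mem_O
  have htd : ∃ d ∈ C.D, d ≠ 1 ∧ C.t * d ∈ C.O := by
    by_contra hno
    push Not at hno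
    have hu : x * C.t * x⁻¹ ∈ C.D := by
      rcases (C.memT _).1 (C.O_sub hxO).1 with h | h
      · exact h
      · exfalso
        refine hno _ h (fun e => hxt ?_) ?_
        · rw [eq_inv_of_mul_eq_one_right e, inv_eq_of_mul_eq_one_right C.tsq]
        · rwa [← mul_assoc, C.tsq, one_mul]
    have hDO := C.O_D hu hxO
    -- the element `v`
    obtain ⟨v, hvD, hv1, hvu⟩ : ∃ v ∈ C.D, v ≠ 1 ∧ v ≠ x * C.t * x⁻¹ := by
      by_contra hc
      push Not at hc
      have hsub : (C.D : Set G) ⊆ {1, x * C.t * x⁻¹} := fun e he => by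
        by_cases e1 : e = 1
        · exact Or.inl e1
        · exact Or.inr (hc e he e1)
      have h1 := Nat.card_mono (Set.toFinite _) hsub
      rw [SetLike.coe_sort_coe, Nat.card_coe_set_eq] at h1
      have h2 := Set.ncard_insert_le (1 : G) ({x * C.t * x⁻¹} : Set G)
      rw [Set.ncard_singleton] at h2
      have := C.four
      omega
    have hw := C.O_inv (inv_mem hx) (hDO v hvD hv1)
    rw [inv_inv] at hw
    have huv := C.O_inv hx (u := C.t * (x⁻¹ * v * x))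
    have hw' : x⁻¹ * v * x ∈ C.D := by
      rcases (C.memT _).1 (C.O_sub hw).1 with h | h
      · exact h
      · exfalso
        refine hno _ h (fun e => hvu ?_) ?_
        · have e' := eq_inv_of_mul_eq_one_right e
          rw [inv_eq_of_mul_eq_one_right C.tsq] at e'
          rw [← e']; group
        · rwa [← mul_assoc, C.tsq, one_mul]
    have hprod : x * C.t * x⁻¹ * v ∈ C.O := by
      refine hDO _ (C.D.mul_mem hu hvD) fun e => hvu ?_
      rw [eq_inv_of_mul_eq_one_right e, inv_eq_of_mul_eq_one_right (C.sqD _ hu)]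
    have h3 := C.O_inv (inv_mem hx) hprod
    rw [show x⁻¹ * (x * C.t * x⁻¹ * v) * x⁻¹⁻¹ = C.t * (x⁻¹ * v * x) by group] at h3
    exact hno _ hw' (fun e => (C.O_sub hw).2 e) h3
  obtain ⟨d, hd, hd1, hdO⟩ := htd
  have htD := C.O_tD hd hd1 hdO
  have hD : ∀ e ∈ C.D, e ≠ 1 → e ∉ C.O := by
    intro e he he1 heO
    have hDO := C.O_D he heO
    have eO : C.O = (C.T : Set G) \ {1} := by
      ext u
      refine ⟨fun hu => C.O_sub hu, fun ⟨huT, hu1⟩ => ?_⟩
      rcases (C.memT u).1 huT with h | h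
      · exact hDO u h hu1
      · have := htD _ h
        rwa [← mul_assoc, C.tsq, one_mul] at this
    have hcard := congrArg Set.ncard eO
    rw [Set.ncard_sdiff (Set.singleton_subset_iff.2 C.T.one_mem), Set.ncard_singleton, ← Nat.card_coe_set_eq (C.T : Set G),
      SetLike.coe_sort_coe, C.card_T] at hcard
    rw [hcard] at heven
    obtain ⟨r, hr⟩ := heven
    have := C.four
    omega
  refine ⟨fun e he => ?_, fun e he hconj => ?_⟩
  · obtain ⟨g, -, hg⟩ := htD e he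
    exact isConj_iff.2 ⟨g, hg⟩
  · have he1 : e ≠ 1 := fun h1 => C.tne (by
      rw [h1, isConj_iff] at hconj
      obtain ⟨g, hg⟩ := hconj
      rw [conj_eq_one_iff] at hg
      exact hg)
    obtain ⟨g, hg⟩ := isConj_iff.1 hconj.symm
    obtain ⟨c, hc, hcT⟩ := C.full.max (C.T.map (MulAut.conj g).toMonoidHom) (C.full.pg.map _) (by
      rintro _ ⟨y, hy, rfl⟩
      show g * y * g⁻¹ * C.t = C.t * (g * y * g⁻¹)
      calc _ = g * (y * e) * g⁻¹ := by rw [← hg]; group
        _ = _ := by rw [C.commT hy (C.DT he), ← hg]; group)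
    have hN : c * g ∈ Subgroup.normalizer (C.T : Set G) := Subgroup.mem_normalizer_fintype fun y hy => by
      have := hcT _ ⟨y, hy, rfl⟩
      show c * g * y * (c * g)⁻¹ ∈ C.T
      rwa [show c * g * y * (c * g)⁻¹ = c * (g * y * g⁻¹) * c⁻¹ by group]
    have hgt : (c * g) * e * (c * g)⁻¹ = C.t := by
      rw [show (c * g) * e * (c * g)⁻¹ = c * (g * e * g⁻¹) * c⁻¹ by group, hg, hc, mul_inv_cancel_right]
    have := C.O_inv (inv_mem hN) C.t_mem_O
    rw [← hgt, show (c * g)⁻¹ * (c * g * e * (c * g)⁻¹) * (c * g)⁻¹⁻¹ = e by group] at this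
    exact hD e he he1 this

/-- The orbit is everything when `T` is a Sylow subgroup. -/
theorem O_all [IsSimpleGroup G] (hG : ¬ IsMulCommutative G) (S : Sylow 2 G) (hS : (S : Subgroup G) = C.T) :
    ∀ u ∈ C.T, u ≠ 1 → u ∈ C.O := by
  haveI : Fact (Nat.Prime 2) := ⟨Nat.prime_two⟩
  haveI : IsMulCommutative (S : Subgroup G) :=
    ⟨⟨fun a b => Subtype.ext (C.commT ((SetLike.ext_iff.1 hS _).1 a.2) ((SetLike.ext_iff.1 hS _).1 b.2))⟩⟩
  obtain ⟨g, hgS, hgne⟩ := exists_conj_ne hG S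
    (orderOf_eq_prime (by rw [pow_two]; exact C.tsq) C.tne) (hS ▸ C.tT)
  obtain ⟨n, hn, hne⟩ := S.conj_eq_normalizer_conj_of_mem C.t g⁻¹ (show C.t ∈ (S : Subgroup G) from hS ▸ C.tT) (by rwa [inv_inv])
  rw [inv_inv] at hne
  replace hn : n ∈ Subgroup.normalizer (C.T : Set G) := by rw [← hS]; exact hn
  have hu : g * C.t * g⁻¹ ∈ C.O := by
    rw [hne]
    have := C.O_inv (inv_mem hn) C.t_mem_O
    rwa [inv_inv] at this
  have hodd := Nat.not_even_iff_odd.2 (C.odd_O S hS)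
  intro u hu' hu1
  by_cases hD : ∀ d ∈ C.D, d ≠ 1 → d ∈ C.O
  · by_cases htD : ∀ d ∈ C.D, C.t * d ∈ C.O
    · rcases (C.memT u).1 hu' with h | h
      · exact hD u h hu1
      · have := htD _ h
        rwa [← mul_assoc, C.tsq, one_mul] at this
    · exfalso
      apply hodd
      rw [C.O_shape_D_card hD fun d hd hd1 hdO => htD (C.O_tD hd hd1 hdO)]
      exact C.card_D_even
  · exfalso
    have hD' : ∀ d ∈ C.D, d ≠ 1 → d ∉ C.O := fun d hd _ hdO => hD (C.O_D hd hdO)
    apply hodd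
    rw [C.O_shape_tD_card hD' ?_]
    · exact C.card_D_even
    rcases (C.memT _).1 (C.O_sub hu).1 with h | h
    · exact absurd hu (hD' _ h (C.O_sub hu).2)
    · refine C.O_tD h (fun e => hgne ?_) ?_
      · rw [eq_inv_of_mul_eq_one_right e, inv_eq_of_mul_eq_one_right C.tsq]
      · rwa [← mul_assoc, C.tsq, one_mul]

end ECfg

end Cfsg.Agent.TwoXDih
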