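import Mathlib.GroupTheory.Sylow

/-!
# Sylow subgroups of the centralizer of an involution
-/

set_option autoImplicit false
set_option linter.unusedSectionVars false
set_option linter.style.haveILetI false

namespace Cfsg.Agent.TwoXDih

open Subgroup

universe u

variable {G : Type u} [Group G] [Finite G]

/-- `T` is a Sylow 2-subgroup of `C(t)` containing `t`. -/
structure Full (t : G) (T : Subgroup G) : Prop where
  cent : ∀ x ∈ T, x * t = t * x
  pg : IsPGroup 2 T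
  tT : t ∈ T
  max : ∀ P : Subgroup G, IsPGroup 2 P → (∀ x ∈ P, x * t = t * x) →
    ∃ c : G, c * t = t * c ∧ ∀ x ∈ P, c * x * c⁻¹ ∈ T

namespace Full

variable {t : G} {T : Subgroup G}

theorem card_le (F : Full t T) {P : Subgroup G} (hP : IsPGroup 2 P) (hc : ∀ x ∈ P, x * t = t * x) :
    Nat.card P ≤ Nat.card T := by
  obtain ⟨c, -, h⟩ := F.max P hP hc
  exact Nat.card_le_card_of_injective (fun x => (⟨c * x.1 * c⁻¹, h x.1 x.2⟩ : T)) fun a b e =>
    Subtype.ext (mul_left_cancel (mul_right_cancel (congrArg (fun w : T => (w : G)) e)))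

theorem eq_of_ge (F : Full t T) {P : Subgroup G} (hP : IsPGroup 2 P) (hc : ∀ x ∈ P, x * t = t * x)
    (hle : T ≤ P) : P = T :=
  (Subgroup.eq_of_le_of_card_ge hle (F.card_le hP hc)).symm

theorem ord (F : Full t T) {x : G} (hx : x ∈ T) : ∃ n : ℕ, orderOf x = 2 ^ n := by
  haveI : Fact (Nat.Prime 2) := ⟨Nat.prime_two⟩
  obtain ⟨n, hn⟩ := IsPGroup.iff_orderOf.1 F.pg ⟨x, hx⟩
  exact ⟨n, by rw [← hn, Subgroup.orderOf_mk]⟩

theorem pg_zpowers {x : G} (hx : ∃ n : ℕ, orderOf x = 2 ^ n) : IsPGroup 2 (Subgroup.zpowers x) := by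
  obtain ⟨n, hn⟩ := hx
  exact IsPGroup.of_card (n := n) (by rw [Nat.card_zpowers, hn])

/-- A 2-element centralising `t` and normalising `T` lies in `T`. -/
theorem mem_of_normalises (F : Full t T) {x : G} (hx : ∃ n : ℕ, orderOf x = 2 ^ n) (hc : x * t = t * x)
    (hn : ∀ y ∈ T, x * y * x⁻¹ ∈ T) : x ∈ T := by
  have hle : Subgroup.zpowers x ≤ Subgroup.normalizer (T : Set G) := by
    rw [Subgroup.zpowers_le]
    exact Subgroup.mem_normalizer_fintype hn
  have hP := IsPGroup.to_sup_of_normal_right' (pg_zpowers hx) F.pg hle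
  have hcle : Subgroup.zpowers x ⊔ T ≤ centralizer ({t} : Set G) := by
    refine sup_le (Subgroup.zpowers_le.2 (mem_centralizer_singleton_iff.2 hc)) fun y hy =>
      mem_centralizer_singleton_iff.2 (F.cent y hy)
  have := F.eq_of_ge hP (fun y hy => mem_centralizer_singleton_iff.1 (hcle hy)) le_sup_right
  rw [← this]
  exact Subgroup.mem_sup_left (Subgroup.mem_zpowers x)

/-- Conjugation. -/
theorem map (F : Full t T) (g : G) : Full (g * t * g⁻¹) (T.map (MulAut.conj g).toMonoidHom) := by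
  refine ⟨?_, F.pg.map _, ⟨t, F.tT, rfl⟩, fun P hP hc => ?_⟩
  · rintro _ ⟨x, hx, rfl⟩
    show g * x * g⁻¹ * (g * t * g⁻¹) = g * t * g⁻¹ * (g * x * g⁻¹)
    calc _ = g * (x * t) * g⁻¹ := by group
      _ = _ := by rw [F.cent x hx]; group
  · obtain ⟨c, hct, hcP⟩ := F.max (P.map (MulAut.conj g⁻¹).toMonoidHom) (hP.map _) (by
      rintro _ ⟨x, hx, rfl⟩
      show g⁻¹ * x * g⁻¹⁻¹ * t = t * (g⁻¹ * x * g⁻¹⁻¹)
      calc _ = g⁻¹ * (x * (g * t * g⁻¹)) * g := by group
        _ = _ := by rw [hc x hx]; group)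
    refine ⟨g * c * g⁻¹, ?_, fun x hx => ⟨_, hcP _ ⟨x, hx, rfl⟩, ?_⟩⟩
    · calc g * c * g⁻¹ * (g * t * g⁻¹) = g * (c * t) * g⁻¹ := by group
        _ = _ := by rw [hct]; group
    · show g * (c * (g⁻¹ * x * g⁻¹⁻¹) * c⁻¹) * g⁻¹ = _
      group

/-- A Sylow subgroup containing `T` meets `C(t)` in `T`. -/
theorem inter (F : Full t T) {S : Subgroup G} (hS : IsPGroup 2 S) (hTS : T ≤ S) {x : G} (hx : x ∈ S)
    (hc : x * t = t * x) : x ∈ T := by
  have hle : T ≤ S ⊓ centralizer ({t} : Set G) :=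
    le_inf hTS fun y hy => mem_centralizer_singleton_iff.2 (F.cent y hy)
  have := F.eq_of_ge (hS.to_le inf_le_left) (fun y hy => mem_centralizer_singleton_iff.1 hy.2) hle
  rw [← this]
  exact ⟨hx, mem_centralizer_singleton_iff.2 hc⟩

theorem dvd_card (F : Full t T) : ∃ c : ℕ, Nat.card T = 2 ^ c ∧ 2 ^ c ∣ Nat.card (centralizer ({t} : Set G)) := by
  haveI : Fact (Nat.Prime 2) := ⟨Nat.prime_two⟩
  obtain ⟨c, hc⟩ := IsPGroup.iff_card.1 F.pg
  exact ⟨c, hc, hc ▸ Subgroup.card_dvd_of_le fun y hy => mem_centralizer_singleton_iff.2 (F.cent y hy)⟩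

/-- Some Sylow 2-subgroup contains `T`. -/
theorem exists_sylow (F : Full t T) : ∃ S : Sylow 2 G, T ≤ (S : Subgroup G) := F.pg.exists_le_sylow

end Full

end Cfsg.Agent.TwoXDih
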