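import Mathlib.LinearAlgebra.FiniteDimensional.Lemmas
import Mathlib.Algebra.Field.ZMod
import Mathlib.Data.Fintype.Pi
import Mathlib.GroupTheory.Subgroup.Centralizer
import Mathlib.SetTheory.Cardinal.Finite
import Mathlib.LinearAlgebra.Dual.Lemmas
import Mathlib.Data.ZMod.Basic
import Mathlib.LinearAlgebra.FreeModule.Finite.Matrix
import Mathlib.FieldTheory.Finiteness
import Mathlib.Algebra.Module.ZMod
import Mathlib.Data.Fintype.Prod
import Mathlib.FieldTheory.Finite.Basic

/-!
# Automorphisms of the elementary group of order eight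
-/

set_option autoImplicit false
set_option linter.style.haveILetI false

namespace Cfsg.Agent.TwoXDih

universe u

private abbrev V3 : Type := Fin 3 → ZMod 2

private def comb (f : Fin 3 → V3) (x : V3) : V3 := fun j => x 0 * f 0 j + x 1 * f 1 j + x 2 * f 2 j

private def enc (x : V3) : Fin 8 :=
  ⟨(x 0).val + 2 * (x 1).val + 4 * (x 2).val, by
    have := (x 0).val_lt; have := (x 1).val_lt; have := (x 2).val_lt; omega⟩

private theorem enc_inj : ∀ x y : V3, enc x = enc y → x = y := by decide +kernel

private theorem enc_add : ∀ x y : V3, (enc (x + y)).val = (enc x).val ^^^ (enc y).val := by decide +kernel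

private def tri : Finset (Fin 8 × Fin 8 × Fin 8) :=
  Finset.univ.filter fun p => p.1.val ≠ 0 ∧ p.2.1.val ≠ 0 ∧ p.2.1 ≠ p.1 ∧ p.2.2.val ≠ 0 ∧ p.2.2 ≠ p.1 ∧
    p.2.2 ≠ p.2.1 ∧ p.2.2.val ≠ p.1.val ^^^ p.2.1.val

private theorem card_tri : tri.card = 168 := by decide +kernel

private def imgs (φ : V3 ≃+ V3) : Fin 3 → V3 := fun i => φ (Pi.single i 1)

private theorem comb_imgs (φ : V3 ≃+ V3) (x : V3) : φ x = comb (imgs φ) x := by
  have h01 : ∀ c : ZMod 2, c = 0 ∨ c = 1 := by decide
  have hs : ∀ (i : Fin 3) (c : ZMod 2), φ (Pi.single i c) = fun j => c * φ (Pi.single i 1) j := by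
    intro i c
    rcases h01 c with rfl | rfl
    · funext j; simp
    · funext j; simp
  have e : x = Pi.single (0 : Fin 3) (x 0) + Pi.single (1 : Fin 3) (x 1) + Pi.single (2 : Fin 3) (x 2) := by
    funext j; fin_cases j <;> simp
  conv_lhs => rw [e, map_add, map_add, hs 0 (x 0), hs 1 (x 1), hs 2 (x 2)]
  funext j
  simp [comb, imgs]

private def code (φ : V3 ≃+ V3) : Fin 8 × Fin 8 × Fin 8 :=
  (enc (imgs φ 0), enc (imgs φ 1), enc (imgs φ 2))

private theorem code_inj {φ ψ : V3 ≃+ V3} (h : code φ = code ψ) : imgs φ = imgs ψ := by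
  simp only [code, Prod.mk.injEq] at h
  funext i
  fin_cases i
  · exact enc_inj _ _ h.1
  · exact enc_inj _ _ h.2.1
  · exact enc_inj _ _ h.2.2

private theorem code_mem (φ : V3 ≃+ V3) : code φ ∈ tri := by
  have h0 : ∀ x : V3, x ≠ 0 → (enc (φ x)).val ≠ 0 := fun x hx e =>
    hx (φ.injective ((enc_inj _ 0 (Fin.ext e)).trans φ.map_zero.symm))
  have hne : ∀ x y : V3, x ≠ y → enc (φ x) ≠ enc (φ y) := fun x y hxy e => hxy (φ.injective (enc_inj _ _ e))
  simp only [tri, Finset.mem_filter, Finset.mem_univ, true_and, code, imgs]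
  refine ⟨h0 _ (by decide), h0 _ (by decide), hne _ _ (by decide), h0 _ (by decide), hne _ _ (by decide),
    hne _ _ (by decide), ?_⟩
  rw [← enc_add, ← map_add]
  exact fun e => hne _ _ (by decide) (Fin.ext e)

private def ea : V3 ≃+ V3 where
  toFun x := ![x 0 + x 1, x 1, x 2]
  invFun x := ![x 0 + x 1, x 1, x 2]
  left_inv := by decide
  right_inv := by decide
  map_add' := by decide

private def eb : V3 ≃+ V3 where
  toFun x := ![x 0, x 1 + x 2, x 2]
  invFun x := ![x 0, x 1 + x 2, x 2]
  left_inv := by decide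
  right_inv := by decide
  map_add' := by decide

private theorem ea_ea : ∀ x, ea (ea x) = x := by decide +kernel
private theorem eb_eb : ∀ x, eb (eb x) = x := by decide +kernel
private theorem ab_four : ∀ x, ea (eb (ea (eb (ea (eb (ea (eb x))))))) = x := by decide +kernel
private theorem ne_ab : ea (eb ![0, 0, 1]) ≠ eb (ea ![0, 0, 1]) := by decide

private theorem exists_pair {A : Type u} [Group A] (L : (V3 ≃+ V3) → A)
    (hmul : ∀ φ ψ : V3 ≃+ V3, L φ * L ψ = L (ψ.trans φ)) (hone : L (AddEquiv.refl V3) = 1)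
    (hinj : ∀ φ ψ, L φ = L ψ → φ = ψ) :
    ∃ a b : A, a * a = 1 ∧ b * b = 1 ∧ a * b ≠ b * a ∧ (a * b) ^ 4 = 1 := by
  refine ⟨L ea, L eb, ?_, ?_, fun h => ?_, ?_⟩
  · rw [hmul, show ea.trans ea = AddEquiv.refl V3 from AddEquiv.ext ea_ea, hone]
  · rw [hmul, show eb.trans eb = AddEquiv.refl V3 from AddEquiv.ext eb_eb, hone]
  · rw [hmul, hmul] at h
    exact ne_ab (DFunLike.congr_fun (hinj _ _ h) ![0, 0, 1])
  · rw [show (4 : ℕ) = 2 + 2 from rfl, pow_add, sq, hmul, hmul, hmul,
      show (((eb.trans ea).trans (eb.trans ea)).trans ((eb.trans ea).trans (eb.trans ea))) = AddEquiv.refl V3 from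
        AddEquiv.ext ab_four, hone]

/-- At most 168 automorphisms; two involutions with product of order four. -/
theorem exists_gl3 (E : Type u) [CommGroup E] [Finite E] (h2 : ∀ x : E, x * x = 1) (h8 : Nat.card E = 8) :
    Nat.card (MulAut E) ≤ 168 ∧
      ∃ a b : MulAut E, a * a = 1 ∧ b * b = 1 ∧ a * b ≠ b * a ∧ (a * b) ^ 4 = 1 := by
  classical
  letI : Module (ZMod 2) (Additive E) := AddCommGroup.zmodModule fun x => by
    rw [two_nsmul]; exact congrArg Additive.ofMul (h2 x.toMul)
  haveI : Fact (Nat.Prime 2) := ⟨Nat.prime_two⟩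
  haveI : Module.Finite (ZMod 2) (Additive E) := Module.Finite.of_finite
  have hrank : Module.finrank (ZMod 2) (Additive E) = 3 := by
    have h := Module.natCard_eq_pow_finrank (K := ZMod 2) (V := Additive E)
    rw [Nat.card_congr Additive.toMul, h8, Nat.card_zmod] at h
    exact Nat.pow_right_injective le_rfl (h.symm.trans (by norm_num))
  let e : Additive E ≃+ V3 :=
    (Module.finBasisOfFinrankEq (ZMod 2) (Additive E) hrank).equivFun.toAddEquiv
  let M : E ≃* Multiplicative V3 := MulEquiv.toAdditive.symm (e.trans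
    (AddEquiv.additiveMultiplicative V3).symm)
  let tr : MulAut E → (V3 ≃+ V3) := fun f =>
    { toFun := fun x => (M (f (M.symm (Multiplicative.ofAdd x)))).toAdd
      invFun := fun x => (M (f.symm (M.symm (Multiplicative.ofAdd x)))).toAdd
      left_inv := fun x => by simp
      right_inv := fun x => by simp
      map_add' := fun x y => by simp [ofAdd_add, map_mul, toAdd_mul] }
  constructor
  · have hinj : Function.Injective fun f : MulAut E =>
        (⟨code (tr f), code_mem _⟩ : (tri : Finset _)) := by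
      intro f g h
      have h' : imgs (tr f) = imgs (tr g) := code_inj (congrArg Subtype.val h)
      refine MulEquiv.ext fun x => M.injective (Multiplicative.toAdd.injective ?_)
      have h1 := comb_imgs (tr f) (M x).toAdd
      have h2 := comb_imgs (tr g) (M x).toAdd
      rw [h'] at h1
      have h3 := h1.trans h2.symm
      simpa [tr] using h3
    refine (Nat.card_le_card_of_injective _ hinj).trans (le_of_eq ?_)
    rw [Nat.card_eq_finsetCard, card_tri]
  · let L : (V3 ≃+ V3) → MulAut E := fun φ => M.trans (φ.toMultiplicative.trans M.symm)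
    exact exists_pair L (fun φ ψ => MulEquiv.ext fun x => by simp [L, MulAut.mul_apply])
      (MulEquiv.ext fun x => by simp [L]) (fun φ ψ h => AddEquiv.ext fun y => by
        have := congrArg (fun f : MulAut E => (M (f (M.symm (Multiplicative.ofAdd y)))).toAdd) h
        simpa [L] using this)

end Cfsg.Agent.TwoXDih
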