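import Cfsg.Agent.Lib.TwoXDih.Full
import Cfsg.Agent.Lib.Transfer.Basic
import Cfsg.Agent.Lib.LocalEven.SylowAux
import Cfsg.Prelude.Def_CaseTheorems
import Mathlib.Algebra.Group.TypeTags.Finite
import Mathlib.Data.ZMod.Basic

/-!
# A centralizer of type `Z₂ × P` modulo its odd core: Sylow subgroup, complement and lifts
-/

set_option autoImplicit false
set_option linter.unusedSectionVars false
set_option linter.style.haveILetI false

namespace Cfsg.Agent.TwoXDih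

open Subgroup

universe u v

/-- The group of order two. -/
local notation "Z2" => Multiplicative (ZMod 2)

/-- A 2-subgroup mapping into the image of another is moved into it by an element of the odd kernel. -/
theorem exists_ker_conj_le {K : Type*} [Group K] [Finite K] {H : Type*} [Group H] (f : K →* H)
    (hker : Odd (Nat.card f.ker)) (B A : Subgroup K) (hB : IsPGroup 2 B) (hA : IsPGroup 2 A)
    (hAB : A.map f ≤ B.map f) : ∃ k : K, f k = 1 ∧ ∀ a ∈ A, k * a * k⁻¹ ∈ B := by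
  haveI : Fact (Nat.Prime 2) := ⟨Nat.prime_two⟩
  set R := (B.map f).comap f with hR
  have hBR : B ≤ R := fun z hz => ⟨z, hz, rfl⟩
  have hAR : A ≤ R := fun z hz => hAB ⟨z, hz, rfl⟩
  have hkR : f.ker ≤ R := fun o ho => by rw [hR, mem_comap, MonoidHom.mem_ker.1 ho]; exact one_mem _
  have hcompl : ∀ b ∈ R, ∃ o ∈ f.ker, ∃ z ∈ B, b = o * z := by
    rintro b ⟨z, hz, e⟩
    exact ⟨b * z⁻¹, by rw [MonoidHom.mem_ker, map_mul, map_inv, e, mul_inv_cancel], z, hz,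
      (inv_mul_cancel_right b z).symm⟩
  have hidx : ¬ 2 ∣ (B.subgroupOf R).index := by
    have h1 := (B.subgroupOf R).card_mul_index
    rw [Nat.card_congr (subgroupOfEquivOfLe hBR).toEquiv] at h1
    have h2 : Nat.card R ≤ Nat.card f.ker * Nat.card B := by
      rw [← Nat.card_prod]
      refine Nat.card_le_card_of_surjective
        (fun q : f.ker × B => (⟨q.1.1 * q.2.1, mul_mem (hkR q.1.2) (hBR q.2.2)⟩ : R)) fun b => ?_
      obtain ⟨o, ho, w, hw, e⟩ := hcompl b b.2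
      exact ⟨(⟨o, ho⟩, ⟨w, hw⟩), Subtype.ext e.symm⟩
    obtain ⟨n, hn'⟩ := IsPGroup.iff_card.1 hB
    have hdvd : Nat.card R = Nat.card f.ker * Nat.card B := le_antisymm h2 (Nat.le_of_dvd Nat.card_pos
      (Nat.Coprime.mul_dvd_of_dvd_of_dvd (by rw [hn']; exact (Nat.coprime_two_right.2 hker).pow_right n)
        (card_dvd_of_le hkR) (card_dvd_of_le hBR)))
    rw [hdvd, mul_comm (Nat.card f.ker)] at h1
    intro hd
    rw [Nat.eq_of_mul_eq_mul_left Nat.card_pos h1] at hd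
    exact (Nat.not_even_iff_odd.2 hker) (even_iff_two_dvd.2 hd)
  let P : Sylow 2 R := IsPGroup.toSylow (P := B.subgroupOf R) (hB.comap_of_injective R.subtype R.subtype_injective) hidx
  have hP : (P : Subgroup R).map R.subtype = B := by
    rw [show (P : Subgroup R) = B.subgroupOf R from rfl]
    exact map_subgroupOf_eq_of_le hBR
  obtain ⟨b, hb, hble⟩ := LESylow.exists_conj_le_of_le hAR hA P
  rw [hP] at hble
  obtain ⟨o, ho, z, hz, rfl⟩ := hcompl b hb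
  refine ⟨z⁻¹ * o * z, by simp [MonoidHom.mem_ker.1 ho], fun a ha => ?_⟩
  have h1 : o * z * a * (o * z)⁻¹ ∈ B := hble ⟨a, ha, rfl⟩
  have h2 := mul_mem (mul_mem (inv_mem hz) h1) hz
  rwa [show z⁻¹ * (o * z * a * (o * z)⁻¹) * z = z⁻¹ * o * z * a * (z⁻¹ * o * z)⁻¹ by group] at h2

/-- The map onto `Z₂ × P` with the data on `t`. -/
structure Bridge (G : Type u) [Group G] (P : Type v) [Group P] where
  t : G
  L : Subgroup G
  tsq : t * t = 1
  tL : t ∈ L
  cent : ∀ x ∈ L, x * t = t * x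
  normal : ∀ g : G, g * t = t * g → ∀ x ∈ L, g * x * g⁻¹ ∈ L
  two : ∀ x : G, x * t = t * x → (∃ n : ℕ, orderOf x = 2 ^ n) → x ∈ L
  φ : L →* Z2 × P
  surj : Function.Surjective φ
  odd : Odd (Nat.card φ.ker)
  φt : φ ⟨t, tL⟩ = (Multiplicative.ofAdd 1, 1)
  perfect : commutator P = ⊤

/-- A chosen Sylow subgroup of `P` with the corresponding Sylow subgroup of `C(t)`. -/
structure Frame {G : Type u} [Group G] {P : Type v} [Group P] (B : Bridge G P) (S₀ : Subgroup P) where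
  D : Subgroup G
  T : Subgroup G
  memT : ∀ x, x ∈ T ↔ x ∈ D ∨ B.t * x ∈ D
  tnot : B.t ∉ D
  commD : ∀ d ∈ D, d * B.t = B.t * d
  full : Full B.t T
  le : D ≤ B.L
  π : D ≃* S₀
  hπ : ∀ d : D, (π d : P) = (B.φ ⟨d, le d.2⟩).2
  fst : ∀ d : D, (B.φ ⟨d, le d.2⟩).1 = 1
  nD : ∀ g : G, g * B.t = B.t * g → (∀ x ∈ T, g * x * g⁻¹ ∈ T) → ∀ d ∈ D, g * d * g⁻¹ ∈ D

theorem z2_mul_self (a : Z2) : a * a = 1 := by
  revert a
  decide

theorem z2_cases (a : Z2) : a = 1 ∨ a = Multiplicative.ofAdd 1 := by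
  revert a
  decide

theorem z2_ne : (Multiplicative.ofAdd 1 : Z2) ≠ 1 := by decide

theorem z2_odd {K : Type*} [Group K] (f : K →* Z2) {x : K} (hx : Odd (orderOf x)) : f x = 1 := by
  obtain ⟨m, hm⟩ := hx
  have h1 : f x ^ (2 * m + 1) = 1 := by rw [← hm, ← map_pow, pow_orderOf_eq_one, map_one]
  rwa [pow_succ, pow_mul, pow_two, z2_mul_self, one_pow, one_mul] at h1

namespace Bridge

variable {G : Type u} [Group G] [Finite G] {P : Type v} [Group P] (B : Bridge G P)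

theorem le_centralizer : B.L ≤ centralizer ({B.t} : Set G) := fun x hx =>
  mem_centralizer_singleton_iff.2 (B.cent x hx)

theorem tne : B.t ≠ 1 := fun e => by
  have h := B.φt
  rw [show (⟨B.t, B.tL⟩ : B.L) = 1 from Subtype.ext e, map_one] at h
  exact absurd (congrArg Prod.fst h) (show (1 : Z2) ≠ Multiplicative.ofAdd 1 by decide)

theorem snd_surj : Function.Surjective ((MonoidHom.snd Z2 P).comp B.φ) := fun p => by
  obtain ⟨a, ha⟩ := B.surj (1, p)
  exact ⟨a, show (B.φ a).2 = p by rw [ha]⟩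

/-- The first coordinate does not change under `C(t)`. -/
theorem fst_conj {g : G} (hg : g * B.t = B.t * g) (x : B.L) :
    (B.φ ⟨g * x * g⁻¹, B.normal g hg x x.2⟩).1 = (B.φ x).1 := by
  let c : B.L →* B.L :=
    { toFun := fun y => ⟨g * y * g⁻¹, B.normal g hg y y.2⟩
      map_one' := Subtype.ext (by simp)
      map_mul' := fun a b => Subtype.ext (by simp [mul_assoc]) }
  let χ : B.L →* Z2 := (MonoidHom.fst Z2 P).comp B.φ
  show (χ.comp c) x = χ x
  set W := (χ.comp c).eqLocus χ with hW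
  have hcomm : ∀ f : B.L →* Z2, _root_.commutator B.L ≤ f.ker := fun f => by
    rw [_root_.commutator_def, commutator_le]
    intro a _ b _
    rw [MonoidHom.mem_ker, map_commutatorElement, commutatorElement_eq_one_iff_mul_comm, mul_comm]
  have h1 : _root_.commutator B.L ≤ W := fun y hy => by
    show (χ.comp c) y = χ y
    rw [MonoidHom.mem_ker.1 (hcomm _ hy), MonoidHom.mem_ker.1 (hcomm _ hy)]
  have h2 : B.φ.ker ≤ W := fun y hy => by
    have ho : Odd (orderOf y) := B.odd.of_dvd_nat (B.φ.ker.orderOf_dvd_natCard hy)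
    show (χ.comp c) y = χ y
    rw [z2_odd _ ho, z2_odd _ ho]
  have h3 : (⟨B.t, B.tL⟩ : B.L) ∈ W := by
    show (χ.comp c) _ = _
    exact congrArg χ (Subtype.ext (show g * B.t * g⁻¹ = B.t by rw [hg, mul_inv_cancel_right]))
  suffices hx : x ∈ W from hx
  have hp : (B.φ x).2 ∈ (_root_.commutator B.L).map ((MonoidHom.snd Z2 P).comp B.φ) := by
    rw [_root_.commutator_def, map_commutator,
      map_top_of_surjective _ B.snd_surj,
      ← _root_.commutator_def, B.perfect]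
    exact mem_top _
  obtain ⟨y, hy, e⟩ := hp
  have e' : (B.φ y).2 = (B.φ x).2 := e
  have hy1 : (B.φ y).1 = 1 := MonoidHom.mem_ker.1 (hcomm χ hy)
  have hfin : x * y⁻¹ ∈ W := by
    rcases z2_cases (B.φ x).1 with h | h
    · refine h2 (MonoidHom.mem_ker.2 (Prod.ext ?_ ?_))
      · rw [map_mul, map_inv, Prod.fst_mul, Prod.fst_inv, h, hy1, inv_one, mul_one]; rfl
      · rw [map_mul, map_inv, Prod.snd_mul, Prod.snd_inv, e', mul_inv_cancel]; rfl
    · have h4 : (⟨B.t, B.tL⟩ : B.L)⁻¹ * (x * y⁻¹) ∈ W := by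
        refine h2 (MonoidHom.mem_ker.2 (Prod.ext ?_ ?_))
        · rw [map_mul, map_mul, map_inv, map_inv, B.φt]
          simp [h, hy1]
        · rw [map_mul, map_mul, map_inv, map_inv, B.φt]
          simp [e']
      have := mul_mem h3 h4
      rwa [mul_inv_cancel_left] at this
  simpa using mul_mem hfin (h1 hy)

/-- The Sylow subgroup and the complement. -/
theorem exists_frame (S₀ : Sylow 2 P) [Finite P] : Nonempty (Frame B (S₀ : Subgroup P)) := by
  haveI : Fact (Nat.Prime 2) := ⟨Nat.prime_two⟩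
  let π0 : B.L →* P := (MonoidHom.snd Z2 P).comp B.φ
  set R := (S₀ : Subgroup P).comap π0 with hR
  obtain ⟨T'⟩ : Nonempty (Sylow 2 R) := inferInstance
  set TL := (T' : Subgroup R).map R.subtype with hTL
  have hTLp : IsPGroup 2 TL := T'.2.map _
  set T := TL.map B.L.subtype with hT
  have hTp : IsPGroup 2 T := hTLp.map _
  have hTL' : T ≤ B.L := map_subtype_le _
  have hinjφ : ∀ a ∈ TL, B.φ a = 1 → a = 1 := fun a ha e => by
    obtain ⟨k, hk⟩ := hTLp ⟨a, ha⟩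
    exact orderOf_eq_one_iff.1 (Nat.eq_one_of_dvd_coprimes ((Nat.coprime_two_right.2 B.odd).pow_right k)
      (B.φ.ker.orderOf_dvd_natCard (MonoidHom.mem_ker.2 e)) (orderOf_dvd_of_pow_eq_one (congrArg Subtype.val hk)))
  have htR : (⟨B.t, B.tL⟩ : B.L) ∈ R := by
    rw [hR, mem_comap]
    show (B.φ _).2 ∈ _
    rw [B.φt]; exact one_mem _
  have htT' : (⟨_, htR⟩ : R) ∈ (T' : Subgroup R) := by
    haveI : (zpowers (⟨_, htR⟩ : R)).Normal := ⟨fun a ha b => by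
      have hb : b * ⟨_, htR⟩ = (⟨_, htR⟩ : R) * b :=
        Subtype.ext (Subtype.ext (B.cent ((b : B.L) : G) (b : B.L).2))
      obtain ⟨i, rfl⟩ := mem_zpowers_iff.1 ha
      rw [← conj_zpow, hb, mul_inv_cancel_right]
      exact zpow_mem (mem_zpowers _) i⟩
    refine IsPGroup.le_sylow_of_normal (IsPGroup.of_card (n := 1) ?_) T' (mem_zpowers _)
    rw [Nat.card_zpowers, pow_one]
    exact orderOf_eq_prime (by rw [pow_two]; exact Subtype.ext (Subtype.ext B.tsq))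
      fun e => B.tne (congrArg (fun z : R => ((z : B.L) : G)) e)
  have htTL : (⟨B.t, B.tL⟩ : B.L) ∈ TL := ⟨_, htT', rfl⟩
  have htT : B.t ∈ T := ⟨_, htTL, rfl⟩
  have hTL_S : ∀ a ∈ TL, (B.φ a).2 ∈ (S₀ : Subgroup P) := fun a ha => map_subtype_le (T' : Subgroup R) ha
  -- `T` covers the Sylow subgroup
  have hcov : ∀ s ∈ (S₀ : Subgroup P), ∃ a ∈ TL, (B.φ a).2 = s := by
    intro s hs
    let g : R →* S₀ := (π0.comp R.subtype).codRestrict S₀ fun a => a.2
    have hg : Function.Surjective g := fun q => by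
      obtain ⟨a, ha⟩ := B.surj (1, (q : P))
      exact ⟨⟨a, by rw [hR, mem_comap]; show (B.φ a).2 ∈ _; rw [ha]; exact q.2⟩,
        Subtype.ext (show (B.φ a).2 = q by rw [ha])⟩
    have htop : (T' : Subgroup R).map g = ⊤ := by
      rw [← index_eq_one]
      obtain ⟨k, hk⟩ := IsPGroup.iff_card.1 S₀.2
      have h1 : ((T' : Subgroup R).map g).index ∣ (T' : Subgroup R).index := index_map_dvd _ hg
      have h2 : ((T' : Subgroup R).map g).index ∣ 2 ^ k := hk ▸ index_dvd_card _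
      exact Nat.eq_one_of_dvd_coprimes
        (Nat.Coprime.pow_right k ((Nat.prime_two.coprime_iff_not_dvd).2 T'.not_dvd_index).symm) h1 h2
    obtain ⟨a, ha, e⟩ := htop.ge (mem_top (⟨s, hs⟩ : S₀))
    exact ⟨a, ⟨a, ha, rfl⟩, congrArg Subtype.val e⟩
  set D := (TL ⊓ ((MonoidHom.fst Z2 P).comp B.φ).ker).map B.L.subtype with hD
  have hDmem : ∀ (x : G), x ∈ D ↔ ∃ h : x ∈ B.L, (⟨x, h⟩ : B.L) ∈ TL ∧ (B.φ ⟨x, h⟩).1 = 1 := fun x => by
    constructor
    · rintro ⟨a, ⟨ha1, ha2⟩, rfl⟩; exact ⟨a.2, ha1, ha2⟩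
    · rintro ⟨h, h1, h2⟩; exact ⟨⟨x, h⟩, ⟨h1, h2⟩, rfl⟩
  have hDL : D ≤ B.L := map_subtype_le _
  have hDT : D ≤ T := map_mono inf_le_left
  have hDTL : ∀ d : D, (⟨d, hDL d.2⟩ : B.L) ∈ TL := fun d => ((hDmem d).1 d.2).2.1
  have hfst : ∀ d : D, (B.φ ⟨d, hDL d.2⟩).1 = 1 := fun d => ((hDmem d).1 d.2).2.2
  let f : D →* S₀ := MonoidHom.mk' (fun d => ⟨(B.φ ⟨d, hDL d.2⟩).2, hTL_S _ (hDTL d)⟩) fun a b =>
    Subtype.ext (by
      show (B.φ ⟨(a : G) * b, _⟩).2 = _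
      rw [show (⟨(a : G) * b, hDL (a * b).2⟩ : B.L) = ⟨a, hDL a.2⟩ * ⟨b, hDL b.2⟩ from rfl, map_mul]
      rfl)
  have hf : Function.Bijective f := by
    refine ⟨(injective_iff_map_eq_one f).2 fun d hd => ?_, fun s => ?_⟩
    · have := hinjφ _ (hDTL d) (Prod.ext (hfst d) (congrArg Subtype.val hd))
      exact Subtype.ext (congrArg (fun z : B.L => (z : G)) this)
    · obtain ⟨a, ha, e⟩ := hcov s s.2
      rcases z2_cases (B.φ a).1 with h | h
      · exact ⟨⟨a, (hDmem a).2 ⟨a.2, ha, h⟩⟩, Subtype.ext e⟩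
      · have hta : (⟨B.t, B.tL⟩ : B.L) * a ∈ TL := mul_mem htTL ha
        have h1 : (B.φ (⟨B.t, B.tL⟩ * a)).1 = 1 := by
          rw [map_mul, B.φt, Prod.fst_mul, h]; exact z2_mul_self _
        refine ⟨⟨B.t * a, (hDmem _).2 ⟨mul_mem B.tL a.2, hta, h1⟩⟩, Subtype.ext ?_⟩
        show (B.φ (⟨B.t, B.tL⟩ * a)).2 = s
        rw [map_mul, B.φt, Prod.snd_mul, e, one_mul]
  refine ⟨⟨D, T, fun x => ⟨fun hx => ?_, fun hx => ?_⟩, fun hd => ?_, fun d hd => B.cent d (hDL hd),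
    ⟨fun x hx => B.cent x (hTL' hx), hTp, htT, fun Q hQ hQc => ?_⟩, hDL, MulEquiv.ofBijective f hf,
    fun d => rfl, hfst, fun g hg hgT d hd => ?_⟩⟩
  · obtain ⟨a, ha, rfl⟩ := hx
    rcases z2_cases (B.φ a).1 with h | h
    · exact Or.inl ((hDmem a).2 ⟨a.2, ha, h⟩)
    · refine Or.inr ((hDmem _).2 ⟨mul_mem B.tL a.2, mul_mem htTL ha, ?_⟩)
      show (B.φ (⟨B.t, B.tL⟩ * a)).1 = 1
      rw [map_mul, B.φt, Prod.fst_mul, h]; exact z2_mul_self _
  · rcases hx with h | h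
    · exact hDT h
    · have := mul_mem htT (hDT h)
      rwa [← mul_assoc, B.tsq, one_mul] at this
  · obtain ⟨h, -, h1⟩ := (hDmem _).1 hd
    have h2 : (B.φ ⟨B.t, B.tL⟩).1 = 1 := h1
    rw [B.φt] at h2
    exact z2_ne h2
  · have hQL : Q ≤ B.L := fun x hx => B.two x (hQc x hx) (by
      obtain ⟨k, hk⟩ := hQ ⟨x, hx⟩
      obtain ⟨n, -, hn⟩ := (Nat.dvd_prime_pow Nat.prime_two).1
        (orderOf_dvd_of_pow_eq_one (show x ^ 2 ^ k = 1 from congrArg Subtype.val hk))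
      exact ⟨n, hn⟩)
    have hidx : ¬ 2 ∣ TL.index := by
      rw [hTL, index_map_subtype, Nat.prime_two.dvd_mul, not_or]
      refine ⟨T'.not_dvd_index, ?_⟩
      rw [hR, index_comap_of_surjective _ B.snd_surj]
      exact S₀.not_dvd_index
    let TS : Sylow 2 B.L := IsPGroup.toSylow hTLp hidx
    obtain ⟨c, hc, hcle⟩ := LESylow.exists_conj_le_of_le hQL hQ TS
    exact ⟨c, B.cent c hc, fun x hx => hcle ⟨x, hx, rfl⟩⟩
  · have hTT : g * d * g⁻¹ ∈ T := hgT d (hDT hd)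
    obtain ⟨a, ha, e⟩ := hTT
    obtain ⟨hdL, -, hd1⟩ := (hDmem d).1 hd
    have e' : (a : G) = g * d * g⁻¹ := e
    refine (hDmem _).2 ⟨B.normal g hg d hdL, by
      rwa [show (⟨g * d * g⁻¹, B.normal g hg d hdL⟩ : B.L) = a from Subtype.ext e'.symm], ?_⟩
    exact (B.fst_conj hg ⟨d, hdL⟩).trans hd1

end Bridge

namespace Frame

variable {G : Type u} [Group G] [Finite G] {P : Type v} [Group P] {B : Bridge G P} {S₀ : Subgroup P}
  (F : Frame B S₀)

theorem φ_eq (d : F.D) : B.φ ⟨d, F.le d.2⟩ = (1, (F.π d : P)) := Prod.ext (F.fst d) (F.hπ d).symm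

/-- An element of `P` moving a part of the Sylow subgroup into it lifts to `C(t)`. -/
theorem lift {h : P} {A A' : Subgroup G} (hA : A ≤ F.D) (hA' : A' ≤ F.D)
    (himg : ∀ a : F.D, (a : G) ∈ A → ∃ b : F.D, (b : G) ∈ A' ∧ h * F.π a * h⁻¹ = F.π b) :
    ∃ c : G, c * B.t = B.t * c ∧ c ∈ B.L ∧ (∃ hc : c ∈ B.L, (B.φ ⟨c, hc⟩).2 = h) ∧
      ∀ a : F.D, (a : G) ∈ A → ∃ b : F.D, (b : G) ∈ A' ∧ c * a * c⁻¹ = b ∧ h * F.π a * h⁻¹ = F.π b := by
  obtain ⟨c₀, hc₀⟩ := B.surj (1, h)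
  have hAL : A ≤ B.L := hA.trans F.le
  have hA'L : A' ≤ B.L := hA'.trans F.le
  have hp : ∀ X : Subgroup G, X ≤ F.D → IsPGroup 2 (X.subgroupOf B.L) := fun X hX =>
    (F.full.pg.to_le (hX.trans fun x hx => (F.memT x).2 (Or.inl hx))).comap_of_injective B.L.subtype B.L.subtype_injective
  obtain ⟨k, hk, hkA⟩ := exists_ker_conj_le B.φ B.odd (A'.subgroupOf B.L)
    ((A.subgroupOf B.L).map (MulAut.conj c₀).toMonoidHom) (hp A' hA') ((hp A hA).map _) (by
      rintro _ ⟨_, ⟨a, ha, rfl⟩, rfl⟩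
      obtain ⟨b, hb, e⟩ := himg ⟨a, hA (mem_subgroupOf.1 ha)⟩ (mem_subgroupOf.1 ha)
      refine ⟨⟨b, F.le b.2⟩, mem_subgroupOf.2 hb, ?_⟩
      show B.φ _ = B.φ (c₀ * a * c₀⁻¹)
      rw [F.φ_eq, map_mul, map_mul, map_inv, hc₀,
        show B.φ a = _ from F.φ_eq ⟨a, hA (mem_subgroupOf.1 ha)⟩, ← e]
      simp)
  refine ⟨(k * c₀ : B.L), B.cent _ (k * c₀).2, (k * c₀).2, ⟨(k * c₀).2, ?_⟩, fun a ha => ?_⟩
  · show (B.φ (k * c₀)).2 = h
    rw [map_mul, hk, hc₀, one_mul]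
  · have h1 := hkA _ ⟨⟨a, F.le a.2⟩, mem_subgroupOf.2 ha, rfl⟩
    have hmem : ((k * c₀ : B.L) : G) * a * ((k * c₀ : B.L) : G)⁻¹ ∈ A' := by
      have := mem_subgroupOf.1 h1
      simpa [mul_assoc] using this
    refine ⟨⟨_, hA' hmem⟩, hmem, rfl, ?_⟩
    rw [F.hπ, F.hπ]
    have e1 : (⟨((k * c₀ : B.L) : G) * a * ((k * c₀ : B.L) : G)⁻¹, F.le (hA' hmem)⟩ : B.L) =
        k * c₀ * ⟨a, F.le a.2⟩ * (k * c₀)⁻¹ := rfl
    rw [e1, map_mul, map_mul, map_inv, map_mul, hk, one_mul, hc₀]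
    rfl

end Frame

end Cfsg.Agent.TwoXDih
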