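import Cfsg.Agent.Lib.TwoXDih.JCentre
import Cfsg.Agent.Lib.Char.Burnside

/-!
# The degree is three

If `J` acts transitively on `q = 2 ^ n ≥ 8` points, by additive maps of `GF(q)`, the point stabiliser
having odd order, being semilinear and containing the scalars, which are free on the other points,
then `q = 8` and `|J| = 168`.
-/

set_option autoImplicit false
set_option linter.style.haveILetI false
set_option linter.unusedSectionVars false

namespace Cfsg.Agent.TwoXDih

open MulAction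

universe u v

namespace JL

variable {F : Type} [Field F] [Fintype F] [CharP F 2] {J : Type u} [Group J] [Finite J] {X : Type v}
  [MulAction J X] {ρ : J →* AddMonoid.End F} {w : X}

/-- The stabiliser of the vector `1`. -/
def vecStab (ρ : J →* AddMonoid.End F) : Subgroup J where
  carrier := {g | ρ g 1 = 1}
  one_mem' := ρ_one ρ 1
  mul_mem' {a b} ha hb := by show ρ (a * b) 1 = 1; rw [ρ_mul, hb, ha]
  inv_mem' {a} ha := by show ρ a⁻¹ 1 = 1; conv_lhs => rw [← (show ρ a 1 = 1 from ha)]; exact ρ_inv ρ a 1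

theorem card_vecStab (hC : Cfg ρ w) : Nat.card J = (Nat.card F - 1) * Nat.card (vecStab ρ) := by
  rw [← Nat.card_units F, ← Nat.card_prod]
  refine (Nat.card_eq_of_bijective (fun z : Fˣ × vecStab ρ => kf hC z.1 * (z.2 : J)) ⟨?_, fun g => ?_⟩).symm
  · rintro ⟨c, a⟩ ⟨d, b⟩ e
    have h1 : ρ (kf hC c * (a : J)) 1 = ρ (kf hC d * (b : J)) 1 := congrArg (fun g => ρ g 1) e
    rw [ρ_mul, ρ_mul, show ρ (a : J) 1 = 1 from a.2, show ρ (b : J) 1 = 1 from b.2, kf_spec, kf_spec, mul_one,
      mul_one] at h1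
    obtain rfl : c = d := Units.ext h1
    exact Prod.ext rfl (Subtype.ext (mul_left_cancel e))
  · set c : Fˣ := Units.mk0 (ρ g 1) (ρ_one_ne_zero g) with hc
    refine ⟨(c, ⟨(kf hC c)⁻¹ * g, ?_⟩), mul_inv_cancel_left _ _⟩
    show ρ ((kf hC c)⁻¹ * g) 1 = 1
    rw [ρ_mul, ← map_inv, kf_spec, hc, Units.val_inv_eq_inv_val, Units.val_mk0, inv_mul_cancel₀ (ρ_one_ne_zero g)]

/-- A finite soluble group without nontrivial normal two-subgroup has a nontrivial normal subgroup of odd
order. -/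
theorem exists_odd_normal {G : Type u} [Group G] [Finite G] [Nontrivial G] (hsol : Group.IsSolvable G)
    (hno : ∀ N : Subgroup G, N.Normal → IsPGroup 2 N → N = ⊥) :
    ∃ A : Subgroup G, A.Normal ∧ A ≠ ⊥ ∧ Odd (Nat.card A) := by
  classical
  obtain ⟨m, hm⟩ : ∃ m, derivedSeries G m = ⊥ := (isSolvable_def G).1 hsol
  obtain ⟨k, hk, hmin⟩ : ∃ k, derivedSeries G (k + 1) = ⊥ ∧ derivedSeries G k ≠ ⊥ := by
    induction m with
    | zero => exact absurd hm (by rw [derivedSeries_zero]; exact top_ne_bot)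
    | succ m ih =>
      by_cases h : derivedSeries G m = ⊥
      · exact ih h
      · exact ⟨m, hm, h⟩
  set A := derivedSeries G k with hA
  haveI : A.Normal := derivedSeries_normal G k
  have hab : ∀ a ∈ A, ∀ b ∈ A, a * b = b * a := fun a ha b hb => by
    rw [derivedSeries_succ] at hk
    exact Subgroup.mem_centralizer_iff.1 ((Subgroup.commutator_eq_bot_iff_le_centralizer).1 hk ha) b hb |>.symm
  refine ⟨A, inferInstance, hmin, ?_⟩
  -- the two-elements
  let B : Subgroup G :=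
    { carrier := {a | a ∈ A ∧ ∃ i : ℕ, a ^ 2 ^ i = 1}
      one_mem' := ⟨one_mem A, 0, one_pow _⟩
      mul_mem' := fun {a b} ⟨ha, i, hi⟩ ⟨hb, j, hj⟩ => ⟨mul_mem ha hb, i + j, by
        rw [(show Commute a b from hab a ha b hb).mul_pow, pow_add, pow_mul, hi, one_pow, mul_comm, pow_mul, hj,
          one_pow, one_mul]⟩
      inv_mem' := fun {a} ⟨ha, i, hi⟩ => ⟨inv_mem ha, i, by rw [inv_pow, hi, inv_one]⟩ }
  have hB : B.Normal := ⟨fun a ⟨ha, i, hi⟩ g => ⟨Subgroup.Normal.conj_mem inferInstance a ha g, i, by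
    rw [conj_pow, hi]; simp⟩⟩
  have hB2 : IsPGroup 2 B := fun b => by
    obtain ⟨-, i, hi⟩ := b.2
    exact ⟨i, Subtype.ext (by rw [SubgroupClass.coe_pow]; exact hi)⟩
  have hbot := hno B hB hB2
  by_contra hodd
  rw [Nat.not_odd_iff_even, even_iff_two_dvd] at hodd
  haveI : Fact (Nat.Prime 2) := ⟨Nat.prime_two⟩
  obtain ⟨a, ha⟩ := exists_prime_orderOf_dvd_card' 2 hodd
  have h1 : (a : G) ∈ B := ⟨a.2, 1, by rw [pow_one, ← SubgroupClass.coe_pow, ← ha, pow_orderOf_eq_one]; rfl⟩
  rw [hbot, Subgroup.mem_bot] at h1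
  rw [show a = 1 from Subtype.ext h1, orderOf_one] at ha
  exact absurd ha (by norm_num)

/-- The degree is three. -/
theorem deg_eq_three {hC : Cfg ρ w} (P : PCfg ρ w hC) : degF F = 3 := by
  classical
  haveI : Fact (degF F).Prime := ⟨P.prime⟩
  haveI : Fact (Nat.Prime 2) := ⟨Nat.prime_two⟩
  haveI := finite_X hC
  set n := degF F with hn
  obtain ⟨h₀, hh1, hho, hhn⟩ := exists_order_prime hC (p := n) (dvd_of_eq P.full.symm)
  have hhθ : θ hC h₀ ≠ 1 := fun e => by rw [e, orderOf_one] at hho; exact P.prime.ne_one hho.symm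
  obtain ⟨p, hp, hhp⟩ := exists_fixed hC h₀ (hho.symm ▸ hhn) (exists_ne_w hC)
  set J₁ := vecStab ρ with hJ₁
  let h : J₁ := ⟨(h₀ : J), hh1⟩
  have hhn' : h ^ n = 1 := Subtype.ext (by
    rw [SubgroupClass.coe_pow, show (h : J) = (h₀ : J) from rfl, ← SubgroupClass.coe_pow, hhn]; rfl)
  have hh' : h ≠ 1 := fun e => hhθ (by
    rw [show h₀ = 1 from Subtype.ext (congrArg (fun g : J₁ => (g : J)) e), map_one])
  have hord : orderOf h = n := orderOf_eq_prime hhn' hh'
  have hcard : Nat.card J₁ = Nat.card F * n := by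
    have h1 := card_vecStab hC
    rw [card_J hC, P.full, ← hJ₁] at h1
    have h2 : 0 < Nat.card F - 1 := by have := P.h8; omega
    refine Nat.eq_of_mul_eq_mul_left h2 ?_
    rw [← h1]; ring
  have hsol : Group.IsSolvable J₁ :=
    Char.isSolvable_of_card_pq 2 n Nat.prime_two P.prime _ J₁ rfl ⟨degF F, 1, by rw [hcard, card_F P, pow_one]⟩
  -- a maximal normal two-subgroup
  haveI : Nonempty {R : Subgroup J₁ // R.Normal ∧ IsPGroup 2 R} := ⟨⟨⊥, inferInstance, IsPGroup.of_bot⟩⟩
  obtain ⟨⟨R, hRn, hR2⟩, hmax⟩ :=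
    Finite.exists_max fun R : {R : Subgroup J₁ // R.Normal ∧ IsPGroup 2 R} => Nat.card (R : Subgroup J₁)
  haveI := hRn
  obtain ⟨a, ha⟩ := IsPGroup.iff_card.1 hR2
  have hcop : ∀ {k : ℕ}, Nat.Coprime (2 ^ k) n := fun {k} =>
    ((P.prime.coprime_iff_not_dvd).2 (deg_not_dvd_two_pow P k)).symm
  have hhR : h ∉ R := fun hm => by
    have h1 := Subgroup.orderOf_dvd_natCard R hm
    rw [hord, ha] at h1
    exact deg_not_dvd_two_pow P a h1
  have hadeg : a ≤ degF F := by
    have := Subgroup.card_subgroup_dvd_card R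
    rw [ha, hcard, card_F P] at this
    exact (Nat.pow_dvd_pow_iff_le_right one_lt_two).1 (hcop.dvd_of_dvd_mul_right this)
  -- the quotient
  haveI : Nontrivial (J₁ ⧸ R) := ⟨⟨(h : J₁ ⧸ R), 1, fun e => hhR ((QuotientGroup.eq_one_iff h).1 e)⟩⟩
  haveI := hsol
  obtain ⟨A, hAn, hA1, hAodd⟩ := exists_odd_normal (G := J₁ ⧸ R) inferInstance fun N hN hN2 => by
    have h1 : IsPGroup 2 (N.comap (QuotientGroup.mk' R)) :=
      hN2.comap_of_ker_isPGroup _ (by rw [QuotientGroup.ker_mk']; exact hR2)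
    have h2 := hmax ⟨_, hN.comap _, h1⟩
    have h3 : R ≤ N.comap (QuotientGroup.mk' R) := QuotientGroup.le_comap_mk' R N
    have h4 := Subgroup.eq_of_le_of_card_ge h3 h2
    rw [Subgroup.eq_bot_iff_forall]
    intro x hx
    obtain ⟨y, rfl⟩ := QuotientGroup.mk'_surjective R x
    exact (QuotientGroup.eq_one_iff y).2 (h4 ▸ hx)
  have hG : Nat.card (J₁ ⧸ R) = 2 ^ (degF F - a) * n := by
    have h1 := Subgroup.card_eq_card_quotient_mul_card_subgroup R
    rw [hcard, ha, card_F P] at h1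
    refine Nat.eq_of_mul_eq_mul_right (Nat.two_pow_pos a) ?_
    rw [← h1, mul_assoc, mul_comm n, ← mul_assoc, ← pow_add, Nat.sub_add_cancel hadeg]
  have hAcard : Nat.card A = n := by
    have h1 := Subgroup.card_subgroup_dvd_card A
    rw [hG] at h1
    have h2 : Nat.card A ∣ n := ((Nat.coprime_two_right.2 hAodd).pow_right _).dvd_of_dvd_mul_left h1
    exact (P.prime.eq_one_or_self_of_dvd _ h2).resolve_left fun e => hA1 (Subgroup.eq_bot_of_card_eq A e)
  set M := A.comap (QuotientGroup.mk' R) with hM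
  haveI : M.Normal := hAn.comap _
  have hhM : h ∈ M := by
    haveI := hAn
    rw [hM, Subgroup.mem_comap]
    refine (QuotientGroup.eq_one_iff _).1 (orderOf_eq_one_iff.1 (Nat.eq_one_of_dvd_coprimes
      (hcop (k := degF F - a)) ?_ ((orderOf_map_dvd (QuotientGroup.mk' A) _).trans
        ((orderOf_map_dvd (QuotientGroup.mk' R) h).trans (dvd_of_eq hord)))))
    refine (orderOf_dvd_natCard _).trans (dvd_of_eq ?_)
    have h1 := Subgroup.card_eq_card_quotient_mul_card_subgroup A
    rw [hG, hAcard] at h1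
    exact (Nat.eq_of_mul_eq_mul_right P.prime.pos h1).symm
  have hzcard : Nat.card (Subgroup.zpowers h) = n := by rw [Nat.card_zpowers, hord]
  -- Frattini
  let Q : Sylow n J₁ := Sylow.ofCard (Subgroup.zpowers h) (by
    have h1 : (Nat.card F * n).factorization n = 1 := by
      rw [Nat.factorization_mul Nat.card_pos.ne' P.prime.ne_zero, Finsupp.add_apply,
        Nat.factorization_eq_zero_of_not_dvd (deg_not_dvd_card P), P.prime.factorization_self, zero_add]
    rw [hzcard, hcard, h1, pow_one])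
  let N : Subgroup J₁ := Subgroup.normalizer (Subgroup.zpowers h : Set J₁)
  have hfr : N ⊔ M = ⊤ := Sylow.normalizer_sup_eq_top' (N := M) Q (Subgroup.zpowers_le.2 hhM)
  have hzN : Subgroup.zpowers h ≤ N := Subgroup.le_normalizer
  have hMle : M ≤ Subgroup.zpowers h ⊔ R := by
    intro x hx
    have himg : Subgroup.zpowers ((QuotientGroup.mk' R) h) = A := by
      refine Subgroup.eq_of_le_of_card_ge (Subgroup.zpowers_le.2 hhM) ?_
      have h2 : orderOf (QuotientGroup.mk' R h) = n := orderOf_eq_prime (by rw [← map_pow, hhn', map_one])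
        fun e => hhR ((QuotientGroup.eq_one_iff h).1 e)
      rw [hAcard, Nat.card_zpowers, h2]
    have hx2 : QuotientGroup.mk' R x ∈ Subgroup.zpowers ((QuotientGroup.mk' R) h) := himg.symm ▸ hx
    obtain ⟨k, hk⟩ := Subgroup.mem_zpowers_iff.1 hx2
    rw [← map_zpow, QuotientGroup.mk'_eq_mk'] at hk
    obtain ⟨r, hr, rfl⟩ := hk
    exact Subgroup.mul_mem_sup (zpow_mem (Subgroup.mem_zpowers h) k) hr
  have hNR : ∀ g : J₁, ∃ m ∈ N, ∃ r ∈ R, g = m * r := fun g => by
    have h2 : g ∈ N ⊔ R := by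
      have h1 : g ∈ N ⊔ M := hfr ▸ Subgroup.mem_top g
      exact sup_le le_sup_left (hMle.trans (sup_le (hzN.trans le_sup_left) le_sup_right)) h1
    rw [← SetLike.mem_coe, Subgroup.mul_normal N R] at h2
    obtain ⟨m, hm, r, hr, rfl⟩ := Set.mem_mul.1 h2
    exact ⟨m, hm, r, hr, rfl⟩
  have hquot : Nat.card (J₁ ⧸ R) ≤ Nat.card N := by
    refine Nat.card_le_card_of_surjective (fun m : N => ((m : J₁) : J₁ ⧸ R)) fun x => ?_
    obtain ⟨g, rfl⟩ := QuotientGroup.mk'_surjective R x
    obtain ⟨m, hm, r, hr, rfl⟩ := hNR g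
    exact ⟨⟨m, hm⟩, QuotientGroup.eq.2 (by simpa using hr)⟩
  -- the normaliser of `⟨h⟩`
  have hNpt : ∀ g ∈ N, ((g : J) • w = w ∨ (g : J) • w = p) := fun g hg => by
    have h1 : g⁻¹ * h * g ∈ Subgroup.zpowers h := by
      have := (Subgroup.mem_normalizer_iff.1 (inv_mem hg) h).1 (Subgroup.mem_zpowers h)
      rwa [inv_inv] at this
    obtain ⟨k, hk⟩ := Subgroup.mem_zpowers_iff.1 h1
    have hk0 : ((h₀ ^ k : stabilizer J w) : J) = ((g⁻¹ * h * g : J₁) : J) := by
      rw [← hk, SubgroupClass.coe_zpow, SubgroupClass.coe_zpow]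
    have h2 : (((g⁻¹ * h * g : J₁)) : J) • w = w := by rw [← hk0]; exact (h₀ ^ k : stabilizer J w).2
    rw [Subgroup.coe_mul, Subgroup.coe_mul, InvMemClass.coe_inv, mul_smul, mul_smul, inv_smul_eq_iff] at h2
    rcases eq_or_ne ((g : J) • w) w with e | e
    · exact Or.inl e
    · exact Or.inr (fixed_unique P hhθ hp e hhp h2)
  have hNw : ∀ g ∈ N, (g : J) • w = w → g ∈ Subgroup.zpowers h := fun g hg hgw => by
    have hgp : (g : J) • p = p := by
      have h1 : g⁻¹ * h * g ∈ Subgroup.zpowers h := by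
        have := (Subgroup.mem_normalizer_iff.1 (inv_mem hg) h).1 (Subgroup.mem_zpowers h)
        rwa [inv_inv] at this
      obtain ⟨k, hk⟩ := Subgroup.mem_zpowers_iff.1 h1
      have hfixp : ((h : J₁) : J) ^ k • p = p := by
        have : Subgroup.zpowers ((h : J₁) : J) ≤ stabilizer J p := Subgroup.zpowers_le.2 hhp
        exact this (zpow_mem (Subgroup.mem_zpowers _) k)
      rw [← SubgroupClass.coe_zpow, hk, Subgroup.coe_mul, Subgroup.coe_mul, InvMemClass.coe_inv, mul_smul, mul_smul,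
        inv_smul_eq_iff] at hfixp
      refine fixed_unique P hhθ hp (fun e => hp (MulAction.injective (g : J) (e.trans hgw.symm))) hhp hfixp
    obtain ⟨k, hk⟩ := pow_of_two_fixed P hhθ hp hhp (t := ⟨(g : J), hgw⟩) hgp
    refine Subgroup.mem_zpowers_iff.2 ⟨(k : ℤ), Subtype.ext ?_⟩
    have := congrArg Subtype.val hk
    rw [SubgroupClass.coe_pow] at this
    rw [zpow_natCast, SubgroupClass.coe_pow]
    exact this.symm
  have hNcard : Nat.card N ≤ 2 * n := by
    let φ : N → Bool := fun m => decide (((m : J₁) : J) • w = w)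
    have hfib : ∀ m m' : N, φ m = φ m' → (m : J₁)⁻¹ * (m' : J₁) ∈ Subgroup.zpowers h := fun m m' e => by
      refine hNw _ (mul_mem (inv_mem m.2) m'.2) ?_
      rw [Subgroup.coe_mul, InvMemClass.coe_inv, mul_smul, inv_smul_eq_iff]
      simp only [φ, decide_eq_decide] at e
      rcases hNpt _ m.2 with e1 | e1 <;> rcases hNpt _ m'.2 with e2 | e2
      · rw [e1, e2]
      · exact absurd ((e.1 e1).symm.trans e2) (Ne.symm hp)
      · exact absurd ((e.2 e2).symm.trans e1) (Ne.symm hp)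
      · rw [e1, e2]
    let sect : Bool → N := fun b => if hb : ∃ m, φ m = b then hb.choose else 1
    have hsect : ∀ m, φ (sect (φ m)) = φ m := fun m => by
      have hb : ∃ m', φ m' = φ m := ⟨m, rfl⟩
      simp only [sect, dif_pos hb]
      exact hb.choose_spec
    have hinj : Function.Injective fun m : N =>
        (φ m, (⟨((sect (φ m)) : J₁)⁻¹ * (m : J₁), hfib _ _ (hsect m)⟩ : Subgroup.zpowers h)) := fun m m' e => by
      have e1 : φ m = φ m' := congrArg Prod.fst e
      have e2 := congrArg (fun z : Bool × Subgroup.zpowers h => (z.2 : J₁)) e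
      simp only [e1] at e2
      exact Subtype.ext (mul_left_cancel e2)
    have := Nat.card_le_card_of_injective _ hinj
    rwa [Nat.card_prod, hzcard, Nat.card_eq_fintype_card (α := Bool), Fintype.card_bool] at this
  -- the index of `R` is `2`
  have hSnorm : ∀ (T : Subgroup J₁), Nat.card T = Nat.card F → ¬ (∀ x ∈ T, h * x * h⁻¹ ∈ T) := fun T hT hn' => by
    refine hhθ (θ_eq_one_of_normalizer P (S := T.map J₁.subtype) ?_ fun j hj => ?_)
    · rw [← Nat.card_congr (T.equivMapOfInjective _ J₁.subtype_injective).toEquiv, hT]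
    · obtain ⟨x, hx, rfl⟩ := hj
      exact ⟨_, hn' x hx, rfl⟩
  have hlt : a < degF F := by
    refine lt_of_le_of_ne hadeg fun e => hSnorm R (by rw [ha, card_F P, e]) fun x hx => hRn.conj_mem x hx h
  have hae : degF F - a = 1 := by
    have h1 : 2 ^ (degF F - a) * n ≤ 2 * n := hG ▸ hquot.trans hNcard
    have h2 : 2 ^ (degF F - a) ≤ 2 ^ 1 := by
      rw [pow_one]; exact Nat.le_of_mul_le_mul_right h1 P.prime.pos
    have := (Nat.pow_le_pow_iff_right one_lt_two).1 h2
    omega
  -- a swapping involution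
  have hN2 : Nat.card N = 2 * n := le_antisymm hNcard (by
    rw [hG, hae, pow_one] at hquot; exact hquot)
  obtain ⟨⟨i, hiN⟩, hio⟩ := exists_prime_orderOf_dvd_card' (G := N) 2 (hN2 ▸ dvd_mul_right 2 n)
  have hii : i * i = 1 := by
    rw [← Subgroup.orderOf_coe] at hio
    rw [← pow_two, ← hio]; exact pow_orderOf_eq_one i
  have hi1 : i ≠ 1 := fun e => by
    rw [← Subgroup.orderOf_coe, show ((⟨i, hiN⟩ : N) : J₁) = i from rfl, e, orderOf_one] at hio
    exact absurd hio (by norm_num)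
  have hiJ1 : (i : J) ≠ 1 := fun e => hi1 (Subtype.ext e)
  have hiiJ : (i : J) * (i : J) = 1 := by rw [← Subgroup.coe_mul, hii]; rfl
  have hhnJ : ((h : J₁) : J) ^ n = 1 := by rw [← SubgroupClass.coe_pow, hhn']; rfl
  have hhJ1 : ((h : J₁) : J) ≠ 1 := fun e => hh' (Subtype.ext e)
  have hiR : i ∉ R := fun hiR => by
    have hcomm1 : i * h * i⁻¹ * h⁻¹ ∈ R := by
      have : i * (h * i⁻¹ * h⁻¹) ∈ R := mul_mem hiR (hRn.conj_mem _ (inv_mem hiR) h)
      simpa only [mul_assoc] using this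
    have hcomm2 : i * h * i⁻¹ * h⁻¹ ∈ Subgroup.zpowers h :=
      mul_mem ((Subgroup.mem_normalizer_iff.1 hiN h).1 (Subgroup.mem_zpowers h))
        (inv_mem (Subgroup.mem_zpowers h))
    have h1 : orderOf (i * h * i⁻¹ * h⁻¹) = 1 := by
      refine Nat.eq_one_of_dvd_coprimes (hcop (k := a)) ?_ ?_
      · rw [← ha]; exact Subgroup.orderOf_dvd_natCard _ hcomm1
      · rw [← hzcard]; exact Subgroup.orderOf_dvd_natCard _ hcomm2
    rw [orderOf_eq_one_iff] at h1
    have h2 : i * h = h * i := mul_inv_eq_iff_eq_mul.1 (mul_inv_eq_one.1 h1)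
    exact hiJ1 (no_comm P hhnJ hhJ1 hiiJ (by rw [← Subgroup.coe_mul, h2, Subgroup.coe_mul]))
  -- the Sylow subgroup `R⟨i⟩`
  have hi2 : IsPGroup 2 (Subgroup.zpowers i) :=
    IsPGroup.of_card (n := 1) (by rw [Nat.card_zpowers, orderOf_eq_prime (by rw [pow_two, hii]) hi1, pow_one])
  set T := Subgroup.zpowers i ⊔ R with hT
  have hT2 : IsPGroup 2 T := hi2.to_sup_of_normal_right hR2
  obtain ⟨b, hb⟩ := IsPGroup.iff_card.1 hT2
  have hTcard : Nat.card T = Nat.card F := by
    have h1 := Subgroup.card_subgroup_dvd_card T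
    rw [hb, hcard, card_F P] at h1
    have h2 := (Nat.pow_dvd_pow_iff_le_right one_lt_two).1 (hcop.dvd_of_dvd_mul_right h1)
    have h3 : 2 ^ a < 2 ^ b := by
      rw [← ha, ← hb]
      refine lt_of_le_of_ne (Subgroup.card_le_of_le le_sup_right) fun e => hiR ?_
      rw [Subgroup.eq_of_le_of_card_ge (le_sup_right : R ≤ T) e.ge]
      exact Subgroup.mem_sup_left (Subgroup.mem_zpowers i)
    have := (Nat.pow_lt_pow_iff_right one_lt_two).1 h3
    rw [hb, card_F P]
    congr 1
    omega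
  -- the elementary centre of `R`
  let E : Subgroup J₁ :=
    { carrier := {x | x ∈ R ∧ x * x = 1 ∧ ∀ r ∈ R, x * r = r * x}
      one_mem' := ⟨one_mem R, one_mul 1, fun j _ => by rw [one_mul, mul_one]⟩
      mul_mem' := fun {x y} hx hy => ⟨mul_mem hx.1 hy.1, by
        rw [show x * y * (x * y) = x * (y * x) * y by group, hy.2.2 x hx.1,
          show x * (x * y) * y = (x * x) * (y * y) by group, hx.2.1, hy.2.1, one_mul], fun j hj => by
        rw [mul_assoc, hy.2.2 j hj, ← mul_assoc, hx.2.2 j hj, mul_assoc]⟩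
      inv_mem' := fun {x} hx => by
        rw [inv_eq_of_mul_eq_one_left hx.2.1]
        exact hx }
  have hEconj : ∀ (g : J₁), ∀ x ∈ E, g * x * g⁻¹ ∈ E := fun g x hx => by
    refine ⟨hRn.conj_mem x hx.1 g, ?_, fun r hr => ?_⟩
    · rw [show g * x * g⁻¹ * (g * x * g⁻¹) = g * (x * x) * g⁻¹ by group, hx.2.1]; group
    · calc g * x * g⁻¹ * r = g * (x * (g⁻¹ * r * g)) * g⁻¹ := by group
        _ = g * ((g⁻¹ * r * g) * x) * g⁻¹ := by
          rw [hx.2.2 _ (by simpa using hRn.conj_mem r hr g⁻¹)]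
        _ = _ := by group
  have hfpf : ∀ x ∈ E, h * x = x * h → x = 1 := fun x hx he =>
    Subtype.ext (no_comm P hhnJ hhJ1 (by rw [← Subgroup.coe_mul, hx.2.1]; rfl)
      (by rw [← Subgroup.coe_mul, ← he, Subgroup.coe_mul]))
  letI : MulAction (Subgroup.zpowers h) E :=
    { smul := fun g x => ⟨(g : J₁) * (x : J₁) * (g : J₁)⁻¹, hEconj _ _ x.2⟩
      one_smul := fun x => Subtype.ext (by show (1 : J₁) * (x : J₁) * (1 : J₁)⁻¹ = x; group)
      mul_smul := fun g g' x => Subtype.ext (by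
        show (g : J₁) * (g' : J₁) * (x : J₁) * ((g : J₁) * (g' : J₁))⁻¹ =
          (g : J₁) * ((g' : J₁) * (x : J₁) * (g' : J₁)⁻¹) * (g : J₁)⁻¹
        group) }
  have hEmod : Nat.card E ≡ 1 [MOD n] := by
    have h1 : IsPGroup n (Subgroup.zpowers h) := IsPGroup.of_card (n := 1) (by rw [hzcard, pow_one])
    have h2 := h1.card_modEq_card_fixedPoints E
    have h3 : fixedPoints (Subgroup.zpowers h) E = {1} := by
      refine Set.Subset.antisymm (fun x hx => ?_) (Set.singleton_subset_iff.2 fun g => Subtype.ext ?_)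
      · have h4 : h * (x : J₁) * h⁻¹ = x := congrArg Subtype.val (hx ⟨h, Subgroup.mem_zpowers h⟩)
        exact Subtype.ext (hfpf _ x.2 (mul_inv_eq_iff_eq_mul.1 h4))
      · show (g : J₁) * (1 : J₁) * (g : J₁)⁻¹ = 1
        group
    rw [h3] at h2
    simpa using h2
  have hEne : 1 < Nat.card E := by
    have hRcard : 1 < Nat.card R := by
      rw [ha]
      refine Nat.one_lt_two_pow ?_
      have := deg_ge P
      omega
    haveI : Nontrivial R := Finite.one_lt_card_iff_nontrivial.1 hRcard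
    haveI := hR2.center_nontrivial
    obtain ⟨c, hc⟩ := exists_prime_orderOf_dvd_card' (G := Subgroup.center R) 2 (by
      obtain ⟨k, hk⟩ := IsPGroup.iff_card.1 (hR2.to_subgroup (Subgroup.center R))
      have := Finite.one_lt_card_iff_nontrivial.2 (inferInstance : Nontrivial (Subgroup.center R))
      rw [hk] at this ⊢
      exact dvd_pow_self 2 (by rintro rfl; simp at this))
    rw [← Subgroup.orderOf_coe, ← Subgroup.orderOf_coe] at hc
    have hcE : (((c : R) : J₁)) ∈ E := ⟨(c : R).2, by rw [← pow_two, ← hc, pow_orderOf_eq_one],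
      fun r hr => congrArg Subtype.val (Subgroup.mem_center_iff.1 c.2 ⟨r, hr⟩).symm⟩
    haveI : Nontrivial E := ⟨⟨⟨_, hcE⟩, 1, fun e => by
      have e' : ((c : R) : J₁) = 1 := congrArg Subtype.val e
      rw [e', orderOf_one] at hc
      exact absurd hc (by norm_num)⟩⟩
    exact Finite.one_lt_card_iff_nontrivial.2 inferInstance
  -- at most four elements
  have hfixle : ∀ z z' : J₁, z ∈ E → z' ∈ E → z ≠ 1 → z' ≠ 1 → i * z = z * i → i * z' = z' * i → z' = z := by
    intro z z' hz hz' hz1 hz'1 hzi hz'i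
    have hcen : ∀ y : J₁, y ∈ E → i * y = y * i →
        ∀ j ∈ T.map J₁.subtype, (y : J) * j = j * (y : J) := by
      rintro y hy hyi _ ⟨x, hx, rfl⟩
      have hle : T ≤ Subgroup.centralizer {y} := sup_le
        (Subgroup.zpowers_le.2 (Subgroup.mem_centralizer_singleton_iff.2 hyi))
        fun r hr => Subgroup.mem_centralizer_singleton_iff.2 (hy.2.2 r hr).symm
      have h1 := Subgroup.mem_centralizer_singleton_iff.1 (hle hx)
      exact congrArg Subtype.val h1.symm
    refine Subtype.ext (center_unique P (S := T.map J₁.subtype)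
      (by rw [← Nat.card_congr (T.equivMapOfInjective _ J₁.subtype_injective).toEquiv, hTcard]) ?_ ?_ ?_
      (hcen z hz hzi) ?_ ?_ ?_ (hcen z' hz' hz'i))
    · rw [← Subgroup.coe_mul, hz.2.1]; rfl
    · exact fun e => hz1 (Subtype.ext e)
    · exact ⟨z, Subgroup.mem_sup_right hz.1, rfl⟩
    · rw [← Subgroup.coe_mul, hz'.2.1]; rfl
    · exact fun e => hz'1 (Subtype.ext e)
    · exact ⟨z', Subgroup.mem_sup_right hz'.1, rfl⟩
  have hEle : Nat.card E ≤ 4 := by
    haveI : IsMulCommutative E := ⟨⟨fun x y => Subtype.ext (x.2.2.2 (y : J₁) y.2.1)⟩⟩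
    let φ : E →* E :=
      MonoidHom.mk' (fun x => ⟨(x : J₁) * (i * x * i⁻¹), mul_mem x.2 (hEconj i x x.2)⟩) fun x y => Subtype.ext (by
        show (x : J₁) * (y : J₁) * (i * ((x : J₁) * (y : J₁)) * i⁻¹) =
          (x : J₁) * (i * x * i⁻¹) * ((y : J₁) * (i * y * i⁻¹))
        have e : (y : J₁) * (i * (x : J₁) * i⁻¹) = i * (x : J₁) * i⁻¹ * (y : J₁) :=
          y.2.2.2 _ (hEconj i x x.2).1
        calc (x : J₁) * (y : J₁) * (i * ((x : J₁) * (y : J₁)) * i⁻¹) =
              (x : J₁) * ((y : J₁) * (i * (x : J₁) * i⁻¹)) * (i * (y : J₁) * i⁻¹) := by group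
          _ = _ := by rw [e]; group)
    have hcomm : ∀ x : E, (x : J₁) * (i * x * i⁻¹) = 1 → i * x = x * i := fun x hx => by
      rw [mul_eq_one_iff_inv_eq, inv_eq_of_mul_eq_one_left x.2.2.1] at hx
      exact mul_inv_eq_iff_eq_mul.1 hx.symm
    have hker : Nat.card φ.ker ≤ 2 := by
      by_contra hlt'
      push Not at hlt'
      haveI : Fintype φ.ker := Fintype.ofFinite _
      rw [Nat.card_eq_fintype_card, Fintype.two_lt_card_iff] at hlt'
      obtain ⟨x, y, z, hxy, hxz, hyz⟩ := hlt'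
      have key : ∀ x y : φ.ker, x ≠ 1 → y ≠ 1 → x = y := fun x y hx hy => by
        refine Subtype.ext (Subtype.ext ?_)
        exact hfixle _ _ (y : E).2 (x : E).2 (fun e => hy (Subtype.ext (Subtype.ext e)))
          (fun e => hx (Subtype.ext (Subtype.ext e))) (hcomm _ (congrArg Subtype.val y.2))
          (hcomm _ (congrArg Subtype.val x.2))
      rcases eq_or_ne x 1 with rfl | hx
      · exact hyz (key y z (Ne.symm hxy) (Ne.symm hxz))
      · rcases eq_or_ne y 1 with rfl | hy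
        · exact hxz (key x z hx (Ne.symm hyz))
        · exact hxy (key x y hx hy)
    have hrange : φ.range ≤ φ.ker := by
      rintro _ ⟨x, rfl⟩
      refine Subtype.ext ?_
      show (x : J₁) * (i * x * i⁻¹) * (i * ((x : J₁) * (i * x * i⁻¹)) * i⁻¹) = 1
      rw [inv_eq_of_mul_eq_one_left hii, show (x : J₁) * (i * x * i) * (i * ((x : J₁) * (i * x * i)) * i) =
        (x : J₁) * i * x * (i * i) * x * i * x * (i * i) by simp only [mul_assoc], hii, mul_one, mul_one,
        show (x : J₁) * i * x * x * i * x = (x : J₁) * i * ((x : J₁) * x) * i * x by simp only [mul_assoc],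
        x.2.2.1, mul_one, mul_assoc (x : J₁) i i, hii, mul_one, x.2.2.1]
    rw [← φ.ker.index_mul_card, Subgroup.index_ker]
    calc Nat.card φ.range * Nat.card φ.ker ≤ Nat.card φ.ker * Nat.card φ.ker :=
          Nat.mul_le_mul_right _ (Subgroup.card_le_of_le hrange)
      _ ≤ 2 * 2 := Nat.mul_le_mul hker hker
  have h3 : n ∣ Nat.card E - 1 := (Nat.modEq_iff_dvd' hEne.le).1 hEmod.symm
  have h4 := Nat.le_of_dvd (by omega) h3
  have := deg_ge P
  omega

end JL

open JL in
/-- The degree is three and the group has order `168`. -/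
theorem jLemma {F : Type} [Field F] [Fintype F] [CharP F 2] (h8 : 8 ≤ Fintype.card F) {J : Type u}
    [Group J] [Finite J] {X : Type v} [MulAction J X] (ρ : J →* AddMonoid.End F) (hρ : Function.Injective ρ)
    (w : X) (htr : IsPretransitive J X) (hX : Nat.card X = Fintype.card F)
    (hodd : Odd (Nat.card (stabilizer J w)))
    (hK : ∀ c : F, c ≠ 0 → ∃ j ∈ stabilizer J w, ∀ x, ρ j x = c * x)
    (hsemi : ∀ j ∈ stabilizer J w, ∀ c, (∀ x, ρ j x = c * x) → ∀ p, p ≠ w → j • p = p → c = 1)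
    (hN : ∀ j ∈ stabilizer J w, ∀ c : F, ∃ c2, ∀ x, ρ j (c * x) = c2 * ρ j x) :
    Fintype.card F = 8 ∧ Nat.card J = 168 := by
  have hC : Cfg ρ w := ⟨hρ, htr, by rw [hX, Nat.card_eq_fintype_card], hodd, hK, hsemi, hN⟩
  rw [← Nat.card_eq_fintype_card] at h8 ⊢
  obtain ⟨hfull, hprime⟩ := full_range (w := w) (by omega) _ J ρ hC rfl
  have P : PCfg ρ w hC := ⟨h8, by rw [degF, ← hfull]; exact hprime, hfull⟩
  have h3 := deg_eq_three P
  have hF : Nat.card F = 8 := by rw [card_F P, h3]; norm_num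
  refine ⟨hF, ?_⟩
  rw [card_J hC, P.full, h3, hF]

end Cfsg.Agent.TwoXDih
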