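import Cfsg.Agent.Lib.TwoXDih.ECase
import Cfsg.Agent.Lib.TwoXDih.JLemma

/-!
# The orbit of length `q`
-/

set_option autoImplicit false
set_option linter.unusedSectionVars false
set_option linter.style.haveILetI false
set_option linter.unusedVariables false

namespace Cfsg.Agent.TwoXDih

open Subgroup
open Loc (cj)

universe u

/-- Coordinates for `D` in which `k` realises the scalars. -/
structure Coord {G : Type u} [Group G] (C : ECfg G) where
  F : Type
  [fld : Field F]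
  [fin : Fintype F]
  [char2 : CharP F 2]
  φ : F ≃ C.D
  φ_add : ∀ x y, φ (x + y) = φ x * φ y
  prim : ∀ c : F, c ≠ 0 → ∃ i : ℕ, ∀ x, C.k ^ i * (φ x : G) * (C.k ^ i)⁻¹ = φ (c * x)
  semi : ∀ g : G, g * C.t = C.t * g → (∀ d ∈ C.D, g * d * g⁻¹ ∈ C.D) → ∀ c : F, ∃ c2 : F, ∀ x y : F,
    g * (φ x : G) * g⁻¹ = φ y → g * (φ (c * x) : G) * g⁻¹ = φ (c2 * y)

attribute [instance] Coord.fld Coord.fin Coord.char2

namespace Coord

variable {G : Type u} [Group G] [Finite G] {C : ECfg G} (K : Coord C)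

/-- The action on the coordinates. -/
noncomputable def act (n : G) (hn : ∀ d ∈ C.D, n * d * n⁻¹ ∈ C.D) : K.F →+ K.F :=
  AddMonoidHom.mk' (fun x => K.φ.symm ⟨n * (K.φ x : G) * n⁻¹, hn _ (K.φ x).2⟩) fun x y => by
    apply K.φ.injective
    simp only [K.φ_add, Equiv.apply_symm_apply]
    refine Subtype.ext ?_
    show n * ((K.φ x * K.φ y : C.D) : G) * n⁻¹ = n * (K.φ x : G) * n⁻¹ * (n * (K.φ y : G) * n⁻¹)
    rw [Subgroup.coe_mul]
    group

theorem act_apply (n : G) (hn : ∀ d ∈ C.D, n * d * n⁻¹ ∈ C.D) (x : K.F) :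
    (K.φ (K.act n hn x) : G) = n * (K.φ x : G) * n⁻¹ := by
  show (K.φ (K.φ.symm ⟨n * (K.φ x : G) * n⁻¹, hn _ (K.φ x).2⟩) : G) = _
  rw [Equiv.apply_symm_apply]

end Coord

namespace ECfg

variable {G : Type u} [Group G] [Finite G] {C : ECfg G}

/-- The 2-part of the stabiliser of the coset is `Q`. -/
theorem H_index_odd {hn : ∀ d ∈ C.D, ¬ IsConj C.t d} {Q : Subgroup G} {k : G} (F : (C.toLoc hn).Sys Q k)
    (htD : ∀ d ∈ C.D, IsConj C.t (C.t * d)) :
    Odd ((Loc.Sys.NC (C.toLoc hn) Q).relIndex F.H) := by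
  haveI : Fact (Nat.Prime 2) := ⟨Nat.prime_two⟩
  rw [← Nat.not_even_iff_odd, even_iff_two_dvd]
  intro h
  set NQ := Subgroup.normalizer (Q : Set G)
  set N := Loc.Sys.NC (C.toLoc hn) Q
  have hd : 2 * Nat.card Q ∣ Nat.card F.H := by
    rw [← (N.subgroupOf F.H).card_mul_index, mul_comm 2]
    refine Nat.mul_dvd_mul ?_ h
    rw [← Loc.Sys.card_Qsub Q, ← Nat.card_congr (Subgroup.subgroupOfEquivOfLe F.Q_le_H).toEquiv]
    exact Subgroup.card_dvd_of_le fun x hx => mem_subgroupOf.2 (F.Q_le_NC hx)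
  have hQ : IsPGroup 2 ((Q.subgroupOf NQ).subgroupOf F.H) := F.pg.of_injective
    ((Subgroup.subgroupOfEquivOfLe (le_normalizer : Q ≤ NQ)).toMonoidHom.comp (Subgroup.subgroupOfEquivOfLe F.Q_le_H).toMonoidHom)
    ((Subgroup.subgroupOfEquivOfLe le_normalizer).injective.comp (Subgroup.subgroupOfEquivOfLe F.Q_le_H).injective)
  obtain ⟨R, hR⟩ := hQ.exists_le_sylow
  have hRQ : ∀ r : F.H, r ∈ (R : Subgroup F.H) → (r.1 : G) ∈ Q := by
    intro r hr
    obtain ⟨p, hp, hc⟩ := F.fix_coset r.1 r.2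
    let pn : NQ := ⟨p, le_normalizer hp⟩
    have hpr : (⟨pn, F.Q_le_H hp⟩ * r : F.H) ∈ (R : Subgroup F.H) := mul_mem (hR hp) hr
    obtain ⟨m, hm⟩ := IsPGroup.iff_orderOf.1 R.2 ⟨_, hpr⟩
    rw [Subgroup.orderOf_mk, ← Subgroup.orderOf_coe, ← Subgroup.orderOf_coe] at hm
    have hm' : orderOf (p * (r.1 : G)) = 2 ^ m := hm
    have hnD : ∀ d ∈ C.D, p * (r.1 : G) * d * (p * (r.1 : G))⁻¹ ∈ C.D := fun d hd =>
      F.normD htD (pn * r.1) hd
    have hT : p * (r.1 : G) ∈ C.T := C.full.mem_of_normalises ⟨m, hm'⟩ hc fun y hy => by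
      rcases (C.memT y).1 hy with h | h
      · exact C.DT (hnD y h)
      · refine (C.memT _).2 (Or.inr ?_)
        have := hnD _ h
        rwa [show p * (r.1 : G) * (C.t * y) * (p * (r.1 : G))⁻¹ =
          p * (r.1 : G) * C.t * (y * (p * (r.1 : G))⁻¹) by group, show p * (r.1 : G) * C.t = C.t * (p * r.1) from hc,
          mul_assoc, ← mul_assoc (p * (r.1 : G))] at this
    exact (Subgroup.mul_mem_cancel_left _ hp).1 (C.T_le F.toFit hT)
  obtain ⟨c, hc⟩ := IsPGroup.iff_card.1 F.pg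
  have hle : Nat.card (R : Subgroup F.H) ≤ Nat.card Q :=
    Nat.card_le_card_of_injective (fun r => (⟨(r.1.1 : G), hRQ r.1 r.2⟩ : Q)) fun a b e =>
      Subtype.ext (Subtype.ext (Subtype.ext (congrArg (fun w : Q => (w : G)) e)))
  rw [Sylow.card_eq_multiplicity, hc] at hle
  rw [hc, ← pow_succ'] at hd
  have a1 := (Nat.prime_two.pow_dvd_iff_le_factorization Nat.card_pos.ne').1 hd
  have a2 := (Nat.pow_le_pow_iff_right (le_refl 2)).1 hle
  exact Nat.not_succ_le_self c (a1.trans a2)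

/-- The orbit of length `q` forces `q = 8` and the full automorphism group. -/
theorem eight_of_full (K : Coord C) {hn : ∀ d ∈ C.D, ¬ IsConj C.t d} {Q : Subgroup G} {k : G}
    (F : (C.toLoc hn).Sys Q k) (htD : ∀ d ∈ C.D, IsConj C.t (C.t * d)) {Z : Subgroup Q} (hZ : F.tw.IsZ Z)
    (h8 : 8 ≤ Nat.card C.D) (hfull : ∀ y ∈ Z.map (QuotientGroup.mk' (sqs Q)), ∃ n, F.cl n = y) :
    Nat.card C.D = 8 ∧ (Loc.Sys.NC (C.toLoc hn) Q).index = 168 := by
  classical
  have hcard : Fintype.card K.F = Nat.card C.D := by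
    rw [← Nat.card_eq_fintype_card]; exact Nat.card_congr K.φ
  set NQ := Subgroup.normalizer (Q : Set G)
  set N := Loc.Sys.NC (C.toLoc hn) Q
  haveI : N.Normal := F.normal_NC htD
  have hND : ∀ n : NQ, ∀ d ∈ C.D, (n : G) * d * (n : G)⁻¹ ∈ C.D := fun n d hd => F.normD htD n hd
  let ρ0 : NQ →* AddMonoid.End K.F :=
    { toFun := fun n => K.act n (hND n)
      map_one' := by
        refine AddMonoidHom.ext fun x => K.φ.injective (Subtype.ext ?_)
        show (K.φ (K.act _ (hND 1) x) : G) = K.φ x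
        rw [K.act_apply, Subgroup.coe_one, one_mul, inv_one, mul_one]
      map_mul' := fun a b => by
        refine AddMonoidHom.ext fun x => K.φ.injective (Subtype.ext ?_)
        show (K.φ (K.act _ (hND (a * b)) x) : G) = (K.φ (K.act _ (hND a) (K.act _ (hND b) x)) : G)
        rw [K.act_apply, K.act_apply, K.act_apply, Subgroup.coe_mul]
        group }
  have hρN : ∀ n : NQ, n ∈ N ↔ ρ0 n = 1 := by
    intro n
    rw [Loc.Sys.mem_NC]
    constructor
    · intro h
      refine AddMonoidHom.ext fun x => K.φ.injective (Subtype.ext ?_)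
      show (K.φ (K.act _ (hND n) x) : G) = K.φ x
      rw [K.act_apply]
      exact mul_inv_eq_iff_eq_mul.2 (h _ (K.φ x).2)
    · intro h d hd
      obtain ⟨x, hx⟩ := K.φ.surjective ⟨d, hd⟩
      have h1 : (K.φ (K.act _ (hND n) x) : G) = K.φ x := congrArg (fun f : AddMonoid.End K.F => (K.φ (f x) : G)) h
      rw [K.act_apply, hx] at h1
      exact mul_inv_eq_iff_eq_mul.1 h1
  let ρ : NQ ⧸ N →* AddMonoid.End K.F := QuotientGroup.lift N ρ0 fun n hn' => (hρN n).1 hn'
  have hρinj : Function.Injective ρ := by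
    intro a b e
    induction a using QuotientGroup.induction_on with
    | _ a =>
    induction b using QuotientGroup.induction_on with
    | _ b =>
    rw [QuotientGroup.eq, hρN, map_mul]
    have e' : ρ0 a = ρ0 b := e
    rw [← e', ← map_mul, inv_mul_cancel, map_one]
  let π : NQ ⧸ N →* Equiv.Perm (NQ ⧸ F.H) :=
    QuotientGroup.lift N (MulAction.toPermHom NQ (NQ ⧸ F.H)) fun n hn' => by
      refine Equiv.ext fun x => ?_
      induction x using QuotientGroup.induction_on with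
      | _ m =>
        show (n • (m : NQ ⧸ F.H)) = m
        rw [MulAction.Quotient.smul_mk, QuotientGroup.eq, smul_eq_mul,
          show (n * m)⁻¹ * m = m⁻¹ * n⁻¹ * m⁻¹⁻¹ by group]
        exact F.NC_le_H htD hZ (Subgroup.Normal.conj_mem inferInstance _ (inv_mem hn') _)
  letI : MulAction (NQ ⧸ N) (NQ ⧸ F.H) := MulAction.compHom _ π
  have hsm : ∀ (a m : NQ), (a : NQ ⧸ N) • (m : NQ ⧸ F.H) = ((a * m : NQ) : NQ ⧸ F.H) := fun a m => rfl
  have hstab : ∀ (a : NQ), (a : NQ ⧸ N) ∈ MulAction.stabilizer (NQ ⧸ N) ((1 : NQ) : NQ ⧸ F.H) ↔ a ∈ F.H := by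
    intro a
    rw [MulAction.mem_stabilizer_iff, hsm, mul_one, QuotientGroup.eq, mul_one, inv_mem_iff]
  have hkk : ∀ i : ℕ, (⟨k, F.kQ⟩ : NQ) ^ i ∈ F.H := fun i => by
    refine pow_mem ?_ i
    show F.tw.t * F.tw.κ F.tw.t ∈ sqs Q
    rw [F.tw.κt, F.tw.tsq]; exact one_mem _
  have hkact : ∀ (i : ℕ) (x : K.F), (K.φ (ρ0 ((⟨k, F.kQ⟩ : NQ) ^ i) x) : G) =
      C.k ^ i * (K.φ x : G) * (C.k ^ i)⁻¹ := by
    intro i x
    show (K.φ (K.act _ (hND ((⟨k, F.kQ⟩ : NQ) ^ i)) x) : G) = _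
    rw [K.act_apply, Subgroup.coe_pow]
    exact (F.pow_agree i (K.φ x).2).1
  have hscal : ∀ c : K.F, c ≠ 0 → ∃ i : ℕ, ∀ x, ρ0 ((⟨k, F.kQ⟩ : NQ) ^ i) x = c * x := by
    intro c hc
    obtain ⟨i, hi⟩ := K.prim c hc
    exact ⟨i, fun x => K.φ.injective (Subtype.ext ((hkact i x).trans (hi x)))⟩
  obtain ⟨hF, hJ⟩ := jLemma (by rw [hcard]; exact h8) ρ hρinj ((1 : NQ) : NQ ⧸ F.H)
    ⟨fun x y => by
      induction x using QuotientGroup.induction_on with
      | _ a =>
      induction y using QuotientGroup.induction_on with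
      | _ b => exact ⟨(b * a⁻¹ : NQ), by rw [hsm, inv_mul_cancel_right]⟩⟩
    (by rw [← Subgroup.index_eq_card, F.index_H hZ hfull, hcard]; rfl)
    (by
      have e : MulAction.stabilizer (NQ ⧸ N) ((1 : NQ) : NQ ⧸ F.H) = F.H.map (QuotientGroup.mk' N) := by
        ext a
        induction a using QuotientGroup.induction_on with
        | _ a =>
          rw [hstab]
          refine ⟨fun h => ⟨a, h, rfl⟩, ?_⟩
          rintro ⟨b, hb, e⟩
          have := mul_mem hb (F.NC_le_H htD hZ (QuotientGroup.eq.1 e))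
          rwa [mul_inv_cancel_left] at this
      rw [e, ← Subgroup.relIndex_bot_left, ← (by simp : N.map (QuotientGroup.mk' N) = ⊥),
        Subgroup.relIndex_map_map, QuotientGroup.ker_mk', sup_idem, sup_eq_left.2 (F.NC_le_H htD hZ)]
      exact H_index_odd F htD)
    (fun c hc => by
      obtain ⟨i, hi⟩ := hscal c hc
      exact ⟨((⟨k, F.kQ⟩ : NQ) ^ i : NQ), (hstab _).2 (hkk i), hi⟩)
    (by
      intro j hj c hjc p hp hjp
      induction j using QuotientGroup.induction_on with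
      | _ n =>
      induction p using QuotientGroup.induction_on with
      | _ m =>
      have hc : c ≠ 0 := by
        intro hc0
        have h1 : ρ0 n 1 = 0 := by
          have := hjc 1
          rw [hc0, zero_mul] at this
          exact this
        have h2 : (ρ0 n⁻¹ * ρ0 n) 1 = 0 := by
          show ρ0 n⁻¹ (ρ0 n 1) = 0
          rw [h1, map_zero]
        rw [← map_mul, inv_mul_cancel, MonoidHom.map_one] at h2
        exact one_ne_zero h2
      obtain ⟨i, hi⟩ := hscal c hc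
      set a : NQ := (⟨k, F.kQ⟩ : NQ) ^ i
      have hna : (n : NQ ⧸ N) = (a : NQ ⧸ N) := hρinj (AddMonoidHom.ext fun x => by
        exact (hjc x).trans (hi x).symm)
      rw [hna, hsm, QuotientGroup.eq] at hjp
      have e1 : F.cl (a * m) = F.cl m := by
        unfold Loc.Fit.cl
        rw [QuotientGroup.eq]
        have h1 := sqs_inv (cj Q (a * m))
          (show F.tw.t * cj Q ((a * m)⁻¹ * m) F.tw.t ∈ sqs Q from hjp)
        rw [map_mul, ← MulAut.mul_apply, ← map_mul, mul_inv_cancel_left] at h1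
        have h2 : (cj Q (a * m) F.tw.t)⁻¹ = cj Q (a * m) F.tw.t := by rw [← map_inv, F.tw.invt]
        rwa [mul_inv_rev, mul_assoc, inv_mul_cancel_left, h2]
      set y := F.tw.t * cj Q m F.tw.t with hy
      have hκy : (F.tw.κ ^ i) y = F.tw.t * cj Q (a * m) F.tw.t := by
        have : F.tw.κ ^ i = cj Q a := (map_pow _ _ _).symm
        rw [hy, map_mul, F.tw.κpow_t, this, map_mul (cj Q), MulAut.mul_apply]
      have hfix : ((F.tw.κ ^ i) y)⁻¹ * y ∈ sqs Q := by
        rw [hκy, ← QuotientGroup.eq]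
        exact e1
      have hyZ : y ∈ Z := (Subgroup.mul_mem_iff_of_index_two hZ.index).2
        (iff_of_false hZ.tnot (F.tw.image_notMem hZ _ (F.image_notD m)))
      have hys : y ∉ sqs Q := fun h => hp (QuotientGroup.eq.2 (by
        rw [mul_one, inv_mem_iff]; show F.tw.t * cj Q m F.tw.t ∈ sqs Q; rw [← hy]; exact h))
      have hall : ∀ y' ∈ Z, ((F.tw.κ ^ i) y')⁻¹ * y' ∈ sqs Q := by
        intro y' hy'
        by_cases hs : y' ∈ sqs Q
        · exact mul_mem (inv_mem (sqs_inv _ hs)) hs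
        obtain ⟨j, hj⟩ := Tw.trans_quot Q F.tw Z hZ y hyZ hys y' hy' hs
        have h1 : ((F.tw.κ ^ i) ((F.tw.κ ^ j) y))⁻¹ * (F.tw.κ ^ j) y ∈ sqs Q := by
          rw [F.tw.κpow_comm, ← map_inv, ← map_mul]
          exact sqs_inv _ hfix
        have h2 := sqs_inv (F.tw.κ ^ i) hj
        rw [← QuotientGroup.eq] at hj h1 ⊢
        rw [map_mul, map_inv, ← QuotientGroup.eq] at h2
        rw [← h2, h1, hj]
      have hd := Tw.fix_D Q F.tw Z hZ i hall ⟨_, F.DQ (K.φ 1).2⟩ (K.φ 1).2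
      have h3 : C.k ^ i * (K.φ 1 : G) * (C.k ^ i)⁻¹ = K.φ 1 := by
        have h4 := congrArg Subtype.val hd
        rw [show F.tw.κ ^ i = cj Q a from (map_pow _ _ _).symm, Loc.cj_apply, Subgroup.coe_pow] at h4
        exact (F.pow_agree i (K.φ 1).2).1.symm.trans h4
      have h5 := K.φ.injective (Subtype.ext ((hkact i 1).trans h3))
      rw [hi, mul_one] at h5
      exact h5)
    (by
      intro j hj c
      induction j using QuotientGroup.induction_on with
      | _ n =>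
      obtain ⟨p, hp, hpc⟩ := F.fix_coset n ((hstab n).1 hj)
      have hnD' : ∀ d ∈ C.D, p * (n : G) * d * (p * (n : G))⁻¹ ∈ C.D := fun d hd =>
        F.normD htD ((⟨p, le_normalizer hp⟩ : NQ) * n) hd
      have hsame : ∀ x : K.F, p * (n : G) * (K.φ x : G) * (p * (n : G))⁻¹ = (K.φ (ρ0 n x) : G) := by
        intro x
        show _ = (K.φ (K.act _ (hND n) x) : G)
        rw [K.act_apply, mul_inv_rev,
          show p * (n : G) * (K.φ x : G) * ((n : G)⁻¹ * p⁻¹) = p * ((n : G) * (K.φ x : G) * (n : G)⁻¹) * p⁻¹ by group,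
          F.le p hp _ (hND n _ (K.φ x).2), mul_inv_cancel_right]
      obtain ⟨c2, hc2⟩ := K.semi _ hpc hnD' c
      refine ⟨c2, fun x => ?_⟩
      have := hc2 x (ρ0 n x) (hsame x)
      rw [hsame] at this
      exact K.φ.injective (Subtype.ext this))
  refine ⟨hcard.symm.trans hF, ?_⟩
  rw [Subgroup.index_eq_card]
  exact hJ

end ECfg

end Cfsg.Agent.TwoXDih
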