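import Cfsg.Agent.Lib.TwoXDih.InterfaceBridge
import Cfsg.Agent.Lib.TwoXDih.Orbit
import Mathlib.FieldTheory.Finite.Basic

/-!
# The interface for `q` even
-/

set_option autoImplicit false
set_option linter.unusedSectionVars false
set_option linter.style.haveILetI false

namespace Cfsg.Agent.TwoXDih

open Subgroup Matrix

universe u

namespace InterfaceEven

variable {K : Type} [Field K] [Fintype K] [CharP K 2]

local notation "PL" => Matrix.ProjectiveSpecialLinearGroup (Fin 2) K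
local notation "SL" => Matrix.SpecialLinearGroup (Fin 2) K
local notation "M2" => Matrix (Fin 2) (Fin 2) K

theorem mk_inj {x y : SL} (h : (x : PL) = y) : x = y := by
  have h1 := QuotientGroup.eq.1 h
  obtain ⟨r, hr, e⟩ := Matrix.SpecialLinearGroup.mem_center_iff.1 h1
  rw [Fintype.card_fin] at hr
  have hr1 : r = 1 := by
    have h2 : (r - 1) * (r - 1) = 0 := by
      have h3 : (2 : K) = 0 := CharTwo.two_eq_zero
      linear_combination hr + (1 - r) * h3
    exact sub_eq_zero.1 (mul_self_eq_zero.1 h2)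
  rw [hr1, map_one] at e
  exact inv_mul_eq_one.1 (Subtype.ext e.symm)

/-- The transvection. -/
def upper (b : K) : SL := ⟨!![1, b; 0, 1], by simp [Matrix.det_fin_two]⟩

theorem upper_add (b c : K) : upper (b + c) = upper b * upper c := by
  apply Subtype.ext
  rw [Matrix.SpecialLinearGroup.coe_mul]
  ext i j
  fin_cases i <;> fin_cases j <;> simp [upper, Matrix.mul_apply, Fin.sum_univ_two, add_comm]

/-- The root group. -/
def rootHom : Multiplicative K →* PL :=
  MonoidHom.mk' (fun b => (upper b.toAdd : PL)) fun a b => by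
    rw [← QuotientGroup.mk_mul, ← upper_add]; rfl

theorem rootHom_injective : Function.Injective (rootHom (K := K)) := fun a b h => by
  have h1 := congrArg (fun x : SL => (x : M2) 0 1) (mk_inj h)
  simpa [upper] using h1

/-- An element normalising the root group is upper triangular and scales it by a square. -/
theorem act_of_normalizes {x : PL} (hx : ∀ b, x * rootHom b * x⁻¹ ∈ (rootHom (K := K)).range) :
    ∃ X : SL, (X : PL) = x ∧ (X : M2) 1 0 = 0 ∧
      ∀ b : K, x * rootHom (Multiplicative.ofAdd b) * x⁻¹ =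
        rootHom (Multiplicative.ofAdd ((X : M2) 0 0 * (X : M2) 0 0 * b)) := by
  obtain ⟨X, rfl⟩ := QuotientGroup.mk'_surjective (center SL) x
  obtain ⟨c, hc⟩ := hx (Multiplicative.ofAdd 1)
  have h1 : X * upper 1 = upper c.toAdd * X := by
    refine mk_inj ?_
    rw [QuotientGroup.mk_mul, QuotientGroup.mk_mul]
    exact (mul_inv_eq_iff_eq_mul.1 hc.symm)
  have h2 := congrArg (fun m : SL => (m : M2) 1 1) h1
  simp only [Matrix.SpecialLinearGroup.coe_mul] at h2
  simp [upper, Matrix.mul_apply, Fin.sum_univ_two] at h2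
  have hd := X.2
  rw [Matrix.det_fin_two, h2, mul_zero, sub_zero] at hd
  refine ⟨X, rfl, h2, fun b => ?_⟩
  rw [mul_inv_eq_iff_eq_mul]
  show ((X : PL) * (upper b : PL)) = ((upper _ : SL) : PL) * (X : PL)
  rw [← QuotientGroup.mk_mul, ← QuotientGroup.mk_mul]
  refine congrArg (QuotientGroup.mk : SL → PL) (Subtype.ext ?_)
  rw [Matrix.SpecialLinearGroup.coe_mul, Matrix.SpecialLinearGroup.coe_mul]
  ext i j
  fin_cases i <;> fin_cases j <;>
    simp [upper, Matrix.mul_apply, Fin.sum_univ_two, h2]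
  linear_combination (-(X : M2) 0 0 * b) * hd

theorem rootHom_sq (b : Multiplicative K) : rootHom b * rootHom b = (1 : PL) := by
  rw [← map_mul, show b * b = 1 from CharTwo.add_self_eq_zero b.toAdd, map_one]

theorem isPGroup_root : IsPGroup 2 (rootHom (K := K)).range := by
  rintro ⟨_, b, rfl⟩
  exact ⟨1, Subtype.ext (by rw [pow_one, pow_two]; exact rootHom_sq b)⟩

/-- The root group is a Sylow 2-subgroup. -/
theorem exists_sylow_root : ∃ S : Sylow 2 PL, (S : Subgroup PL) = (rootHom (K := K)).range := by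
  obtain ⟨S, hS⟩ := (isPGroup_root (K := K)).exists_le_sylow
  refine ⟨S, (LESylow.eq_of_normalizer_inf_le S.2 hS fun y hy => ?_).symm⟩
  obtain ⟨X, rfl, h10, -⟩ := act_of_normalizes fun b => (mem_normalizer_iff.1 hy.2 _).1 ⟨b, rfl⟩
  obtain ⟨k, hk⟩ := S.2 ⟨_, hy.1⟩
  have hk' : X ^ 2 ^ k = 1 := mk_inj (by rw [QuotientGroup.mk_pow]; exact congrArg Subtype.val hk)
  have h00 : ∀ n : ℕ, ((X ^ n : SL) : M2) 1 0 = 0 ∧ ((X ^ n : SL) : M2) 0 0 = (X : M2) 0 0 ^ n := by
    intro n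
    induction n with
    | zero => simp
    | succ n ih =>
      simp only [Matrix.SpecialLinearGroup.coe_pow] at ih ⊢
      rw [pow_succ]
      refine ⟨?_, ?_⟩
      · simp [Matrix.mul_apply, Fin.sum_univ_two, h10, ih.1]
      · simp [Matrix.mul_apply, Fin.sum_univ_two, h10, ih.2, pow_succ]
  have ha : (X : M2) 0 0 ^ 2 ^ k = 1 := by rw [← (h00 _).2, hk']; simp
  have ha1 : (X : M2) 0 0 = 1 := by
    have h0 : ∀ (j : ℕ) (a : K), a ^ 2 ^ j = 1 → a = 1 := by
      intro j
      induction j with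
      | zero => intro a h; simpa using h
      | succ j ih =>
        intro a h
        rw [pow_succ, pow_mul] at h
        have h2 : (2 : K) = 0 := CharTwo.two_eq_zero
        have h3 : (a ^ 2 ^ j - 1) * (a ^ 2 ^ j - 1) = 0 := by linear_combination h + (1 - a ^ 2 ^ j) * h2
        exact ih a (sub_eq_zero.1 (mul_self_eq_zero.1 h3))
    exact h0 k _ ha
  have hd := X.2
  rw [Matrix.det_fin_two, h10, ha1, mul_zero, sub_zero, one_mul] at hd
  refine ⟨Multiplicative.ofAdd ((X : M2) 0 1), congrArg QuotientGroup.mk (Subtype.ext ?_)⟩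
  ext i j
  fin_cases i <;> fin_cases j <;> simp [upper, h10, ha1, hd]

/-- The torus. -/
def diag (a : Kˣ) : SL := ⟨!![(a : K), 0; 0, ((a⁻¹ : Kˣ) : K)], by simp [Matrix.det_fin_two]⟩

theorem diag_act (a : Kˣ) (b : K) : (diag a : PL) * rootHom (Multiplicative.ofAdd b) * (diag a : PL)⁻¹ =
    rootHom (Multiplicative.ofAdd ((a : K) * a * b)) := by
  rw [mul_inv_eq_iff_eq_mul]
  show (diag a : PL) * (upper b : PL) = ((upper _ : SL) : PL) * (diag a : PL)
  rw [← QuotientGroup.mk_mul, ← QuotientGroup.mk_mul]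
  refine congrArg (QuotientGroup.mk : SL → PL) (Subtype.ext ?_)
  rw [Matrix.SpecialLinearGroup.coe_mul, Matrix.SpecialLinearGroup.coe_mul]
  ext i j
  fin_cases i <;> fin_cases j <;> simp [diag, upper, Matrix.mul_apply, Fin.sum_univ_two]
  field_simp

theorem exists_cfg {G : Type u} [Group G] [Finite G] (B : Bridge G PL) (hK : 3 < Fintype.card K) :
    ∃ C : ECfg G, Nonempty (Coord C) := by
  obtain ⟨S, hS⟩ := exists_sylow_root (K := K)
  obtain ⟨Fr⟩ := B.exists_frame S
  -- the coordinates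
  let r : Multiplicative K →* (S : Subgroup PL) := rootHom.codRestrict _ fun b => hS.ge ⟨b, rfl⟩
  have hr : Function.Bijective r := ⟨fun a b h => rootHom_injective (congrArg Subtype.val h), fun s => by
    obtain ⟨b, hb⟩ := hS.le s.2
    exact ⟨b, Subtype.ext hb⟩⟩
  let ψ : Multiplicative K ≃* Fr.D := (MulEquiv.ofBijective r hr).trans Fr.π.symm
  have hψ : ∀ b, (Fr.π (ψ b) : PL) = rootHom b := fun b => by
    show ((Fr.π (Fr.π.symm (r b))) : PL) = _
    rw [MulEquiv.apply_symm_apply]; rfl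
  -- a generator of the scalars
  obtain ⟨a, ha⟩ := IsCyclic.exists_generator (α := Kˣ)
  obtain ⟨k, hkt, hkL, -, hkA⟩ := Fr.lift (h := (diag a : PL)) (A := Fr.D) (A' := Fr.D) le_rfl le_rfl fun d _ => by
    obtain ⟨b, rfl⟩ := ψ.surjective d
    refine ⟨ψ (Multiplicative.ofAdd ((a : K) * a * b.toAdd)), SetLike.coe_mem _, ?_⟩
    rw [hψ, hψ]
    exact diag_act a b.toAdd
  have hk1 : ∀ x : K, k * (ψ (Multiplicative.ofAdd x) : G) * k⁻¹ = ψ (Multiplicative.ofAdd ((a : K) * a * x)) := by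
    intro x
    obtain ⟨b, -, e1, e2⟩ := hkA (ψ (Multiplicative.ofAdd x)) (SetLike.coe_mem _)
    rw [e1]
    refine congrArg Subtype.val (Fr.π.injective (Subtype.ext ?_))
    rw [← e2, hψ, hψ]
    exact diag_act a x
  have hpow : ∀ (i : ℕ) (x : K), k ^ i * (ψ (Multiplicative.ofAdd x) : G) * (k ^ i)⁻¹ =
      ψ (Multiplicative.ofAdd (((a : K) * a) ^ i * x)) := by
    intro i
    induction i with
    | zero => intro x; simp
    | succ i ih =>
      intro x
      rw [pow_succ', show k * k ^ i * (ψ (Multiplicative.ofAdd x) : G) * (k * k ^ i)⁻¹ =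
        k * (k ^ i * (ψ (Multiplicative.ofAdd x) : G) * (k ^ i)⁻¹) * k⁻¹ by group, ih, hk1, pow_succ']
      exact congrArg (fun z : K => (ψ (Multiplicative.ofAdd z) : G)) (by ring)
  have hprim : ∀ c : K, c ≠ 0 → ∃ i : ℕ, ∀ x : K,
      k ^ i * (ψ (Multiplicative.ofAdd x) : G) * (k ^ i)⁻¹ = ψ (Multiplicative.ofAdd (c * x)) := by
    intro c hc
    obtain ⟨i, hi⟩ := mem_powers_iff_mem_zpowers.2 (ha (Units.mk0 c hc))
    -- every scalar is a square
    have hi' : (a : K) ^ i = c := by rw [← Units.val_pow_eq_pow_val]; exact congrArg Units.val hi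
    obtain ⟨s, hs⟩ := FiniteField.isSquare_of_char_two (ringChar.eq K 2) c
    have hs0 : s ≠ 0 := fun e => hc (by rw [hs, e, mul_zero])
    obtain ⟨j, hj⟩ := mem_powers_iff_mem_zpowers.2 (ha (Units.mk0 s hs0))
    have hj' : (a : K) ^ j = s := by rw [← Units.val_pow_eq_pow_val]; exact congrArg Units.val hj
    refine ⟨j, fun x => ?_⟩
    rw [hpow, mul_pow, hj', ← hs]
  refine ⟨⟨B.t, Fr.D, Fr.T, Fr.memT, B.tsq, Fr.tnot, fun d hd => ?_, ?_, Fr.commD, Fr.full, k, hkt, fun d hd => ?_,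
    fun d hd e he hd1 he1 => ?_, Fr.nD⟩, ⟨{ F := K, φ := Multiplicative.ofAdd.trans ψ.toEquiv, φ_add := ?_, prim := ?_, semi := ?_ }⟩⟩
  · obtain ⟨b, hb⟩ := ψ.surjective ⟨d, hd⟩
    have h1 : (⟨d, hd⟩ : Fr.D) * ⟨d, hd⟩ = 1 := by
      rw [← hb, ← map_mul, show b * b = 1 from CharTwo.add_self_eq_zero b.toAdd, map_one]
    exact congrArg Subtype.val h1
  · rw [← Nat.card_congr ψ.toEquiv, Nat.card_congr Multiplicative.toAdd, Nat.card_eq_fintype_card]
    omega
  · obtain ⟨b, -, e1, -⟩ := hkA ⟨d, hd⟩ hd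
    exact e1 ▸ b.2
  · obtain ⟨b, hb⟩ := ψ.surjective ⟨d, hd⟩
    obtain ⟨c, hc⟩ := ψ.surjective ⟨e, he⟩
    have hb0 : b.toAdd ≠ 0 := fun h0 => hd1 (by
      have : (⟨d, hd⟩ : Fr.D) = 1 := by rw [← hb, show b = 1 from h0, map_one]
      exact congrArg Subtype.val this)
    have hc0 : c.toAdd ≠ 0 := fun h0 => he1 (by
      have : (⟨e, he⟩ : Fr.D) = 1 := by rw [← hc, show c = 1 from h0, map_one]
      exact congrArg Subtype.val this)
    obtain ⟨i, hi⟩ := hprim (c.toAdd / b.toAdd) (div_ne_zero hc0 hb0)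
    refine ⟨i, ?_⟩
    have := hi b.toAdd
    rw [div_mul_cancel₀ _ hb0, ofAdd_toAdd, ofAdd_toAdd, hb, hc] at this
    exact this
  · intro x y
    exact map_mul ψ (Multiplicative.ofAdd x) (Multiplicative.ofAdd y)
  · exact hprim
  · intro g hg hgD c
    rcases eq_or_ne c 0 with rfl | hc
    · refine ⟨0, fun x y _ => ?_⟩
      rw [zero_mul, zero_mul]
      show g * (ψ 1 : G) * g⁻¹ = ψ 1
      simp
    obtain ⟨i, hi⟩ := hprim c hc
    have hg' : g⁻¹ * B.t = B.t * g⁻¹ := (Commute.inv_left hg).eq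
    have hgD' : ∀ d ∈ Fr.D, g⁻¹ * d * g ∈ Fr.D := by
      intro d hd
      have hn : g ∈ normalizer (Fr.D : Set G) := mem_normalizer_fintype hgD
      have h1 := (mem_normalizer_iff.1 (inv_mem hn) d).1 hd
      rwa [inv_inv] at h1
    set n := g * k ^ i * g⁻¹ with hn
    have hnL : n ∈ B.L := B.normal g hg _ (pow_mem hkL i)
    have hkD : ∀ (i : ℕ), ∀ d ∈ Fr.D, k ^ i * d * (k ^ i)⁻¹ ∈ Fr.D := fun i d hd => by
      obtain ⟨b, hb⟩ := ψ.surjective ⟨d, hd⟩
      rw [show d = (ψ (Multiplicative.ofAdd b.toAdd) : G) by rw [ofAdd_toAdd, hb], hpow]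
      exact SetLike.coe_mem _
    have hnD : ∀ d ∈ Fr.D, n * d * n⁻¹ ∈ Fr.D := fun d hd => by
      have := hgD _ (hkD i _ (hgD' d hd))
      rw [hn]
      convert this using 1
      group
    set m := (B.φ ⟨n, hnL⟩).2 with hm
    have hconj : ∀ b : Multiplicative K, ∃ b', n * (ψ b : G) * n⁻¹ = ψ b' ∧ m * rootHom b * m⁻¹ = rootHom b' := by
      intro b
      obtain ⟨b', hb'⟩ := ψ.surjective ⟨_, hnD _ (ψ b).2⟩
      refine ⟨b', by rw [hb'], ?_⟩
      rw [← hψ b', hb', Fr.hπ, ← hψ b, Fr.hπ, hm]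
      have e : (⟨n * (ψ b : G) * n⁻¹, Fr.le (hnD _ (ψ b).2)⟩ : B.L) =
          ⟨n, hnL⟩ * ⟨ψ b, Fr.le (ψ b).2⟩ * (⟨n, hnL⟩ : B.L)⁻¹ := rfl
      rw [e, map_mul, map_mul, map_inv]
      rfl
    obtain ⟨X, -, -, hX⟩ := act_of_normalizes (x := m) fun b => by
      obtain ⟨b', -, e⟩ := hconj b
      exact ⟨b', e.symm⟩
    refine ⟨(X : M2) 0 0 * (X : M2) 0 0, fun x y hxy => ?_⟩
    obtain ⟨b', e1, e2⟩ := hconj (Multiplicative.ofAdd y)
    rw [hX y] at e2
    have hb'' := rootHom_injective e2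
    show g * (ψ (Multiplicative.ofAdd (c * x)) : G) * g⁻¹ = ψ (Multiplicative.ofAdd ((X : M2) 0 0 * (X : M2) 0 0 * y))
    rw [hb'', ← e1, ← hi, hn]
    have hxy' : (ψ (Multiplicative.ofAdd y) : G) = g * (ψ (Multiplicative.ofAdd x) : G) * g⁻¹ := hxy.symm
    rw [hxy']
    group

end InterfaceEven

end Cfsg.Agent.TwoXDih
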