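import Cfsg.Agent.Lib.TwoXDih.Full

/-!
# The data when `D` is dihedral of order at least eight
-/

set_option autoImplicit false
set_option linter.unusedSectionVars false
set_option linter.style.haveILetI false
set_option linter.unusedVariables false

namespace Cfsg.Agent.TwoXDih

open Subgroup

universe u

/-- `T = ⟨t⟩ × D` is a Sylow 2-subgroup of `C(t)`, `D` is dihedral of order at least eight with centre `⟨z⟩`,
and all involutions of `D` are conjugate to `z` in `C(t)`. -/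
structure OCfg (G : Type u) [Group G] where
  t : G
  z : G
  D : Subgroup G
  T : Subgroup G
  memT : ∀ x, x ∈ T ↔ x ∈ D ∨ t * x ∈ D
  tsq : t * t = 1
  tnot : t ∉ D
  commD : ∀ d ∈ D, d * t = t * d
  full : Full t T
  card8 : 8 ≤ Nat.card D
  zD : z ∈ D
  z2 : z * z = 1
  z1 : z ≠ 1
  zc : ∀ d ∈ D, d * z = z * d
  zsq : ∃ y ∈ D, y * y = z
  centre : ∀ c ∈ D, (∀ d ∈ D, d * c = c * d) → c = 1 ∨ c = z
  invol : ∀ d ∈ D, d * d = 1 → d ≠ 1 → ∃ c : G, c * t = t * c ∧ c * d * c⁻¹ = z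
  sq2 : ∀ d ∈ D, d * d * (d * d) = 1 → d * d = 1 ∨ d * d = z
  inverter : ∀ f ∈ D, f * f = z → ∃ d ∈ D, d * d = 1 ∧ d * f * d = f⁻¹
  commf : ∀ f ∈ D, f * f = z → ∀ e ∈ D, e * e = 1 → e * f = f * e → e = 1 ∨ e = z
  refl8 : ∀ x ∈ D, x * x = 1 → x ≠ 1 → x ≠ z → (∀ d ∈ D, d * x * d⁻¹ = x ∨ d * x * d⁻¹ = x * z) →
    Nat.card D = 8
  count : ∃ j : ℕ, {d : G | d ∈ D ∧ d * d = 1 ∧ d ≠ 1}.ncard = 4 * j + 1
  gen : D ≤ Subgroup.closure {d : G | d ∈ D ∧ d * d = 1}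
  four : Nat.card D = 8 → ∀ x ∈ D, x * x = 1 → x ≠ 1 → x ≠ z →
    ∃ k : G, k * t = t * k ∧ k * x * k⁻¹ = z ∧ k * z * k⁻¹ = x * z

namespace OCfg

variable {G : Type u} [Group G] [Finite G]

theorem conj_mul' (g a b : G) : g * (a * b) * g⁻¹ = g * a * g⁻¹ * (g * b * g⁻¹) := by group

theorem conj_inj {g a b : G} : g * a * g⁻¹ = g * b * g⁻¹ ↔ a = b := by
  rw [mul_left_inj, mul_right_inj]

/-- Transport by conjugation. -/
noncomputable def map (C : OCfg G) (g : G) : OCfg G where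
  t := g * C.t * g⁻¹
  z := g * C.z * g⁻¹
  D := C.D.map (MulAut.conj g).toMonoidHom
  T := C.T.map (MulAut.conj g).toMonoidHom
  memT := by
    intro x
    have hm : ∀ (A : Subgroup G) (y : G), y ∈ A.map (MulAut.conj g).toMonoidHom ↔ g⁻¹ * y * g ∈ A := by
      intro A y
      constructor
      · rintro ⟨a, ha, rfl⟩
        show g⁻¹ * (g * a * g⁻¹) * g ∈ A
        rwa [show g⁻¹ * (g * a * g⁻¹) * g = a by group]
      · intro h
        exact ⟨_, h, show g * (g⁻¹ * y * g) * g⁻¹ = y by group⟩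
    rw [hm, hm, hm, C.memT, show g⁻¹ * (g * C.t * g⁻¹ * x) * g = C.t * (g⁻¹ * x * g) by group]
  tsq := by rw [← conj_mul', C.tsq]; group
  tnot := by
    rintro ⟨a, ha, e⟩
    exact C.tnot (conj_inj.1 e ▸ ha)
  commD := by
    rintro _ ⟨a, ha, rfl⟩
    show g * a * g⁻¹ * (g * C.t * g⁻¹) = g * C.t * g⁻¹ * (g * a * g⁻¹)
    rw [← conj_mul', ← conj_mul', C.commD a ha]
  full := C.full.map g
  card8 := by rw [Subgroup.card_map_of_injective (MulEquiv.injective _)]; exact C.card8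
  zD := ⟨C.z, C.zD, rfl⟩
  z2 := by rw [← conj_mul', C.z2]; group
  z1 := fun e => C.z1 (conj_eq_one_iff.1 e)
  zc := by
    rintro _ ⟨a, ha, rfl⟩
    show g * a * g⁻¹ * (g * C.z * g⁻¹) = g * C.z * g⁻¹ * (g * a * g⁻¹)
    rw [← conj_mul', ← conj_mul', C.zc a ha]
  zsq := by
    obtain ⟨y, hy, e⟩ := C.zsq
    exact ⟨g * y * g⁻¹, ⟨y, hy, rfl⟩, by rw [← conj_mul', e]⟩
  centre := by
    rintro _ ⟨c, hc, rfl⟩ h
    rcases C.centre c hc fun d hd => conj_inj (g := g).1 (by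
      rw [conj_mul', conj_mul']; exact h _ ⟨d, hd, rfl⟩) with e | e
    · exact Or.inl (show g * c * g⁻¹ = 1 by rw [e]; group)
    · exact Or.inr (show g * c * g⁻¹ = _ by rw [e])
  invol := by
    rintro _ ⟨d, hd, rfl⟩ h2 h1
    obtain ⟨c, hc, e⟩ := C.invol d hd (conj_inj (g := g).1 (by
      rw [conj_mul']; exact h2.trans (by group))) (fun e => h1 (show g * d * g⁻¹ = 1 by rw [e]; group))
    refine ⟨g * c * g⁻¹, by rw [← conj_mul', ← conj_mul', hc], ?_⟩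
    show g * c * g⁻¹ * (g * d * g⁻¹) * (g * c * g⁻¹)⁻¹ = _
    rw [← e]; group
  sq2 := by
    rintro _ ⟨d, hd, rfl⟩ h
    rcases C.sq2 d hd (conj_inj (g := g).1 (by
      rw [conj_mul', conj_mul']; exact h.trans (by group))) with e | e
    · exact Or.inl (show g * d * g⁻¹ * (g * d * g⁻¹) = 1 by rw [← conj_mul', e]; group)
    · exact Or.inr (show g * d * g⁻¹ * (g * d * g⁻¹) = _ by rw [← conj_mul', e])
  inverter := by
    rintro _ ⟨f, hf, rfl⟩ h
    obtain ⟨d, hd, hd2, e⟩ := C.inverter f hf (conj_inj (g := g).1 (by rw [conj_mul']; exact h))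
    refine ⟨g * d * g⁻¹, ⟨d, hd, rfl⟩, by rw [← conj_mul', hd2]; group, ?_⟩
    show g * d * g⁻¹ * (g * f * g⁻¹) * (g * d * g⁻¹) = (g * f * g⁻¹)⁻¹
    rw [← conj_mul', ← conj_mul', e]; group
  commf := by
    rintro _ ⟨f, hf, rfl⟩ h _ ⟨e, he, rfl⟩ h2 hc
    rcases C.commf f hf (conj_inj (g := g).1 (by rw [conj_mul']; exact h)) e he
      (conj_inj (g := g).1 (by rw [conj_mul']; exact h2.trans (by group)))
      (conj_inj (g := g).1 (by rw [conj_mul', conj_mul']; exact hc)) with r | r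
    · exact Or.inl (show g * e * g⁻¹ = 1 by rw [r]; group)
    · exact Or.inr (show g * e * g⁻¹ = _ by rw [r])
  refl8 := by
    rintro _ ⟨x, hx, rfl⟩ h2 h1 hz hcl
    rw [Subgroup.card_map_of_injective (MulEquiv.injective _)]
    refine C.refl8 x hx (conj_inj (g := g).1 (by rw [conj_mul']; exact h2.trans (by group)))
      (fun e => h1 (show g * x * g⁻¹ = 1 by rw [e]; group)) (fun e => hz (show g * x * g⁻¹ = _ by rw [e]))
      fun d hd => ?_
    have h := hcl (g * d * g⁻¹) ⟨d, hd, rfl⟩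
    have e1 : g * d * g⁻¹ * (g * x * g⁻¹) * (g * d * g⁻¹)⁻¹ = g * (d * x * d⁻¹) * g⁻¹ := by group
    rcases h with h | h
    · exact Or.inl (conj_inj (g := g).1 (e1.symm.trans h))
    · refine Or.inr (conj_inj (g := g).1 ?_)
      rw [conj_mul' g x C.z]
      exact e1.symm.trans h
  count := by
    obtain ⟨j, hj⟩ := C.count
    refine ⟨j, ?_⟩
    rw [← hj]
    have : {d : G | d ∈ C.D.map (MulAut.conj g).toMonoidHom ∧ d * d = 1 ∧ d ≠ 1} =
        (fun d => g * d * g⁻¹) '' {d : G | d ∈ C.D ∧ d * d = 1 ∧ d ≠ 1} := by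
      ext y
      constructor
      · rintro ⟨⟨a, ha, rfl⟩, h2, h1⟩
        refine ⟨a, ⟨ha, conj_inj (g := g).1 (by rw [conj_mul']; exact h2.trans (by group)), ?_⟩, rfl⟩
        exact fun e => h1 (show g * a * g⁻¹ = 1 by rw [e]; group)
      · rintro ⟨a, ⟨ha, h2, h1⟩, rfl⟩
        exact ⟨⟨a, ha, rfl⟩, by rw [← conj_mul', h2]; group, fun e => h1 (conj_eq_one_iff.1 e)⟩
    rw [this]
    exact Set.ncard_image_of_injective _ fun a b e => conj_inj.1 e
  gen := by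
    refine (Subgroup.map_mono C.gen).trans ?_
    rw [MonoidHom.map_closure]
    refine Subgroup.closure_mono ?_
    rintro _ ⟨d, ⟨hd, h2⟩, rfl⟩
    exact ⟨⟨d, hd, rfl⟩, show g * d * g⁻¹ * (g * d * g⁻¹) = 1 by rw [← conj_mul', h2]; group⟩
  four := by
    intro h8 y hy h2 h1 hz
    obtain ⟨x, hx, rfl⟩ := hy
    rw [Subgroup.card_map_of_injective (MulEquiv.injective _)] at h8
    obtain ⟨k, hk, ha, hb⟩ := C.four h8 x hx (conj_inj (g := g).1 (by rw [conj_mul']; exact h2.trans (by group)))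
      (fun e => h1 (show g * x * g⁻¹ = 1 by rw [e]; group)) (fun e => hz (show g * x * g⁻¹ = _ by rw [e]))
    refine ⟨g * k * g⁻¹, by rw [← conj_mul', ← conj_mul', hk], ?_, ?_⟩
    · show g * k * g⁻¹ * (g * x * g⁻¹) * (g * k * g⁻¹)⁻¹ = g * C.z * g⁻¹
      rw [← ha]; group
    · show g * k * g⁻¹ * (g * C.z * g⁻¹) * (g * k * g⁻¹)⁻¹ = g * x * g⁻¹ * (g * C.z * g⁻¹)
      rw [← conj_mul' g x C.z, ← hb]; group

end OCfg

end Cfsg.Agent.TwoXDih
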