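import Cfsg.Agent.Lib.TwoXDih.Interface
import Cfsg.Agent.Lib.TwoXDih.Elem
import Cfsg.Agent.Lib.TwoXDih.OCfg
import Cfsg.Agent.Lib.LocalEven.SylowAux
import Mathlib.GroupTheory.SpecificGroups.KleinFour

/-!
# The interface for `q` odd: a Klein or dihedral Sylow subgroup, one class of involutions
-/

set_option autoImplicit false
set_option linter.unusedSectionVars false
set_option linter.style.haveILetI false

namespace Cfsg.Agent.TwoXDih

open Subgroup

universe u v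

variable {G : Type u} [Group G] [Finite G] {P : Type v} [Group P] [Finite P] {B : Bridge G P}

/-- Lift an element moving two elements of the Sylow subgroup. -/
theorem Frame.lift_pair {S₀ : Subgroup P} (F : Frame B S₀) {h : P} {a₁ a₂ b₁ b₂ : F.D}
    (e₁ : h * F.π a₁ * h⁻¹ = F.π b₁) (e₂ : h * F.π a₂ * h⁻¹ = F.π b₂) :
    ∃ c : G, c * B.t = B.t * c ∧ c * a₁ * c⁻¹ = (b₁ : G) ∧ c * a₂ * c⁻¹ = b₂ := by
  have hle : ∀ a b : F.D, closure ({(a : G), (b : G)} : Set G) ≤ F.D := fun a b => (closure_le _).2 (by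
    rintro _ (rfl | rfl) <;> exact SetLike.coe_mem _)
  have himg : ∀ x ∈ closure ({(a₁ : G), (a₂ : G)} : Set G), ∃ hx : x ∈ F.D, ∃ b : F.D,
      (b : G) ∈ closure ({(b₁ : G), (b₂ : G)} : Set G) ∧ h * F.π ⟨x, hx⟩ * h⁻¹ = F.π b := by
    intro x hx
    induction hx using closure_induction with
    | mem y hy =>
      rcases hy with rfl | rfl
      · exact ⟨a₁.2, b₁, subset_closure (Or.inl rfl), e₁⟩
      · exact ⟨a₂.2, b₂, subset_closure (Or.inr rfl), e₂⟩
    | one =>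
      refine ⟨one_mem _, 1, one_mem _, ?_⟩
      rw [show (⟨1, one_mem _⟩ : F.D) = 1 from rfl, map_one]; simp
    | mul x y _ _ hx hy =>
      obtain ⟨hx, b, hb, e⟩ := hx
      obtain ⟨hy, b', hb', e'⟩ := hy
      refine ⟨mul_mem hx hy, b * b', mul_mem hb hb', ?_⟩
      rw [show (⟨x * y, mul_mem hx hy⟩ : F.D) = ⟨x, hx⟩ * ⟨y, hy⟩ from rfl, map_mul, map_mul, coe_mul, coe_mul,
        ← e, ← e']
      group
    | inv x _ hx =>
      obtain ⟨hx, b, hb, e⟩ := hx
      refine ⟨inv_mem hx, b⁻¹, inv_mem hb, ?_⟩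
      rw [show (⟨x⁻¹, inv_mem hx⟩ : F.D) = (⟨x, hx⟩ : F.D)⁻¹ from rfl, map_inv, map_inv, coe_inv, coe_inv, ← e]
      group
  obtain ⟨c, hc, -, -, hcA⟩ := F.lift (hle a₁ a₂) (hle b₁ b₂) fun a ha => (himg a ha).snd
  refine ⟨c, hc, ?_, ?_⟩
  · obtain ⟨b, -, e, e'⟩ := hcA a₁ (subset_closure (Or.inl rfl))
    rw [e, F.π.injective (Subtype.ext (e'.symm.trans e₁))]
  · obtain ⟨b, -, e, e'⟩ := hcA a₂ (subset_closure (Or.inr rfl))
    rw [e, F.π.injective (Subtype.ext (e'.symm.trans e₂))]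

/-- A Klein Sylow subgroup. -/
theorem exists_klein (hconj : ∀ x y : P, orderOf x = 2 → orderOf y = 2 → IsConj x y) (S : Sylow 2 P)
    (hS : IsKleinFour (S : Subgroup P)) (B : Bridge G P) : ∃ C : ECfg G, Nat.card C.D = 4 := by
  classical
  haveI : Fact (Nat.Prime 2) := ⟨Nat.prime_two⟩
  haveI := hS
  obtain ⟨Fr⟩ := B.exists_frame S
  letI : Fintype (S : Subgroup P) := Fintype.ofFinite _
  haveI : IsMulCommutative (S : Subgroup P) := IsKleinFour.isMulCommutative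
  -- two involutions
  have hne : ∀ a : (S : Subgroup P), ∃ b : (S : Subgroup P), b ≠ 1 ∧ b ≠ a := fun a => by
    by_contra hh
    have h1 : (Finset.univ : Finset (S : Subgroup P)) ⊆ {1, a} := fun b _ => by
      by_contra hb
      simp only [Finset.mem_insert, Finset.mem_singleton, not_or] at hb
      exact hh ⟨b, hb.1, hb.2⟩
    have h2 := (Finset.card_le_card h1).trans Finset.card_le_two
    rw [Finset.card_univ, IsKleinFour.card_four'] at h2
    omega
  obtain ⟨x, hx1, -⟩ := hne 1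
  obtain ⟨y, hy1, hxy⟩ := hne x
  have hall : ∀ a : (S : Subgroup P), a = 1 ∨ a = x ∨ a = y ∨ a = x * y := fun a => by
    have h := (IsKleinFour.eq_finset_univ hx1 hy1 (Ne.symm hxy)).ge (Finset.mem_univ a)
    simp only [Finset.mem_insert, Finset.mem_singleton] at h
    tauto
  have hz1 : x * y ≠ 1 := fun e => hxy (by
    rw [← inv_eq_of_mul_eq_one_right e, IsKleinFour.inv_eq_self])
  have hzx : x * y ≠ x := fun e => hy1 (mul_eq_left.1 e)
  have hzy : x * y ≠ y := fun e => hx1 (mul_eq_right.1 e)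
  have hord : ∀ a : (S : Subgroup P), a ≠ 1 → orderOf (a : P) = 2 := fun a ha => by
    rw [orderOf_coe]
    exact orderOf_eq_prime (by rw [pow_two]; exact IsKleinFour.mul_self a) ha
  -- an element of the normalizer sending `x` to any involution
  have hburn : ∀ a : (S : Subgroup P), a ≠ 1 →
      ∃ n ∈ normalizer ((S : Subgroup P) : Set P), n * (x : P) * n⁻¹ = (a : P) := by
    intro a ha
    obtain ⟨g, hg⟩ := isConj_iff.1 (hconj _ _ (hord x hx1) (hord a ha))
    obtain ⟨n, hn, e⟩ := S.conj_eq_normalizer_conj_of_mem (x : P) g⁻¹ x.2 (by rw [inv_inv, hg]; exact a.2)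
    rw [inv_inv, hg] at e
    exact ⟨n⁻¹, inv_mem hn, by rw [inv_inv]; exact e.symm⟩
  have hact : ∀ n ∈ normalizer ((S : Subgroup P) : Set P), ∀ a : (S : Subgroup P),
      ∃ b : (S : Subgroup P), n * (a : P) * n⁻¹ = b ∧ (a ≠ 1 → b ≠ 1) := fun n hn a =>
    ⟨⟨_, (mem_normalizer_iff.1 hn _).1 a.2⟩, rfl, fun ha e => ha (Subtype.ext (by
      have : n * (a : P) * n⁻¹ = 1 := congrArg Subtype.val e
      exact conj_eq_one_iff.1 this))⟩
  -- a three-cycle
  obtain ⟨n, hn, nx⟩ := hburn y hy1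
  obtain ⟨m, hm, mx⟩ := hburn (x * y) hz1
  have hinj : ∀ n : P, ∀ a b : (S : Subgroup P), n * (a : P) * n⁻¹ = n * (b : P) * n⁻¹ → a = b :=
    fun n a b e => Subtype.ext (by simpa using e)
  have hthird : ∀ n ∈ normalizer ((S : Subgroup P) : Set P), ∀ a b : (S : Subgroup P),
      n * (x : P) * n⁻¹ = a → n * (y : P) * n⁻¹ = b → n * ((x * y : (S : Subgroup P)) : P) * n⁻¹ = ((a * b : (S : Subgroup P)) : P) := by
    intro n _ a b e1 e2
    rw [coe_mul, coe_mul, ← e1, ← e2]; group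
  have hyx : y * (x * y) = x := by
    rw [mul_comm' x y, ← mul_assoc, IsKleinFour.mul_self, one_mul]
  obtain ⟨h, hh, hX, hY⟩ : ∃ h ∈ normalizer ((S : Subgroup P) : Set P),
      h * (x : P) * h⁻¹ = y ∧ h * (y : P) * h⁻¹ = ((x * y : (S : Subgroup P)) : P) := by
    obtain ⟨b, ny, hb⟩ := hact n hn y
    rcases hall b with e | e | e | e
    · exact absurd e (hb hy1)
    · -- `n` swaps `x` and `y`
      rw [e] at ny
      obtain ⟨b', my, hb'⟩ := hact m hm y
      rcases hall b' with e' | e' | e' | e'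
      · exact absurd e' (hb' hy1)
      · -- `m` is a three-cycle the other way: take its square
        rw [e'] at my
        refine ⟨m * m, mul_mem hm hm, ?_, ?_⟩
        · have := hthird m hm _ _ mx my
          rw [mul_comm' (x * y) x, ← mul_assoc, IsKleinFour.mul_self, one_mul] at this
          rw [show m * m * (x : P) * (m * m)⁻¹ = m * (m * (x : P) * m⁻¹) * m⁻¹ by group, mx, this]
        · rw [show m * m * (y : P) * (m * m)⁻¹ = m * (m * (y : P) * m⁻¹) * m⁻¹ by group, my, mx]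
      · -- `m` fixes `y`
        rw [e'] at my
        refine ⟨m * n, mul_mem hm hn, ?_, ?_⟩
        · rw [show m * n * (x : P) * (m * n)⁻¹ = m * (n * (x : P) * n⁻¹) * m⁻¹ by group, nx, my]
        · rw [show m * n * (y : P) * (m * n)⁻¹ = m * (n * (y : P) * n⁻¹) * m⁻¹ by group, ny, mx]
      · rw [e'] at my
        exact absurd (hinj m _ _ (my.trans mx.symm)) hxy
    · rw [e] at ny
      exact absurd (hinj n _ _ (ny.trans nx.symm)) hxy
    · rw [e] at ny
      exact ⟨n, hn, nx, ny⟩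
  have hZ : h * ((x * y : (S : Subgroup P)) : P) * h⁻¹ = x := by
    rw [hthird h hh _ _ hX hY, hyx]
  set X := Fr.π.symm x with hXd
  set Y := Fr.π.symm y with hYd
  obtain ⟨k, hkt, kX, kY⟩ := Fr.lift_pair (h := h) (a₁ := X) (a₂ := Y) (b₁ := Y) (b₂ := X * Y)
    (by simpa [hXd, hYd] using hX) (by simpa [hXd, hYd] using hY)
  have hDall : ∀ d : Fr.D, d = 1 ∨ d = X ∨ d = Y ∨ d = X * Y := fun d => by
    rcases hall (Fr.π d) with e | e | e | e
    · exact Or.inl (Fr.π.injective (e.trans (map_one _).symm))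
    · exact Or.inr (Or.inl (Fr.π.injective (e.trans (Fr.π.apply_symm_apply x).symm)))
    · exact Or.inr (Or.inr (Or.inl (Fr.π.injective (e.trans (Fr.π.apply_symm_apply y).symm))))
    · refine Or.inr (Or.inr (Or.inr (Fr.π.injective (e.trans ?_))))
      rw [map_mul, hXd, hYd, MulEquiv.apply_symm_apply, MulEquiv.apply_symm_apply]
  have hDsq : ∀ d : Fr.D, d * d = 1 := fun d => Fr.π.injective (by rw [map_mul, map_one]; exact IsKleinFour.mul_self _)
  have hcommD : ∀ a b : Fr.D, a * b = b * a := fun a b => Fr.π.injective (by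
    rw [map_mul, map_mul]; exact mul_comm' _ _)
  have kZ : k * ((X * Y : Fr.D) : G) * k⁻¹ = (X : G) := by
    rw [coe_mul, show k * ((X : G) * Y) * k⁻¹ = (k * (X : G) * k⁻¹) * (k * (Y : G) * k⁻¹) by group, kX, kY,
      ← coe_mul, hcommD X Y, ← mul_assoc, hDsq, one_mul]
  have kcyc : ∀ d : Fr.D, d ≠ 1 → (d = X ∨ d = Y ∨ d = X * Y) := fun d hd => (hDall d).resolve_left hd
  have e1 : ∀ a : G, k ^ 1 * a * (k ^ 1)⁻¹ = k * a * k⁻¹ := fun a => by rw [pow_one]
  have e2 : ∀ a : G, k ^ 2 * a * (k ^ 2)⁻¹ = k * (k * a * k⁻¹) * k⁻¹ := fun a => by rw [pow_two]; group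
  have e0 : ∀ a : G, k ^ 0 * a * (k ^ 0)⁻¹ = a := fun a => by group
  refine ⟨⟨B.t, Fr.D, Fr.T, Fr.memT, B.tsq, Fr.tnot, fun d hd => congrArg Subtype.val (hDsq ⟨d, hd⟩), ?_, Fr.commD,
    Fr.full, k, hkt, fun d hd => ?_, fun d hd e he hd1 he1 => ?_, Fr.nD⟩, ?_⟩
  · rw [Nat.card_congr Fr.π.toEquiv, IsKleinFour.card_four]
  · rcases hDall ⟨d, hd⟩ with e | e | e | e
    · rw [show d = 1 from congrArg Subtype.val e]; simp
    · rw [show d = (X : G) from congrArg Subtype.val e, kX]; exact Y.2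
    · rw [show d = (Y : G) from congrArg Subtype.val e, kY]; exact (X * Y).2
    · rw [show d = ((X * Y : Fr.D) : G) from congrArg Subtype.val e, kZ]; exact X.2
  · rcases kcyc ⟨d, hd⟩ (fun c => hd1 (congrArg Subtype.val c)) with a | a | a <;>
    rcases kcyc ⟨e, he⟩ (fun c => he1 (congrArg Subtype.val c)) with b | b | b <;>
    rw [show d = _ from congrArg Subtype.val a, show e = _ from congrArg Subtype.val b]
    · exact ⟨0, e0 _⟩
    · exact ⟨1, by rw [e1, kX]⟩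
    · exact ⟨2, by rw [e2, kX, kY]⟩
    · exact ⟨2, by rw [e2, kY, kZ]⟩
    · exact ⟨0, e0 _⟩
    · exact ⟨1, by rw [e1, kY]⟩
    · exact ⟨1, by rw [e1, kZ]⟩
    · exact ⟨2, by rw [e2, kZ, kX]⟩
    · exact ⟨0, e0 _⟩
  · show Nat.card Fr.D = 4
    rw [Nat.card_congr Fr.π.toEquiv, IsKleinFour.card_four]

/-- A dihedral Sylow subgroup. -/
theorem exists_dih (hconj : ∀ x y : P, orderOf x = 2 → orderOf y = 2 → IsConj x y) (S : Sylow 2 P) (C : Subgroup P)
    (hCS : C ≤ (S : Subgroup P)) (hC : IsCyclic C) (hC4 : 4 ≤ Nat.card C)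
    (hout : ∀ x ∈ (S : Subgroup P), x ∉ C → orderOf x = 2)
    (hidx : ∀ x ∈ (S : Subgroup P), ∀ y ∈ (S : Subgroup P), x ∉ C → y ∉ C → x * y ∈ C)
    (hex : ∃ x ∈ (S : Subgroup P), x ∉ C) (B : Bridge G P) : Nonempty (OCfg G) := by
  classical
  haveI : Fact (Nat.Prime 2) := ⟨Nat.prime_two⟩
  obtain ⟨Fr⟩ := B.exists_frame S
  let ι : Fr.D →* P := (S : Subgroup P).subtype.comp Fr.π.toMonoidHom
  have hι : Function.Injective ι := fun a b h => Fr.π.injective (Subtype.ext h)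
  have hιS : ∀ d, ι d ∈ (S : Subgroup P) := fun d => (Fr.π d).2
  have hιsurj : ∀ s ∈ (S : Subgroup P), ∃ d, ι d = s := fun s hs =>
    ⟨Fr.π.symm ⟨s, hs⟩, congrArg Subtype.val (Fr.π.apply_symm_apply _)⟩
  -- the generators
  obtain ⟨c0, hc0⟩ := (Subgroup.isCyclic_iff_exists_zpowers_eq_top C).1 hC
  obtain ⟨c, hc⟩ := hιsurj c0 (hCS (hc0.le (mem_zpowers c0)))
  set Cd := zpowers c with hCd
  have hCdC : Cd.map ι = C := by rw [hCd, MonoidHom.map_zpowers, hc, hc0]
  have hCmem : ∀ d : Fr.D, d ∈ Cd ↔ ι d ∈ C := fun d => by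
    rw [← hCdC, mem_map_iff_mem hι]
  have hcardC : Nat.card Cd = Nat.card C := by rw [← hCdC, card_map_of_injective hι]
  obtain ⟨x0, hx0, hx0C⟩ := hex
  obtain ⟨x, hx⟩ := hιsurj x0 hx0
  have hxC : x ∉ Cd := fun h => hx0C (hx ▸ (hCmem x).1 h)
  have hcase : ∀ d : Fr.D, x * d ∈ Cd ∨ d ∈ Cd := fun d => by
    by_cases h : d ∈ Cd
    · exact Or.inr h
    · refine Or.inl ((hCmem _).2 ?_)
      rw [map_mul]
      exact hidx _ (hιS x) _ (hιS d) (fun h' => hxC ((hCmem x).2 h')) (fun h' => h ((hCmem d).2 h'))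
  have hDC : Nat.card Fr.D = 2 * Nat.card Cd := by
    have hi : Cd.index = 2 := Subgroup.index_eq_two_iff_exists_notMem_and'.2 ⟨x, hxC, hcase⟩
    rw [← Cd.card_mul_index, hi, mul_comm]
  have hsq : ∀ d : Fr.D, d ∉ Cd → d * d = 1 := fun d hd => hι (by
    have h := pow_orderOf_eq_one (ι d)
    rw [hout _ (hιS d) (fun h => hd ((hCmem d).2 h)), pow_two] at h
    rw [map_mul, map_one, h])
  have hinv : ∀ d : Fr.D, d ∉ Cd → ∀ e ∈ Cd, d * e * d = e⁻¹ := fun d hd e he => by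
    refine eq_inv_of_mul_eq_one_left ?_
    rw [mul_assoc (d * e)]
    exact hsq _ fun h => hd (by simpa using mul_mem h (inv_mem he))
  -- the order of the generator
  obtain ⟨n, hn⟩ := IsPGroup.iff_card.1 (S.2.to_le hCS)
  have hn2 : 2 ≤ n := by
    by_contra hlt
    have := Nat.pow_le_pow_right (show 0 < 2 by norm_num) (show n ≤ 1 by omega)
    rw [← hn] at this
    omega
  obtain ⟨m, rfl⟩ : ∃ m, n = m + 2 := ⟨n - 2, by omega⟩
  have hordc : orderOf c = 2 ^ (m + 2) := by rw [← Nat.card_zpowers, ← hCd, hcardC, hn]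
  have hc4 : c * c ≠ 1 := fun e => by
    have h1 := Nat.le_of_dvd (by norm_num) (orderOf_dvd_of_pow_eq_one (show c ^ 2 = 1 by rw [pow_two]; exact e))
    rw [hordc, pow_succ] at h1
    have := Nat.one_le_two_pow (n := m + 1)
    omega
  -- the central involution
  set z := c ^ 2 ^ (m + 1) with hzdef
  have hzC : z ∈ Cd := pow_mem (mem_zpowers c) _
  have hz2 : z * z = 1 := by
    rw [hzdef, ← pow_add, ← two_mul, ← pow_succ', ← hordc, pow_orderOf_eq_one]
  have hz1 : z ≠ 1 := fun e => by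
    have h1 := Nat.le_of_dvd (by positivity) (orderOf_dvd_of_pow_eq_one e)
    rw [hordc] at h1
    exact absurd h1 (not_le.2 (Nat.pow_lt_pow_right (by norm_num) (by omega)))
  have hCsq : ∀ e ∈ Cd, e * e = 1 → e = 1 ∨ e = z := by
    intro e he h2
    obtain ⟨i, hi⟩ := (mem_powers_iff_mem_zpowers.2 he)
    have hi' : c ^ i = e := hi
    rw [← hi', ← pow_add] at h2
    have hd := orderOf_dvd_of_pow_eq_one h2
    rw [hordc, pow_succ', ← two_mul] at hd
    obtain ⟨j, rfl⟩ := Nat.dvd_of_mul_dvd_mul_left (by norm_num : 0 < 2) hd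
    rw [← hi', pow_mul, ← hzdef]
    rcases Nat.even_or_odd' j with ⟨l, rfl | rfl⟩
    · left; rw [pow_mul, pow_two, hz2, one_pow]
    · right; rw [pow_succ, pow_mul, pow_two, hz2, one_pow, one_mul]
  have hout' : ∀ d : Fr.D, d * d = 1 → d ≠ 1 → d ≠ z → d ∉ Cd := fun d h2 h1 hz h =>
    (hCsq d h h2).elim h1 hz
  have hzinv : z⁻¹ = z := inv_eq_of_mul_eq_one_right hz2
  have hzc : ∀ d : Fr.D, d * z = z * d := fun d => by
    by_cases hd : d ∈ Cd
    · obtain ⟨i, rfl⟩ := mem_zpowers_iff.1 hd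
      exact ((Commute.refl c).zpow_left i).pow_right _
    · have h1 := hinv d hd z hzC
      rw [hzinv] at h1
      calc d * z = d * z * (d * d) := by rw [hsq d hd, mul_one]
        _ = d * z * d * d := (mul_assoc _ _ _).symm
        _ = z * d := by rw [h1]
  have hcd : ∀ d : Fr.D, d ∉ Cd → c * d * c⁻¹ = d * (c * c)⁻¹ := fun d hd => by
    have h1 := hinv d hd c (mem_zpowers c)
    calc c * d * c⁻¹ = d * d * c * d * c⁻¹ := by rw [hsq d hd, one_mul]
      _ = d * (d * c * d) * c⁻¹ := by group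
      _ = d * (c * c)⁻¹ := by rw [h1]; group
  -- fusion of involutions
  have hinvol : ∀ d : Fr.D, d * d = 1 → d ≠ 1 → ∃ k : G, k * B.t = B.t * k ∧ k * d * k⁻¹ = (z : G) := by
    intro d h2 h1
    have ho : ∀ d : Fr.D, d * d = 1 → d ≠ 1 → orderOf (ι d) = 2 := fun d h2 h1 => by
      rw [orderOf_injective ι hι]
      exact orderOf_eq_prime (by rw [pow_two, h2]) h1
    obtain ⟨g, hg⟩ := isConj_iff.1 (hconj _ _ (ho d h2 h1) (ho z hz2 hz1))
    obtain ⟨k, hk, e, -⟩ := Fr.lift_pair (h := g) (a₁ := d) (a₂ := d) (b₁ := z) (b₂ := z) hg hg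
    exact ⟨k, hk, e⟩
  have hfour : Nat.card Fr.D = 8 → ∀ d : Fr.D, d * d = 1 → d ≠ 1 → d ≠ z →
      ∃ k : G, k * B.t = B.t * k ∧ k * d * k⁻¹ = (z : G) ∧ k * z * k⁻¹ = ((d * z : Fr.D) : G) := by
    intro h8 d h2 h1 hz
    have hm : m = 0 := by
      rw [hDC, hcardC, hn] at h8
      have := Nat.pow_le_pow_iff_right (le_refl 2) (n := m + 2) (m := 2)
      omega
    have hc2 : (c * c)⁻¹ = z := by
      have h : z = c * c := by rw [hzdef, hm, zero_add, pow_one, pow_two]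
      rw [← h, hzinv]
    set e := ι d with he
    set ζ := ι z with hζ
    have hζe : e * ζ = ζ * e := by rw [he, hζ, ← map_mul, ← map_mul, hzc]
    have hee : e * e = 1 := by rw [he, ← map_mul, h2, map_one]
    have hne : ∀ {a b : Fr.D}, a ≠ b → ι a ≠ ι b := fun h h' => h (hι h')
    obtain ⟨g, hg⟩ := isConj_iff.1 (hconj ζ e
      (orderOf_eq_prime (by rw [pow_two, hζ, ← map_mul, hz2, map_one]) (by rw [hζ, ← map_one ι]; exact hne hz1))
      (orderOf_eq_prime (by rw [pow_two, hee]) (by rw [he, ← map_one ι]; exact hne h1)))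
    set R := centralizer ({ζ} : Set P) with hR
    have hSR : (S : Subgroup P) ≤ R := fun s hs => by
      obtain ⟨a, rfl⟩ := hιsurj s hs
      refine mem_centralizer_singleton_iff.2 ?_
      rw [hζ, ← map_mul, ← map_mul, hzc]
    set y := g⁻¹ * ζ * g with hy
    have hyR : zpowers y ≤ R := zpowers_le.2 (mem_centralizer_singleton_iff.2 (by
      have hgi : g⁻¹ * e * g = ζ := by rw [← hg]; group
      calc y * ζ = g⁻¹ * ζ * g * (g⁻¹ * e * g) := by rw [hgi]
        _ = g⁻¹ * (ζ * e) * g := by group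
        _ = g⁻¹ * (e * ζ) * g := by rw [hζe]
        _ = g⁻¹ * e * g * (g⁻¹ * ζ * g) := by group
        _ = ζ * y := by rw [hgi]))
    have hyy : y ^ 2 = 1 := by
      rw [pow_two, hy, show g⁻¹ * ζ * g * (g⁻¹ * ζ * g) = g⁻¹ * (ζ * ζ) * g by group, hζ, ← map_mul, hz2, map_one]
      group
    have hyp : IsPGroup 2 (zpowers y) := by
      rintro ⟨_, i, rfl⟩
      refine ⟨1, Subtype.ext ?_⟩
      show (y ^ i) ^ 2 ^ 1 = 1
      rw [pow_one, ← zpow_natCast, ← zpow_mul, mul_comm, zpow_mul, zpow_natCast, hyy, one_zpow]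
    obtain ⟨r, hr, hrle⟩ := LESylow.exists_conj_le_of_le hyR hyp (S.subtype hSR)
    have hr' : r * y * r⁻¹ ∈ (S : Subgroup P) := by
      obtain ⟨a, ha, e'⟩ := hrle ⟨y, mem_zpowers y, rfl⟩
      have e'' : (a : P) = r * y * r⁻¹ := e'
      rw [← e'']
      exact mem_subgroupOf.1 ha
    set g' := g * r⁻¹ with hg'
    have hg1 : g' * ζ * g'⁻¹ = e := by
      have hrζ := mem_centralizer_singleton_iff.1 hr
      rw [← hg, hg', show g * r⁻¹ * ζ * (g * r⁻¹)⁻¹ = g * (r⁻¹ * (ζ * r)) * g⁻¹ by group, ← hrζ,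
        inv_mul_cancel_left]
    obtain ⟨w, hw⟩ := hιsurj _ hr'
    have hg2 : g' * ι w * g'⁻¹ = ζ := by rw [hw, hg', hy]; group
    have hww : w * w = 1 := hι (by
      have h3 : g' * (ι w * ι w) * g'⁻¹ = 1 := by
        rw [show g' * (ι w * ι w) * g'⁻¹ = g' * ι w * g'⁻¹ * (g' * ι w * g'⁻¹) by group, hg2, hζ, ← map_mul, hz2,
          map_one]
      rw [map_mul, map_one]
      exact conj_eq_one_iff.1 h3)
    have hw1 : w ≠ 1 := fun h => by
      rw [h, map_one, mul_one, mul_inv_cancel, hζ, ← map_one ι] at hg2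
      exact hz1 (hι hg2.symm)
    have hwz : w ≠ z := fun h => by
      rw [h, ← hζ, hg1, he, hζ] at hg2
      exact hz (hι hg2)
    have hcw : ι c * ι w * (ι c)⁻¹ = ι w * ζ := by
      rw [hζ, ← map_inv, ← map_mul, ← map_mul, ← map_mul, hcd w (hout' w hww hw1 hwz), hc2]
    have hce : ι c * e * (ι c)⁻¹ = e * ζ := by
      rw [he, hζ, ← map_inv, ← map_mul, ← map_mul, ← map_mul, hcd d (hout' d h2 h1 hz), hc2]
    have hcζ : ι c * ζ * (ι c)⁻¹ = ζ := by rw [hζ, ← map_mul, hzc, map_mul]; group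
    set s := g' * ι c * g'⁻¹ with hs
    have hsζ : s * ζ * s⁻¹ = ζ * e := by
      calc s * ζ * s⁻¹ = s * (g' * ι w * g'⁻¹) * s⁻¹ := by rw [hg2]
        _ = g' * (ι c * ι w * (ι c)⁻¹) * g'⁻¹ := by rw [hs]; group
        _ = g' * ι w * g'⁻¹ * (g' * ζ * g'⁻¹) := by rw [hcw]; group
        _ = ζ * e := by rw [hg2, hg1]
    have hse : s * e * s⁻¹ = e := by
      calc s * e * s⁻¹ = s * (g' * ζ * g'⁻¹) * s⁻¹ := by rw [hg1]
        _ = g' * (ι c * ζ * (ι c)⁻¹) * g'⁻¹ := by rw [hs]; group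
        _ = e := by rw [hcζ, hg1]
    have h3 : s * ι c * e * (s * ι c)⁻¹ = ζ := by
      calc s * ι c * e * (s * ι c)⁻¹ = s * (ι c * e * (ι c)⁻¹) * s⁻¹ := by group
        _ = s * e * s⁻¹ * (s * ζ * s⁻¹) := by rw [hce]; group
        _ = e * (e * ζ) := by rw [hse, hsζ, hζe]
        _ = ζ := by rw [← mul_assoc, hee, one_mul]
    have h4 : s * ι c * ζ * (s * ι c)⁻¹ = ι (d * z) := by
      calc s * ι c * ζ * (s * ι c)⁻¹ = s * (ι c * ζ * (ι c)⁻¹) * s⁻¹ := by group
        _ = ζ * e := by rw [hcζ, hsζ]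
        _ = ι (d * z) := by rw [map_mul, ← he, ← hζ, hζe]
    exact Fr.lift_pair (h := s * ι c) h3 h4
  have hcnt : {d : G | d ∈ Fr.D ∧ d * d = 1 ∧ d ≠ 1}.ncard = 4 * 2 ^ m + 1 := by
    have e : {d : G | d ∈ Fr.D ∧ d * d = 1 ∧ d ≠ 1} = (fun d : Fr.D => (d : G)) '' insert z (Cd : Set Fr.D)ᶜ := by
      ext d
      constructor
      · rintro ⟨hd, h2, h1⟩
        refine ⟨⟨d, hd⟩, ?_, rfl⟩
        by_cases h : (⟨d, hd⟩ : Fr.D) = z
        · exact Or.inl h
        · exact Or.inr (hout' _ (Subtype.ext h2) (fun e => h1 (congrArg Subtype.val e)) h)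
      · rintro ⟨d, hd, rfl⟩
        rcases hd with rfl | hd
        · exact ⟨z.2, congrArg Subtype.val hz2, fun e => hz1 (Subtype.ext e)⟩
        · exact ⟨d.2, congrArg Subtype.val (hsq d hd), fun e => hd (by
            rw [show d = 1 from Subtype.ext e]; exact one_mem _)⟩
    rw [e, Set.ncard_image_of_injective _ Subtype.val_injective,
      Set.ncard_insert_of_notMem (show z ∉ (Cd : Set Fr.D)ᶜ from fun h => h hzC), Set.ncard_compl, hDC,
      ← Nat.card_coe_set_eq (Cd : Set Fr.D)]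
    rw [SetLike.coe_sort_coe, hcardC, hn, show 2 * 2 ^ (m + 2) - 2 ^ (m + 2) = 2 ^ (m + 2) by omega, pow_add]
    ring
  refine ⟨⟨B.t, (z : G), Fr.D, Fr.T, Fr.memT, B.tsq, Fr.tnot, Fr.commD, Fr.full, ?_, z.2, congrArg Subtype.val hz2,
    fun e => hz1 (Subtype.ext e), fun d hd => congrArg Subtype.val (hzc ⟨d, hd⟩), ?_, ?_, ?_, ?_, ?_, ?_, ?_,
    ⟨_, hcnt⟩, ?_, ?_⟩⟩
  · rw [hDC, hcardC]; omega
  · refine ⟨(c ^ 2 ^ m : Fr.D), SetLike.coe_mem _, ?_⟩
    rw [← coe_mul, ← pow_add, ← two_mul, ← pow_succ']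
  · -- centre
    intro d hd h
    have hcen : ∀ e : Fr.D, e * ⟨d, hd⟩ = ⟨d, hd⟩ * e := fun e => Subtype.ext (h e e.2)
    have key : (⟨d, hd⟩ : Fr.D) = 1 ∨ (⟨d, hd⟩ : Fr.D) = z := by
      by_cases hdC : (⟨d, hd⟩ : Fr.D) ∈ Cd
      · refine hCsq _ hdC ?_
        have h1 := hinv x hxC _ hdC
        rw [hcen x, mul_assoc, hsq x hxC, mul_one] at h1
        exact mul_eq_one_iff_eq_inv.2 h1
      · exfalso
        have h1 := hinv _ hdC c (mem_zpowers c)
        rw [← hcen c, mul_assoc, hsq _ hdC, mul_one] at h1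
        exact hc4 (mul_eq_one_iff_eq_inv.2 h1)
    rcases key with e | e
    · exact Or.inl (congrArg Subtype.val e)
    · exact Or.inr (congrArg Subtype.val e)
  · intro d hd h2 h1
    exact hinvol ⟨d, hd⟩ (Subtype.ext h2) (fun e => h1 (congrArg Subtype.val e))
  · -- sq2
    intro d hd h4
    have key : (⟨d, hd⟩ : Fr.D) * ⟨d, hd⟩ = 1 ∨ (⟨d, hd⟩ : Fr.D) * ⟨d, hd⟩ = z := by
      by_cases hdC : (⟨d, hd⟩ : Fr.D) ∈ Cd
      · exact hCsq _ (mul_mem hdC hdC) (Subtype.ext h4)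
      · exact Or.inl (hsq _ hdC)
    rcases key with e | e
    · exact Or.inl (congrArg Subtype.val e)
    · exact Or.inr (congrArg Subtype.val e)
  · -- inverter
    intro f hf h
    have hfC : (⟨f, hf⟩ : Fr.D) ∈ Cd := by
      by_contra hfC
      exact hz1 (Subtype.ext (h.symm.trans (congrArg Subtype.val (hsq _ hfC))))
    exact ⟨x, x.2, congrArg Subtype.val (hsq x hxC), congrArg Subtype.val (hinv x hxC _ hfC)⟩
  · -- commf
    intro f hf h e he h2 hc'
    have key : (⟨e, he⟩ : Fr.D) = 1 ∨ (⟨e, he⟩ : Fr.D) = z := by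
      by_cases heC : (⟨e, he⟩ : Fr.D) ∈ Cd
      · exact hCsq _ heC (Subtype.ext h2)
      · exfalso
        have hfC : (⟨f, hf⟩ : Fr.D) ∈ Cd := by
          by_contra hfC
          exact hz1 (Subtype.ext (h.symm.trans (congrArg Subtype.val (hsq _ hfC))))
        have h1 := hinv _ heC _ hfC
        rw [show (⟨e, he⟩ : Fr.D) * ⟨f, hf⟩ = ⟨f, hf⟩ * ⟨e, he⟩ from Subtype.ext hc', mul_assoc, hsq _ heC,
          mul_one] at h1
        exact hz1 (Subtype.ext (h.symm.trans (congrArg Subtype.val (mul_eq_one_iff_eq_inv.2 h1))))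
    rcases key with e' | e'
    · exact Or.inl (congrArg Subtype.val e')
    · exact Or.inr (congrArg Subtype.val e')
  · -- refl8
    intro w hw h2 h1 hz h
    have hwC : (⟨w, hw⟩ : Fr.D) ∉ Cd := hout' _ (Subtype.ext h2) (fun e => h1 (congrArg Subtype.val e))
      (fun e => hz (congrArg Subtype.val e))
    have h3 := hcd _ hwC
    rcases h c c.2 with e | e
    · exfalso
      rw [show c * (⟨w, hw⟩ : Fr.D) * c⁻¹ = ⟨w, hw⟩ from Subtype.ext e] at h3
      exact hc4 (inv_eq_one.1 (mul_eq_left.1 h3.symm))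
    · rw [show c * (⟨w, hw⟩ : Fr.D) * c⁻¹ = ⟨w, hw⟩ * z from Subtype.ext e] at h3
      have h4 : c ^ 4 = 1 := by
        have h5 : z = (c * c)⁻¹ := mul_left_cancel h3
        have h6 : c * c = z := by rw [← inv_inv (c * c), ← h5, hzinv]
        rw [show (4 : ℕ) = 2 + 2 from rfl, pow_add, pow_two, h6, hz2]
      have h7 := Nat.le_of_dvd (by norm_num) (orderOf_dvd_of_pow_eq_one h4)
      rw [hordc] at h7
      rw [hDC, hcardC, hn]
      have h8 : 2 ^ 2 ≤ 2 ^ (m + 2) := Nat.pow_le_pow_right (by norm_num) (by omega)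
      omega
  · -- gen
    intro d hd
    set H := closure {d : G | d ∈ Fr.D ∧ d * d = 1} with hH
    have hmemH : ∀ a : Fr.D, a ∉ Cd → a ∈ H.comap Fr.D.subtype := fun a ha =>
      subset_closure ⟨a.2, congrArg Subtype.val (hsq a ha)⟩
    show (⟨d, hd⟩ : Fr.D) ∈ H.comap Fr.D.subtype
    by_cases hdC : (⟨d, hd⟩ : Fr.D) ∈ Cd
    · have hxd : x * ⟨d, hd⟩ ∉ Cd := fun h => hxC (by simpa using mul_mem h (inv_mem hdC))
      have := mul_mem (hmemH x hxC) (hmemH _ hxd)
      rwa [← mul_assoc, hsq x hxC, one_mul] at this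
    · exact hmemH _ hdC
  · intro h8 w hw h2 h1 hz
    exact hfour h8 ⟨w, hw⟩ (Subtype.ext h2) (fun e => h1 (congrArg Subtype.val e))
      (fun e => hz (congrArg Subtype.val e))

end Cfsg.Agent.TwoXDih
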