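import Cfsg.Agent.Lib.TwoXDih.InterfaceBridge
import Cfsg.Agent.Lib.TwoXDih.InterfaceEven
import Cfsg.Agent.Lib.TwoXDih.InterfaceOdd
import Cfsg.Agent.Lib.Fusion.PSL2Simple
import Cfsg.Agent.S0276

/-!
# From `Z₂ × PSL(2, q)` to the configurations
-/

set_option autoImplicit false
set_option linter.style.haveILetI false

namespace Cfsg.Agent.TwoXDih

open Subgroup

universe u v

/-- A centralizer of type `Z₂ × PSL(2, q)` modulo the odd core gives one of the two configurations. -/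
theorem exists_cfg {G : Type u} [Group G] [Finite G] (t : G) (ht : orderOf t = 2) {F : Type v} [Field F] [Fintype F]
    (hF : 3 < Fintype.card F)
    (hL : Nonempty (↥(Subgroup.closure {x : (↥(Subgroup.centralizer ({t} : Set G)) ⧸ Cfsg.oddCore ↥(Subgroup.centralizer ({t} : Set G))) | ∃ k : ℕ, orderOf x = 2 ^ k}) ≃*
      (Multiplicative (ZMod 2) × Matrix.ProjectiveSpecialLinearGroup (Fin 2) F))) :
    (∃ C : ECfg G, 8 ≤ Nat.card C.D → Nonempty (Coord C)) ∨ Nonempty (OCfg G) := by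
  obtain ⟨K, hfK, hftK, hK, B, -⟩ := exists_bridge t ht hF hL
  obtain ⟨p, hp⟩ := CharP.exists K
  obtain ⟨n, hprime, hcard⟩ := FiniteField.card K p
  by_cases h2 : p = 2
  · subst h2
    obtain ⟨C, hC⟩ := InterfaceEven.exists_cfg B hK
    exact Or.inl ⟨C, fun _ => hC⟩
  have hodd : Fintype.card K % 2 = 1 := by
    rw [hcard]
    exact Nat.odd_iff.1 ((hprime.odd_of_ne_two h2).pow)
  have hconj := fun x y : Matrix.ProjectiveSpecialLinearGroup (Fin 2) K =>
    FusionSys.involutions_conj (F := K) hodd (x := x) (y := y)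
  obtain ⟨S⟩ : Nonempty (Sylow 2 (Matrix.ProjectiveSpecialLinearGroup (Fin 2) K)) := inferInstance
  by_cases hq : Fintype.card K % 8 = 3 ∨ Fintype.card K % 8 = 5
  · obtain ⟨C, hC⟩ := exists_klein hconj S (Cfsg.Agent.S0276.result rfl hq S) B
    exact Or.inl ⟨C, fun h => absurd h (by omega)⟩
  · have h16 : 16 ∣ Fintype.card K ^ 2 - 1 := by
      obtain ⟨k, hk⟩ : ∃ k, Fintype.card K = 8 * k + 1 ∨ Fintype.card K = 8 * k + 7 :=
        ⟨Fintype.card K / 8, by omega⟩
      rcases hk with hk | hk <;> rw [hk]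
      · rw [show (8 * k + 1) ^ 2 = 16 * (4 * k ^ 2 + k) + 1 by ring, Nat.add_sub_cancel]
        exact dvd_mul_right _ _
      · rw [show (8 * k + 7) ^ 2 = 16 * (4 * k ^ 2 + 7 * k + 3) + 1 by ring, Nat.add_sub_cancel]
        exact dvd_mul_right _ _
    obtain ⟨C, hCS, hC, hC4, hout, hidx, hex⟩ := FusionSys.psl2_sylow_structure hodd h16 S
    exact Or.inr (exists_dih hconj S C hCS hC hC4 hout hidx hex B)

end Cfsg.Agent.TwoXDih
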