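import Cfsg.Agent.Lib.RankOne.FieldMaps
import Cfsg.Agent.Lib.RankOneW.Galois
import Mathlib.GroupTheory.GroupAction.Quotient
import Mathlib.GroupTheory.PGroup
import Mathlib.Tactic.Group
import Mathlib.Tactic.Ring

/-!
# A transitive group of additive maps of a field with semilinear point stabiliser

`J` acts on `2 ^ n` points and on the field with as many elements; the stabiliser of a point has odd
order, consists of semilinear maps and contains the scalars, which are free on the other points.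
-/

set_option autoImplicit false
set_option linter.style.haveILetI false
set_option linter.unusedSectionVars false

namespace Cfsg.Agent.TwoXDih.JL

open MulAction

universe u v

variable {F : Type} [Field F] {J : Type u} [Group J] {X : Type v} [MulAction J X]

/-- The hypotheses of the J lemma. -/
structure Cfg (ρ : J →* AddMonoid.End F) (w : X) : Prop where
  inj : Function.Injective ρ
  trans : IsPretransitive J X
  card : Nat.card X = Nat.card F
  odd : Odd (Nat.card (stabilizer J w))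
  scalar : ∀ c : F, c ≠ 0 → ∃ j ∈ stabilizer J w, ∀ x, ρ j x = c * x
  semi : ∀ j ∈ stabilizer J w, ∀ c, (∀ x, ρ j x = c * x) → ∀ p, p ≠ w → j • p = p → c = 1
  norm : ∀ j ∈ stabilizer J w, ∀ c : F, ∃ c2, ∀ x, ρ j (c * x) = c2 * ρ j x

theorem eq_of_card_cyclic {A : Type*} [Group A] [Finite A] [IsCyclic A] {H K : Subgroup A}
    (h : Nat.card H = Nat.card K) : H = K := by
  classical
  haveI := Fintype.ofFinite A
  have key : ∀ X : Subgroup A, (X : Set A).toFinset = Finset.univ.filter fun a : A => a ^ Nat.card X = 1 := by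
    intro X
    refine Finset.eq_of_subset_of_card_le (fun a ha => ?_) ?_
    · rw [Set.mem_toFinset] at ha
      simp only [Finset.mem_filter, Finset.mem_univ, true_and]
      exact orderOf_dvd_iff_pow_eq_one.1 (Subgroup.orderOf_dvd_natCard _ ha)
    · refine (IsCyclic.card_pow_eq_one_le Nat.card_pos).trans ?_
      rw [Set.toFinset_card, ← Nat.card_eq_fintype_card]; rfl
  exact SetLike.coe_injective (Set.toFinset_inj.1 (by rw [key H, key K, h]))

theorem ρ_mul (ρ : J →* AddMonoid.End F) (g h : J) (x : F) : ρ (g * h) x = ρ g (ρ h x) := by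
  rw [map_mul]; rfl

theorem ρ_one (ρ : J →* AddMonoid.End F) (x : F) : ρ 1 x = x := by rw [map_one]; rfl

theorem ρ_inv (ρ : J →* AddMonoid.End F) (g : J) (x : F) : ρ g⁻¹ (ρ g x) = x := by
  rw [← ρ_mul, inv_mul_cancel, ρ_one]

theorem eq_of_ρ {ρ : J →* AddMonoid.End F} {w : X} (hC : Cfg ρ w) {g h : J} (e : ∀ x, ρ g x = ρ h x) : g = h :=
  hC.inj (AddMonoidHom.ext e)

variable {ρ : J →* AddMonoid.End F} {w : X}

theorem ρ_one_ne_zero (j : J) : ρ j 1 ≠ 0 := fun h =>
  one_ne_zero (by rw [← ρ_inv ρ j 1, h, map_zero])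

/-- The field automorphism of a semilinear map. -/
noncomputable def τ (hC : Cfg ρ w) (j : stabilizer J w) : F ≃+* F where
  toFun x := ρ (j : J) x / ρ (j : J) 1
  invFun y := ρ (j : J)⁻¹ (y * ρ (j : J) 1)
  left_inv x := by
    show ρ (j : J)⁻¹ (ρ (j : J) x / ρ (j : J) 1 * ρ (j : J) 1) = x
    rw [div_mul_cancel₀ _ (ρ_one_ne_zero _), ρ_inv]
  right_inv y := by
    show ρ (j : J) (ρ (j : J)⁻¹ (y * ρ (j : J) 1)) / ρ (j : J) 1 = y
    rw [← ρ_mul, mul_inv_cancel, ρ_one, mul_div_cancel_right₀ _ (ρ_one_ne_zero _)]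
  map_add' x y := by
    show ρ (j : J) (x + y) / _ = _
    rw [map_add, add_div]
  map_mul' c x := by
    obtain ⟨c2, h2⟩ := hC.norm j j.2 c
    have h1 := h2 1
    rw [mul_one] at h1
    show ρ (j : J) (c * x) / _ = _
    have := ρ_one_ne_zero (ρ := ρ) (j : J)
    rw [h2 x, h1]
    field_simp

theorem τ_spec (hC : Cfg ρ w) (j : stabilizer J w) (x : F) : ρ (j : J) x = ρ (j : J) 1 * τ hC j x := by
  show _ = ρ (j : J) 1 * (ρ (j : J) x / ρ (j : J) 1)
  rw [mul_div_cancel₀ _ (ρ_one_ne_zero _)]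

/-- The automorphisms, as a homomorphism. -/
noncomputable def θ (hC : Cfg ρ w) : stabilizer J w →* (F ≃+* F) where
  toFun := τ hC
  map_one' := RingEquiv.ext fun x => by
    show ρ ((1 : stabilizer J w) : J) x / ρ ((1 : stabilizer J w) : J) 1 = x
    rw [OneMemClass.coe_one, ρ_one, ρ_one, div_one]
  map_mul' g h := RingEquiv.ext fun x => by
    show ρ ((g * h : stabilizer J w) : J) x / ρ ((g * h : stabilizer J w) : J) 1 = τ hC g (τ hC h x)
    have hg := ρ_one_ne_zero (ρ := ρ) (g : J)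
    have hh : τ hC g (ρ (h : J) 1) ≠ 0 := (map_ne_zero (τ hC g)).2 (ρ_one_ne_zero _)
    rw [Subgroup.coe_mul, ρ_mul, ρ_mul, τ_spec hC h x, τ_spec hC g (ρ (h : J) 1 * τ hC h x),
      τ_spec hC g (ρ (h : J) 1), map_mul]
    field_simp

theorem θ_spec (hC : Cfg ρ w) (j : stabilizer J w) (x : F) : ρ (j : J) x = ρ (j : J) 1 * θ hC j x :=
  τ_spec hC j x

theorem exists_kfun (hC : Cfg ρ w) (c : Fˣ) : ∃ j ∈ stabilizer J w, ∀ x, ρ j x = (c : F) * x :=
  hC.scalar c c.ne_zero

/-- The scalar maps. -/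
noncomputable def kf (hC : Cfg ρ w) : Fˣ →* J where
  toFun c := (exists_kfun hC c).choose
  map_one' := eq_of_ρ hC fun x => by
    rw [(exists_kfun hC 1).choose_spec.2, ρ_one, Units.val_one, one_mul]
  map_mul' c d := eq_of_ρ hC fun x => by
    rw [ρ_mul, (exists_kfun hC (c * d)).choose_spec.2, (exists_kfun hC c).choose_spec.2,
      (exists_kfun hC d).choose_spec.2, Units.val_mul, mul_assoc]

section
variable (hC : Cfg ρ w)

theorem kf_mem (c : Fˣ) : kf hC c ∈ stabilizer J w := (exists_kfun hC c).choose_spec.1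

theorem kf_spec (c : Fˣ) (x : F) : ρ (kf hC c) x = (c : F) * x := (exists_kfun hC c).choose_spec.2 x

theorem kf_w (c : Fˣ) : kf hC c • w = w := kf_mem hC c

theorem kf_free {c : Fˣ} {p : X} (hp : p ≠ w) (h : kf hC c • p = p) : c = 1 :=
  Units.ext (hC.semi _ (kf_mem hC c) c (kf_spec hC c) p hp h)

theorem kf_inj {c d : Fˣ} {p : X} (hp : p ≠ w) (h : kf hC c • p = kf hC d • p) : c = d := by
  have h1 : kf hC (d⁻¹ * c) • p = p := by
    rw [map_mul, mul_smul, h, ← mul_smul, ← map_mul, inv_mul_cancel, map_one, one_smul]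
  exact (inv_mul_eq_one.1 (kf_free hC hp h1)).symm

theorem kf_smul_ne {c : Fˣ} {p : X} (hp : p ≠ w) : kf hC c • p ≠ w := fun h =>
  hp (MulAction.injective (kf hC c) (h.trans (kf_w hC c).symm))

theorem θ_kf (c : Fˣ) : θ hC ⟨kf hC c, kf_mem hC c⟩ = 1 := RingEquiv.ext fun x => by
  show ρ (kf hC c) x / ρ (kf hC c) 1 = x
  rw [kf_spec, kf_spec, mul_one, mul_div_cancel_left₀ _ c.ne_zero]

theorem eq_kf_of_θ {h : stabilizer J w} (hh : θ hC h = 1) :
    (h : J) = kf hC (Units.mk0 (ρ (h : J) 1) (ρ_one_ne_zero _)) :=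
  eq_of_ρ hC fun x => by rw [θ_spec hC h x, hh, kf_spec]; rfl

theorem conj_kf (h : stabilizer J w) (c : Fˣ) :
    (h : J) * kf hC c = kf hC (Units.map (θ hC h).toRingHom.toMonoidHom c) * h := eq_of_ρ hC fun x => by
  rw [ρ_mul, ρ_mul, kf_spec, kf_spec, θ_spec hC h ((c : F) * x), θ_spec hC h x, map_mul]
  show _ = θ hC h (c : F) * (ρ (h : J) 1 * θ hC h x)
  ring

theorem smul_kf_smul (h : stabilizer J w) (c : Fˣ) (p : X) :
    (h : J) • kf hC c • p = kf hC (Units.map (θ hC h).toRingHom.toMonoidHom c) • (h : J) • p := by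
  rw [← mul_smul, conj_kf, mul_smul]

theorem kf_mem_centralizer (h : stabilizer J w) {c : Fˣ} (hc : θ hC h (c : F) = c) :
    kf hC c * (h : J) = (h : J) * kf hC c := by
  rw [conj_kf]
  congr 2
  exact Units.ext hc.symm

theorem two_point_inj {p : X} (hp : p ≠ w) {h h' : stabilizer J w} (e : θ hC h = θ hC h')
    (hh : (h : J) • p = p) (hh' : (h' : J) • p = p) : h = h' := by
  have h1 : θ hC (h⁻¹ * h') = 1 := by rw [map_mul, map_inv, e, inv_mul_cancel]
  have e2 := eq_kf_of_θ hC h1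
  have h2 : ((h⁻¹ * h' : stabilizer J w) : J) • p = p := by
    rw [Subgroup.coe_mul, InvMemClass.coe_inv, mul_smul, hh']
    exact inv_smul_eq_iff.2 hh.symm
  rw [e2] at h2
  have h3 := kf_free hC hp h2
  rw [h3, map_one] at e2
  exact inv_mul_eq_one.1 (Subtype.ext e2)

end

section
variable [Fintype F] [CharP F 2] [Finite J] (hC : Cfg ρ w)
include hC

theorem card_X_pos : 0 < Nat.card X := by rw [hC.card]; exact Nat.card_pos

theorem finite_X : Finite X := Nat.finite_of_card_ne_zero (card_X_pos hC).ne'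

theorem exists_kf_smul {p q : X} (hp : p ≠ w) (hq : q ≠ w) : ∃ c : Fˣ, kf hC c • p = q := by
  classical
  haveI := finite_X hC
  haveI : Fintype X := Fintype.ofFinite X
  let f : Fˣ → {x : X // x ≠ w} := fun c => ⟨kf hC c • p, kf_smul_ne hC hp⟩
  have hb : Function.Bijective f := by
    refine (Fintype.bijective_iff_injective_and_card f).2 ⟨fun c d h => kf_inj hC hp (congrArg Subtype.val h), ?_⟩
    rw [Fintype.card_units, Fintype.card_subtype_compl, Fintype.card_subtype_eq, ← Nat.card_eq_fintype_card,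
      ← Nat.card_eq_fintype_card, hC.card]
  obtain ⟨c, hc⟩ := hb.2 ⟨q, hq⟩
  exact ⟨c, congrArg Subtype.val hc⟩

theorem exists_pair_map {p p' q q' : X} (hpp : p ≠ p') (hqq : q ≠ q') : ∃ g : J, g • p = q ∧ g • p' = q' := by
  haveI := hC.trans
  obtain ⟨g, hg⟩ := exists_smul_eq J p w
  obtain ⟨g', hg'⟩ := exists_smul_eq J q w
  have h1 : g • p' ≠ w := fun h => hpp (MulAction.injective g (hg.trans h.symm))
  have h2 : g' • q' ≠ w := fun h => hqq (MulAction.injective g' (hg'.trans h.symm))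
  obtain ⟨c, hc⟩ := exists_kf_smul hC h1 h2
  refine ⟨g'⁻¹ * kf hC c * g, ?_, ?_⟩
  · rw [mul_smul, mul_smul, hg, kf_w, ← hg', inv_smul_smul]
  · rw [mul_smul, mul_smul, hc, inv_smul_smul]

theorem odd_range : Odd (Nat.card (θ hC).range) := hC.odd.of_dvd_nat (Subgroup.card_range_dvd _)

theorem range_card_dvd : Nat.card (θ hC).range ∣ Nat.card (F ≃+* F) :=
  haveI : Finite (F ≃+* F) := Finite.of_injective (fun σ => (σ : F → F)) DFunLike.coe_injective
  Subgroup.card_subgroup_dvd_card _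

/-- An element with the same order as its automorphism fixes a second point. -/
theorem exists_fixed (h : stabilizer J w) (hord : h ^ orderOf (θ hC h) = 1) (hX : ∃ p : X, p ≠ w) :
    ∃ p, p ≠ w ∧ (h : J) • p = p := by
  classical
  obtain ⟨p₁, hp₁⟩ := hX
  have hne : (h : J) • p₁ ≠ w := fun e => hp₁ (MulAction.injective (h : J) (e.trans h.2.symm))
  obtain ⟨a, ha⟩ := exists_kf_smul hC hp₁ hne
  set t := θ hC h with ht
  set m := orderOf t with hm
  haveI : Finite (F ≃+* F) := Finite.of_injective (fun σ => (σ : F → F)) DFunLike.coe_injective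
  have hm0 : 0 < m := orderOf_pos t
  let A : ℕ → Fˣ := fun i => Nat.rec 1 (fun _ b => Units.map t.toRingHom.toMonoidHom b * a) i
  have hA : ∀ i, (h : J) ^ i • p₁ = kf hC (A i) • p₁ := by
    intro i
    induction i with
    | zero => rw [pow_zero, one_smul, show A 0 = 1 from rfl, map_one, one_smul]
    | succ i ih =>
      rw [pow_succ', mul_smul, ih, smul_kf_smul, ← ha, ← mul_smul, ← map_mul]
  have hAm : A m = 1 := kf_free hC hp₁ (by
    rw [← hA, ← SubgroupClass.coe_pow, hord, OneMemClass.coe_one, one_smul])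
  -- a combination that does not vanish
  obtain ⟨x, hx⟩ : ∃ x : F, (∑ i : Fin m, Units.val (A i.val) * ((t ^ (i : ℕ) : F ≃+* F) x)) ≠ 0 := by
    by_contra hno
    push Not at hno
    have hinj : Function.Injective fun i : Fin m => t ^ (i : ℕ) := fun i j e =>
      Fin.ext (pow_injOn_Iio_orderOf i.2 j.2 e)
    have hli := (RankOne.FieldMaps.independent (F := F)).comp _ hinj
    have h0 := Fintype.linearIndependent_iff.1 hli (fun i => Units.val (A i.val)) (funext fun x => by
      rw [Finset.sum_apply]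
      simpa using hno x) ⟨0, hm0⟩
    exact (A 0).ne_zero h0
  set L := ∑ i : Fin m, Units.val (A i.val) * ((t ^ (i : ℕ) : F ≃+* F) x) with hL
  refine ⟨kf hC (Units.mk0 L hx) • p₁, kf_smul_ne hC hp₁, ?_⟩
  rw [smul_kf_smul, ← ha, ← mul_smul, ← map_mul]
  congr 2
  refine Units.ext ?_
  show t L * (a : F) = L
  rw [hL, map_sum, Finset.sum_mul]
  have e : ∀ i : Fin m, t (Units.val (A i) * ((t ^ (i : ℕ) : F ≃+* F) x)) * (a : F) =
      Units.val (A ((i : ℕ) + 1)) * ((t ^ ((i : ℕ) + 1) : F ≃+* F) x) := fun i => by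
    rw [map_mul, show Units.val (A ((i : ℕ) + 1)) = t (Units.val (A i)) * (a : F) from rfl,
      show ((t ^ ((i : ℕ) + 1) : F ≃+* F) x) = t ((t ^ (i : ℕ) : F ≃+* F) x) by rw [pow_succ']; rfl]
    ring
  rw [Finset.sum_congr rfl fun i _ => e i,
    Fin.sum_univ_eq_sum_range (fun i => Units.val (A (i + 1)) * ((t ^ (i + 1) : F ≃+* F) x)) m,
    Fin.sum_univ_eq_sum_range (fun i => Units.val (A i) * ((t ^ i : F ≃+* F) x)) m]
  have h1 := Finset.sum_range_succ' (fun i => Units.val (A i) * ((t ^ i : F ≃+* F) x)) m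
  rw [Finset.sum_range_succ, hAm, hm, pow_orderOf_eq_one, pow_zero, show A 0 = 1 from rfl] at h1
  exact add_right_cancel h1.symm

/-- The centraliser of an element with three fixed points moves one fixed point to another. -/
theorem centralizer_move (h : stabilizer J w) {p : X} (hp : p ≠ w) (hh : (h : J) • p = p) {c : Fˣ}
    (hc1 : c ≠ 1) (hc : θ hC h (c : F) = c) : ∃ g : J, g * (h : J) = (h : J) * g ∧ g • w = p := by
  classical
  obtain ⟨g₀, hg1, hg2⟩ := exists_pair_map hC (Ne.symm hp) hp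
  haveI : IsCyclic (F ≃+* F) := RankOne.isCyclic_aut
  haveI : Finite (F ≃+* F) := Finite.of_injective (fun σ => (σ : F → F)) DFunLike.coe_injective
  -- the two-point stabiliser
  set T : Subgroup (stabilizer J w) := (stabilizer J p).subgroupOf (stabilizer J w) with hT
  have hTmem : ∀ {x : stabilizer J w}, x ∈ T ↔ (x : J) • p = p := fun {x} => Subgroup.mem_subgroupOf
  have hTinj : Function.Injective ((θ hC).comp T.subtype) := fun x y e =>
    Subtype.ext (two_point_inj hC hp e (hTmem.1 x.2) (hTmem.1 y.2))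
  haveI : IsCyclic T := isCyclic_of_injective _ hTinj
  have hstep : ∀ x : T, ∃ y : T, ((y : stabilizer J w) : J) = g₀⁻¹ * ((x : stabilizer J w) : J) * g₀ := fun x => by
    refine ⟨⟨⟨_, ?_⟩, hTmem.2 ?_⟩, rfl⟩
    · show (g₀⁻¹ * ((x : stabilizer J w) : J) * g₀) • w = w
      rw [mul_smul, mul_smul, hg1, hTmem.1 x.2, ← hg1, inv_smul_smul]
    · show (g₀⁻¹ * ((x : stabilizer J w) : J) * g₀) • p = p
      rw [mul_smul, mul_smul, hg2, (x : stabilizer J w).2, ← hg2, inv_smul_smul]
  choose β hβ using hstep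
  let hT' : T := ⟨h, hTmem.2 hh⟩
  obtain ⟨r, hr⟩ : ∃ r : ℤ, g₀⁻¹ * (h : J) * g₀ = (h : J) ^ r := by
    have hord : orderOf (β hT') = orderOf hT' := by
      rw [← Subgroup.orderOf_coe, ← Subgroup.orderOf_coe, hβ, show g₀⁻¹ * (h : J) * g₀ = MulAut.conj g₀⁻¹ (h : J) by
        simp, MulEquiv.orderOf_eq, ← Subgroup.orderOf_coe hT', ← Subgroup.orderOf_coe]
    obtain ⟨k, hk⟩ : ∃ k : ℤ, hT' ^ k = β hT' := by
      have hcard : Nat.card (Subgroup.zpowers (β hT')) = Nat.card (Subgroup.zpowers hT') := by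
        rw [Nat.card_zpowers, Nat.card_zpowers, hord]
      have := eq_of_card_cyclic hcard
      exact Subgroup.mem_zpowers_iff.1 (this ▸ Subgroup.mem_zpowers _)
    refine ⟨k, ?_⟩
    rw [← hβ hT', ← hk]
    simp [hT']
  -- a conjugate of a scalar centralising `h`
  have hcomm : g₀ * kf hC c * g₀⁻¹ * (h : J) = (h : J) * (g₀ * kf hC c * g₀⁻¹) := by
    have h1 : Commute (kf hC c) ((h : J) ^ r) := Commute.zpow_right (kf_mem_centralizer hC h hc) r
    rw [← hr] at h1
    calc g₀ * kf hC c * g₀⁻¹ * (h : J) = g₀ * (kf hC c * (g₀⁻¹ * (h : J) * g₀)) * g₀⁻¹ := by group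
      _ = g₀ * ((g₀⁻¹ * (h : J) * g₀) * kf hC c) * g₀⁻¹ := by rw [h1.eq]
      _ = _ := by group
  set g₁ := g₀ * kf hC c * g₀⁻¹ with hg₁
  have e1 : g₀⁻¹ • p = w := by rw [inv_smul_eq_iff, hg1]
  have e2 : g₀⁻¹ • w = p := by rw [inv_smul_eq_iff, hg2]
  have hfixp : g₁ • p = p := by rw [hg₁, mul_smul, mul_smul, e1, kf_w, hg1]
  have hw2 : g₁ • w ≠ w := fun e => by
    rw [hg₁, mul_smul, mul_smul, e2] at e
    exact hc1 (kf_free hC hp (MulAction.injective g₀ (e.trans hg2.symm)))
  obtain ⟨d, hd⟩ := exists_kf_smul hC hw2 hp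
  have hfix : (h : J) • (g₁ • w) = g₁ • w := by
    rw [← mul_smul, ← hcomm, mul_smul]
    exact congrArg _ h.2
  have hd' : θ hC h (d : F) = d := by
    have e : kf hC (Units.map (θ hC h).toRingHom.toMonoidHom d) • (g₁ • w) = kf hC d • (g₁ • w) := by
      conv_rhs => rw [hd, ← hh, ← hd, smul_kf_smul, hfix]
    exact congrArg Units.val (kf_inj hC hw2 e)
  refine ⟨kf hC d * g₁, ?_, by rw [mul_smul, hd]⟩
  rw [mul_assoc, hcomm, ← mul_assoc, kf_mem_centralizer hC h hd', mul_assoc]

omit hC in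
/-- An automorphism of order less than `n` fixes more than two elements. -/
theorem exists_fixed_unit {t : F ≃+* F} (hlt : orderOf t < Nat.card (F ≃+* F)) :
    ∃ c : Fˣ, c ≠ 1 ∧ t (c : F) = c := by
  classical
  by_contra hno
  push Not at hno
  have h2 : Nat.card {x : F // t x = x} = 2 := by
    rw [Nat.card_eq_fintype_card, Fintype.card_eq_nat_card, Nat.card_eq_two_iff]
    refine ⟨⟨0, map_zero t⟩, ⟨1, map_one t⟩, fun e => zero_ne_one (congrArg Subtype.val e), ?_⟩
    refine Set.eq_univ_of_forall fun x => ?_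
    rcases eq_or_ne (x : F) 0 with h | h
    · exact Or.inl (Subtype.ext h)
    · refine Or.inr (Subtype.ext ?_)
      by_contra h1
      exact hno (Units.mk0 (x : F) h) (fun e => h1 (by simpa using congrArg Units.val e)) x.2
  have h := RankOne.fixed_card t
  rw [h2, Nat.card_eq_fintype_card, RankOne.FieldMaps.card_aut] at h
  exact hlt.ne (Nat.pow_right_injective le_rfl h)

end

end Cfsg.Agent.TwoXDih.JL
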