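import Cfsg.Agent.Lib.TwoXDih.JPrime
import Mathlib.RingTheory.Int.Basic

/-!
# Sylow 2-subgroups of the transitive group: regularity, normaliser, centre
-/

set_option autoImplicit false
set_option linter.style.haveILetI false
set_option linter.unusedSectionVars false

namespace Cfsg.Agent.TwoXDih.JL

open MulAction

universe u v

variable {F : Type} [Field F] [Fintype F] [CharP F 2] {J : Type u} [Group J] [Finite J] {X : Type v}
  [MulAction J X] {ρ : J →* AddMonoid.End F} {w : X} {hC : Cfg ρ w} (P : PCfg ρ w hC) {S : Subgroup J}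
  (hS : Nat.card S = Nat.card F)
include P hS

theorem isPGroup_S : IsPGroup 2 S :=
  IsPGroup.of_card (hS.trans (card_F P))

theorem regular_S (y : X) : ∃! j : J, j ∈ S ∧ j • w = y := by
  haveI := finite_X hC
  have hinj : Function.Injective fun j : S => (j : J) • w := fun a b e => by
    obtain ⟨k, hk⟩ := isPGroup_S P hS (a⁻¹ * b)
    have h1 : (((a⁻¹ * b : S) : J)) • w = w := by
      rw [Subgroup.coe_mul, InvMemClass.coe_inv, mul_smul, inv_smul_eq_iff]
      exact e.symm
    have h2 := eq_one_of_two_pow hC (k := k) (by rw [← SubgroupClass.coe_pow, hk]; rfl) h1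
    exact inv_mul_eq_one.1 (Subtype.ext h2)
  have hb : Function.Bijective fun j : S => (j : J) • w :=
    hinj.bijective_of_nat_card_le (le_of_eq (by rw [hS, hC.card]))
  obtain ⟨⟨j, hj⟩, hjy⟩ := hb.2 y
  exact ⟨j, ⟨hj, hjy⟩, fun j' ⟨h1, h2⟩ =>
    congrArg Subtype.val (@hinj ⟨j', h1⟩ ⟨j, hj⟩ (h2.trans hjy.symm))⟩

theorem exists_involution_pow {j : J} (hj : j ∈ S) (hj1 : j ≠ 1) :
    ∃ m : ℕ, j ^ m * j ^ m = 1 ∧ j ^ m ≠ 1 := by
  obtain ⟨k, hk⟩ := isPGroup_S P hS ⟨j, hj⟩
  have hk' : j ^ 2 ^ k = 1 := congrArg Subtype.val hk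
  induction k with
  | zero => exact absurd (by simpa using hk') hj1
  | succ k ih =>
    by_cases h : j ^ 2 ^ k = 1
    · exact ih (Subtype.ext h) h
    · exact ⟨2 ^ k, by rw [← pow_add, ← two_mul, ← pow_succ', hk'], h⟩

/-- An element fixing `w` and normalising `S` induces no field automorphism. -/
theorem θ_eq_one_of_normalizer {s : stabilizer J w} (hn : ∀ j ∈ S, (s : J) * j * (s : J)⁻¹ ∈ S) :
    θ hC s = 1 := by
  by_contra hθ
  haveI : Fact (degF F).Prime := ⟨P.prime⟩
  set q1 := Nat.card F - 1 with hq1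
  set g : stabilizer J w := s ^ q1 with hg
  have hgθ : θ hC g ≠ 1 := fun e => by
    rw [hg, map_pow, ← orderOf_dvd_iff_pow_eq_one, orderOf_θ P hθ] at e
    exact deg_not_dvd_sub P e
  have hgn : g ^ degF F = 1 := by
    have h1 : s ^ degF F ∈ (θ hC).ker := by
      rw [MonoidHom.mem_ker, map_pow, ← orderOf_θ P hθ, pow_orderOf_eq_one]
    have h2 := orderOf_dvd_iff_pow_eq_one.1 (Subgroup.orderOf_dvd_natCard _ h1)
    rw [card_ker hC] at h2
    rw [hg, ← pow_mul, mul_comm, pow_mul]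
    exact h2
  obtain ⟨p, hp, hgp⟩ := exists_fixed hC g (by rw [orderOf_θ P hgθ, hgn]) (exists_ne_w hC)
  obtain ⟨j, ⟨hj, hjp⟩, -⟩ := regular_S P hS p
  have hnorm : ∀ m : ℕ, ∀ x ∈ S, (s : J) ^ m * x * ((s : J) ^ m)⁻¹ ∈ S := fun m => by
    induction m with
    | zero => intro x hx; simpa using hx
    | succ m ih =>
      intro x hx
      rw [pow_succ', show (s : J) * (s : J) ^ m * x * ((s : J) * (s : J) ^ m)⁻¹ =
        (s : J) * ((s : J) ^ m * x * ((s : J) ^ m)⁻¹) * (s : J)⁻¹ by group]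
      exact hn _ (ih x hx)
  have hgj : (g : J) * j * (g : J)⁻¹ ∈ S := by
    rw [hg, SubgroupClass.coe_pow]; exact hnorm q1 j hj
  have hgj2 : ((g : J) * j * (g : J)⁻¹) • w = p := by
    rw [mul_smul, mul_smul, show (g : J)⁻¹ • w = w from (inv_smul_eq_iff.2 g.2.symm), hjp, hgp]
  have e : (g : J) * j * (g : J)⁻¹ = j := (regular_S P hS p).unique ⟨hgj, hgj2⟩ ⟨hj, hjp⟩
  have hcomm : Commute (g : J) j := mul_inv_eq_iff_eq_mul.1 e
  have hj1 : j ≠ 1 := fun h => hp (by rw [← hjp, h, one_smul])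
  obtain ⟨m, hm, hm1⟩ := exists_involution_pow P hS hj hj1
  refine hm1 (no_comm P (g := (g : J)) ?_ ?_ hm (hcomm.pow_right m).symm.eq)
  · rw [← SubgroupClass.coe_pow, hgn]; rfl
  · exact fun h => hgθ (by rw [show g = 1 from Subtype.ext h, map_one])

/-- A central involution of `S` has centraliser `S`. -/
theorem mem_of_comm {z g : J} (hz1 : z ≠ 1) (hz : z * z = 1) (hcen : ∀ j ∈ S, z * j = j * z)
    (hg : z * g = g * z) : g ∈ S := by
  obtain ⟨j, ⟨hj, hjw⟩, -⟩ := regular_S P hS (g • w)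
  have h1 : (j⁻¹ * g) • w = w := by rw [mul_smul, inv_smul_eq_iff, hjw]
  have h2 := semiregular P hz hz1 (g := j⁻¹ * g) (by
    rw [← mul_assoc, show z * j⁻¹ = j⁻¹ * z from (Commute.inv_right (hcen j hj)).eq, mul_assoc, hg, mul_assoc]) h1
  rw [inv_mul_eq_one] at h2
  exact h2 ▸ hj

/-- The centre of `S` contains only one involution. -/
theorem center_unique {z z' : J} (hz : z * z = 1) (hz1 : z ≠ 1) (hzS : z ∈ S) (hcen : ∀ j ∈ S, z * j = j * z)
    (hz' : z' * z' = 1) (hz'1 : z' ≠ 1) (hz'S : z' ∈ S) (hcen' : ∀ j ∈ S, z' * j = j * z') : z' = z := by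
  classical
  haveI : Fact (Nat.Prime 2) := ⟨Nat.prime_two⟩
  -- the elementary central subgroup
  let Z : Subgroup J :=
    { carrier := {x | x ∈ S ∧ x * x = 1 ∧ ∀ j ∈ S, x * j = j * x}
      one_mem' := ⟨one_mem S, one_mul 1, fun j _ => by rw [one_mul, mul_one]⟩
      mul_mem' := fun {a b} ha hb => ⟨mul_mem ha.1 hb.1, by
        rw [show a * b * (a * b) = a * (b * a) * b by group, hb.2.2 a ha.1]
        rw [show a * (a * b) * b = (a * a) * (b * b) by group, ha.2.1, hb.2.1, one_mul], fun j hj => by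
        rw [mul_assoc, hb.2.2 j hj, ← mul_assoc, ha.2.2 j hj, mul_assoc]⟩
      inv_mem' := fun {a} ha => by
        rw [inv_eq_of_mul_eq_one_left ha.2.1]
        exact ha }
  let N : Subgroup J := Subgroup.normalizer (S : Set J)
  let K : Subgroup (stabilizer J w) := N.subgroupOf (stabilizer J w)
  have hmemK : ∀ {a : stabilizer J w}, a ∈ K → ∀ x, x ∈ S ↔ (a : J) * x * (a : J)⁻¹ ∈ S := fun {a} ha =>
    Subgroup.mem_normalizer_iff.1 (Subgroup.mem_subgroupOf.1 ha)
  have hKmap : ∀ {a : stabilizer J w}, a ∈ K → ∀ x ∈ Z, (a : J) * x * (a : J)⁻¹ ∈ Z := fun {a} ha x hx => by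
    refine ⟨(hmemK ha x).1 hx.1, ?_, fun j hj => ?_⟩
    · rw [show (a : J) * x * (a : J)⁻¹ * ((a : J) * x * (a : J)⁻¹) = (a : J) * (x * x) * (a : J)⁻¹ by group,
        hx.2.1]
      group
    · have hj' : (a : J)⁻¹ * j * (a : J) ∈ S := (hmemK ha _).2 (by
        rw [show (a : J) * ((a : J)⁻¹ * j * (a : J)) * (a : J)⁻¹ = j by group]; exact hj)
      calc (a : J) * x * (a : J)⁻¹ * j = (a : J) * (x * ((a : J)⁻¹ * j * (a : J))) * (a : J)⁻¹ := by group
        _ = (a : J) * (((a : J)⁻¹ * j * (a : J)) * x) * (a : J)⁻¹ := by rw [hx.2.2 _ hj']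
        _ = _ := by group
  let f : K → {x : Z // x ≠ 1} := fun a => ⟨⟨_, hKmap a.2 z ⟨hzS, hz, hcen⟩⟩, fun e =>
    hz1 (conj_eq_one_iff.1 (congrArg Subtype.val e))⟩
  have hbij : Function.Bijective f := by
    constructor
    · intro a b e
      have e1 : ((a : stabilizer J w) : J) * z * ((a : stabilizer J w) : J)⁻¹ =
          ((b : stabilizer J w) : J) * z * ((b : stabilizer J w) : J)⁻¹ :=
        congrArg (fun y : {x : Z // x ≠ 1} => ((y : Z) : J)) e
      set c := ((b : stabilizer J w) : J)⁻¹ * ((a : stabilizer J w) : J) with hc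
      have h1 : c * z * c⁻¹ = z := by
        calc c * z * c⁻¹ = ((b : stabilizer J w) : J)⁻¹ * (((a : stabilizer J w) : J) * z *
              ((a : stabilizer J w) : J)⁻¹) * ((b : stabilizer J w) : J) := by rw [hc]; group
          _ = z := by rw [e1]; group
      have h2 : c ∈ S := mem_of_comm P hS hz1 hz hcen (mul_inv_eq_iff_eq_mul.1 h1).symm
      have h3 : c • w = w := (((b : stabilizer J w))⁻¹ * (a : stabilizer J w) : stabilizer J w).2
      have h4 : c = 1 := (regular_S P hS w).unique ⟨h2, h3⟩ ⟨one_mem S, one_smul _ _⟩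
      exact Subtype.ext (Subtype.ext (inv_mul_eq_one.1 h4).symm)
    · rintro ⟨⟨x, hxS, hx2, hxc⟩, hx1⟩
      have hxne : x ≠ 1 := fun e => hx1 (Subtype.ext e)
      obtain ⟨a, ha⟩ := involution_conj P hz hz1 hx2 hxne
      have haN : ∀ j ∈ S, a * j * a⁻¹ ∈ S := fun j hj => by
        refine mem_of_comm P hS hxne hx2 hxc ?_
        rw [← ha]
        calc a * z * a⁻¹ * (a * j * a⁻¹) = a * (z * j) * a⁻¹ := by group
          _ = a * (j * z) * a⁻¹ := by rw [hcen j hj]
          _ = _ := by group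
      obtain ⟨j, ⟨hj, hjw⟩, -⟩ := regular_S P hS (a • w)
      have hb : (j⁻¹ * a) • w = w := by rw [mul_smul, inv_smul_eq_iff, hjw]
      have hbN : (⟨_, hb⟩ : stabilizer J w) ∈ K := by
        refine Subgroup.mem_subgroupOf.2 (mul_mem (inv_mem (Subgroup.le_normalizer hj)) ?_)
        exact Subgroup.mem_normalizer_iff.2 fun y => ⟨haN y, fun hy => by
          have hfin : S.map (MulAut.conj a).toMonoidHom = S :=
            Subgroup.eq_of_le_of_card_ge (by rintro _ ⟨y, hy, rfl⟩; exact haN y hy)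
              (le_of_eq (Nat.card_congr (S.equivMapOfInjective _ (MulEquiv.injective _)).toEquiv))
          rw [← hfin] at hy
          obtain ⟨y', hy', e⟩ := hy
          have : y' = y := mul_left_cancel (mul_right_cancel e)
          exact this ▸ hy'⟩
      refine ⟨⟨_, hbN⟩, Subtype.ext (Subtype.ext ?_)⟩
      show j⁻¹ * a * z * (j⁻¹ * a)⁻¹ = x
      rw [show j⁻¹ * a * z * (j⁻¹ * a)⁻¹ = j⁻¹ * (a * z * a⁻¹) * j by group, ha, mul_assoc, hxc j hj,
        ← mul_assoc, inv_mul_cancel, one_mul]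
  have hK : Nat.card K = Nat.card Z - 1 := by
    rw [Nat.card_eq_of_bijective f hbij]
    haveI : Fintype Z := Fintype.ofFinite _
    rw [Nat.card_eq_fintype_card, Fintype.card_subtype_compl, Fintype.card_subtype_eq, Nat.card_eq_fintype_card]
  have hKker : K ≤ (θ hC).ker := fun a ha =>
    θ_eq_one_of_normalizer P hS fun j hj => (hmemK ha j).1 hj
  have hdvd : Nat.card Z - 1 ∣ Nat.card F - 1 := by
    rw [← hK, ← card_ker hC]
    exact Subgroup.card_dvd_of_le hKker
  have hZ2 : IsPGroup 2 Z := (isPGroup_S P hS).to_le fun x hx => hx.1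
  obtain ⟨e, he⟩ := IsPGroup.iff_card.1 hZ2
  have hdvd' : e ∣ degF F := by
    rw [he, card_F P] at hdvd
    have h1 := Nat.gcd_eq_left hdvd
    rw [Nat.pow_sub_one_gcd_pow_sub_one] at h1
    have h2 : Nat.gcd e (degF F) = e := by
      refine Nat.pow_right_injective le_rfl ?_
      have := Nat.one_le_two_pow (n := Nat.gcd e (degF F))
      have := Nat.one_le_two_pow (n := e)
      simp only
      omega
    exact h2 ▸ Nat.gcd_dvd_right _ _
  rcases P.prime.eq_one_or_self_of_dvd e hdvd' with rfl | rfl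
  · rw [pow_one, Nat.card_eq_two_iff' (1 : Z)] at he
    obtain ⟨y, -, hy⟩ := he
    have e1 := hy ⟨z, hzS, hz, hcen⟩ fun e => hz1 (congrArg Subtype.val e)
    have e2 := hy ⟨z', hz'S, hz', hcen'⟩ fun e => hz'1 (congrArg Subtype.val e)
    exact congrArg Subtype.val (e2.trans e1.symm)
  · exfalso
    have hKtop : (θ hC).ker = K := (Subgroup.eq_of_le_of_card_ge hKker (by
      rw [card_ker hC, hK, he, card_F P])).symm
    have := eq_bot_of_kf_normal hC (isPGroup_S P hS) fun c r hr =>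
      (hmemK (a := ⟨kf hC c, kf_mem hC c⟩) (hKtop ▸ θ_kf hC c) r).1 hr
    rw [this, Subgroup.card_bot] at hS
    have := P.h8
    omega

end Cfsg.Agent.TwoXDih.JL
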