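import Cfsg.Agent.Lib.TwoXDih.JTransfer
import Mathlib.GroupTheory.Sylow

/-!
# The field has prime degree: involutions, their centralisers and the centre of a Sylow 2-subgroup
-/

set_option autoImplicit false
set_option linter.style.haveILetI false
set_option linter.unusedSectionVars false

namespace Cfsg.Agent.TwoXDih.JL

open MulAction

universe u v

/-- The degree of the field over `GF(2)`. -/
noncomputable abbrev degF (F : Type) [Field F] : ℕ := Nat.card (F ≃+* F)

variable {F : Type} [Field F] [Fintype F] [CharP F 2] {J : Type u} [Group J] [Finite J] {X : Type v}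
  [MulAction J X] {ρ : J →* AddMonoid.End F} {w : X}

/-- The hypotheses in prime degree. -/
structure PCfg (ρ : J →* AddMonoid.End F) (w : X) (hC : Cfg ρ w) : Prop where
  h8 : 8 ≤ Nat.card F
  prime : (degF F).Prime
  full : Nat.card (θ hC).range = degF F

section
variable {hC : Cfg ρ w} (P : PCfg ρ w hC)
include P

theorem card_F : Nat.card F = 2 ^ degF F := by
  rw [Nat.card_eq_fintype_card, RankOne.FieldMaps.card_aut]

theorem deg_ge : 3 ≤ degF F := by
  have := P.h8
  rw [card_F P, show (8 : ℕ) = 2 ^ 3 from rfl, Nat.pow_le_pow_iff_right one_lt_two] at this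
  exact this

theorem deg_odd : Odd (degF F) := P.prime.odd_of_ne_two (by have := deg_ge P; omega)

theorem deg_not_dvd_two_pow (k : ℕ) : ¬ degF F ∣ 2 ^ k := fun h => by
  have h1 := (Nat.prime_dvd_prime_iff_eq P.prime Nat.prime_two).1 (P.prime.dvd_of_dvd_pow h)
  have h2 := deg_ge P
  omega

theorem deg_not_dvd_card : ¬ degF F ∣ Nat.card F := by rw [card_F P]; exact deg_not_dvd_two_pow P _

theorem deg_not_dvd_sub : ¬ degF F ∣ Nat.card F - 1 := fun h => by
  haveI : Fact (degF F).Prime := ⟨P.prime⟩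
  have h1 : ((2 : ZMod (degF F)) ^ degF F) = 1 := by
    have h3 : ((Nat.card F - 1 : ℕ) : ZMod (degF F)) = 0 := (ZMod.natCast_eq_zero_iff _ _).2 h
    rw [Nat.cast_sub Nat.card_pos, sub_eq_zero, card_F P, Nat.cast_pow] at h3
    exact_mod_cast h3
  rw [ZMod.pow_card] at h1
  have h4 : ((1 : ℕ) : ZMod (degF F)) = 0 := by
    have : (2 : ZMod (degF F)) - 1 = 0 := sub_eq_zero.2 h1
    rw [Nat.cast_one, ← this]; ring
  rw [ZMod.natCast_eq_zero_iff] at h4
  exact P.prime.not_dvd_one h4

theorem orderOf_θ {s : stabilizer J w} (hs : θ hC s ≠ 1) : orderOf (θ hC s) = degF F := by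
  haveI : Finite (F ≃+* F) := Finite.of_injective (fun σ => (σ : F → F)) DFunLike.coe_injective
  exact (P.prime.eq_one_or_self_of_dvd _ (orderOf_dvd_natCard _)).resolve_left
    fun e => hs (orderOf_eq_one_iff.1 e)

/-- A nontrivial automorphism fixes only `0` and `1`. -/
theorem fixed_two {s : stabilizer J w} (hs : θ hC s ≠ 1) {c : F} (hc : θ hC s c = c) : c = 0 ∨ c = 1 := by
  classical
  have h := RankOne.fixed_card (θ hC s)
  rw [orderOf_θ P hs, card_F P] at h
  have h2 : Nat.card {x : F // θ hC s x = x} = 2 := Nat.pow_left_injective P.prime.ne_zero h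
  rw [Nat.card_eq_two_iff' (⟨0, map_zero _⟩ : {x : F // θ hC s x = x})] at h2
  obtain ⟨y, -, huniq⟩ := h2
  by_contra hno
  push Not at hno
  have e1 := huniq ⟨1, map_one _⟩ fun e => one_ne_zero (congrArg Subtype.val e)
  have e2 := huniq ⟨c, hc⟩ fun e => hno.1 (congrArg Subtype.val e)
  exact hno.2 (congrArg Subtype.val (e2.trans e1.symm))

/-- An element with nontrivial automorphism fixes at most one further point. -/
theorem fixed_unique {s : stabilizer J w} (hs : θ hC s ≠ 1) {p p' : X} (hp : p ≠ w) (hp' : p' ≠ w)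
    (h : (s : J) • p = p) (h' : (s : J) • p' = p') : p' = p := by
  obtain ⟨c, rfl⟩ := exists_kf_smul hC hp hp'
  rw [smul_kf_smul, h] at h'
  have h1 : θ hC s (c : F) = c := congrArg Units.val (kf_inj hC hp h')
  have h2 : (c : F) = 1 := (fixed_two P hs h1).resolve_left c.ne_zero
  obtain rfl : c = 1 := Units.ext h2
  rw [map_one, one_smul]

/-- A pair of points has only a group of prime order fixing both. -/
theorem pow_of_two_fixed {h t : stabilizer J w} (hh : θ hC h ≠ 1) {p : X} (hp : p ≠ w)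
    (h1 : (h : J) • p = p) (h2 : (t : J) • p = p) : ∃ k : ℕ, t = h ^ k := by
  haveI : Finite (F ≃+* F) := Finite.of_injective (fun σ => (σ : F → F)) DFunLike.coe_injective
  haveI : Fact (degF F).Prime := ⟨P.prime⟩
  obtain ⟨k, hk⟩ := (mem_powers_of_prime_card (p := degF F) rfl hh : θ hC t ∈ Submonoid.powers (θ hC h))
  refine ⟨k, two_point_inj hC hp (by rw [map_pow]; exact hk.symm) h2 ?_⟩
  rw [SubgroupClass.coe_pow]
  exact pow_smul_eq_iff_minimalPeriod_dvd.2 (by
    rw [Function.minimalPeriod_eq_one_iff_isFixedPt.2 h1]; exact one_dvd _)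

/-- An involution commutes with no map `x ↦ σ x`. -/
theorem no_comm_aux {s : stabilizer J w} (hs : θ hC s ≠ 1) (h1 : ρ (s : J) 1 = 1) {i : J} (hi : i * i = 1)
    (hc : i * (s : J) = (s : J) * i) : i = 1 := by
  classical
  haveI : Finite (F ≃+* F) := Finite.of_injective (fun σ => (σ : F → F)) DFunLike.coe_injective
  haveI : IsCyclic (F ≃+* F) := RankOne.isCyclic_aut
  letI : CommGroup (F ≃+* F) := IsCyclic.commGroup
  haveI : Fintype (F ≃+* F) := Fintype.ofFinite _
  have hσ : ∀ x, ρ (s : J) x = θ hC s x := fun x => by rw [θ_spec hC s x, h1, one_mul]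
  obtain ⟨c, hc'⟩ := RankOne.FieldMaps.exists_combo (ρ i : F →+ F)
  replace hc' : ∀ x, ρ i x = ∑ τ, c τ * τ x := hc'
  -- the coefficients are fixed by `σ`
  have hcomb : RankOne.FieldMaps.combo c = RankOne.FieldMaps.combo fun τ => θ hC s (c τ) := by
    refine AddMonoidHom.ext fun x => ?_
    obtain ⟨y, rfl⟩ := (θ hC s).surjective x
    rw [RankOne.FieldMaps.combo_apply, RankOne.FieldMaps.combo_apply, ← hc', ← hσ y, ← ρ_mul, hc, ρ_mul,
      hσ, hc', map_sum]
    refine Finset.sum_congr rfl fun τ _ => ?_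
    rw [map_mul, show θ hC s (τ y) = (θ hC s * τ) y from rfl, mul_comm (θ hC s) τ]
    rw [hσ]; rfl
  have hfix : ∀ τ, c τ = 0 ∨ c τ = 1 := fun τ =>
    fixed_two P hs (congrFun (RankOne.FieldMaps.combo_injective hcomb) τ).symm
  have hfix' : ∀ (υ τ : F ≃+* F), υ (c τ) = c τ := fun υ τ => by
    rcases hfix τ with e | e <;> rw [e] <;> simp
  have hsq : RankOne.FieldMaps.combo (fun τ : F ≃+* F => if τ = 1 then (1 : F) else 0) =
      RankOne.FieldMaps.combo fun υ : F ≃+* F => ∑ τ, if τ * τ = υ then c τ else 0 := by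
    refine AddMonoidHom.ext fun x => ?_
    rw [RankOne.FieldMaps.combo_apply, RankOne.FieldMaps.combo_apply]
    have e : ρ i (ρ i x) = x := by rw [← ρ_mul, hi, ρ_one]
    rw [hc', hc'] at e
    simp only [Finset.sum_mul, ite_mul, one_mul, zero_mul, Finset.sum_ite_eq', Finset.mem_univ, if_true]
    rw [Finset.sum_comm]
    simp only [Finset.sum_ite_eq, Finset.mem_univ, if_true]
    show x = _
    conv_lhs => rw [← e]
    simp only [map_sum, map_mul, hfix', Finset.mul_sum, ← mul_assoc]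
    rw [← Fintype.sum_prod_type']
    rw [← Finset.sum_filter_add_sum_filter_not Finset.univ (fun z : (F ≃+* F) × (F ≃+* F) => z.1 = z.2)]
    have hoff : ∑ z ∈ Finset.univ.filter (fun z : (F ≃+* F) × (F ≃+* F) => ¬ z.1 = z.2),
        c z.1 * c z.2 * z.1 (z.2 x) = 0 := by
      refine Finset.sum_involution (fun z _ => (z.2, z.1)) (fun z _ => ?_) (fun z hz _ e => ?_)
        (fun z hz => ?_) (fun z _ => rfl)
      · show _ + c z.2 * c z.1 * (z.2 * z.1) x = 0
        rw [mul_comm z.2 z.1, mul_comm (c z.2), RingAut.mul_apply, CharTwo.add_self_eq_zero]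
      · exact (Finset.mem_filter.1 hz).2 (congrArg Prod.fst e).symm
      · exact Finset.mem_filter.2 ⟨Finset.mem_univ _, fun e => (Finset.mem_filter.1 hz).2 e.symm⟩
    have hdiag : (Finset.univ.filter fun z : (F ≃+* F) × (F ≃+* F) => z.1 = z.2) =
        Finset.univ.image fun τ : F ≃+* F => (τ, τ) := by
      ext ⟨a, b⟩
      simp [eq_comm]
    rw [hoff, add_zero, hdiag, Finset.sum_image fun a _ b _ e => congrArg Prod.fst e]
    refine Finset.sum_congr rfl fun τ _ => ?_
    rcases hfix τ with e | e <;> rw [e] <;> simp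
  have hτ : ∀ τ : F ≃+* F, τ ≠ 1 → c τ = 0 := fun τ hτ => by
    have h2 := congrFun (RankOne.FieldMaps.combo_injective hsq) (τ * τ)
    have hne : τ * τ ≠ 1 := fun e => hτ (orderOf_eq_one_iff.1 (Nat.eq_one_of_dvd_coprimes
      (Nat.coprime_two_right.2 (deg_odd P)) (orderOf_dvd_natCard τ) (orderOf_dvd_of_pow_eq_one (by rwa [pow_two]))))
    simp only [hne, if_false] at h2
    rw [Finset.sum_eq_single τ (fun b _ hb => if_neg fun e => hb ?_) (by simp), if_pos rfl] at h2
    · exact h2.symm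
    · have h3 : (b / τ) ^ 2 = 1 := by rw [div_pow, pow_two, pow_two, e, div_self']
      exact div_eq_one.1 (orderOf_eq_one_iff.1 (Nat.eq_one_of_dvd_coprimes
        (Nat.coprime_two_right.2 (deg_odd P)) (orderOf_dvd_natCard _) (orderOf_dvd_of_pow_eq_one h3)))
  have hlin : ∀ x, ρ i x = c 1 * x := fun x => by
    rw [hc', Finset.sum_eq_single 1 (fun b _ hb => by rw [hτ b hb, zero_mul]) (by simp)]
    rfl
  refine eq_of_ρ hC fun x => ?_
  rw [hlin, ρ_one]
  rcases hfix 1 with e | e
  · exact absurd (by rw [hlin, e, zero_mul]) (ρ_one_ne_zero (ρ := ρ) i)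
  · rw [e, one_mul]

theorem exists_fixed_point {g : J} (hg : g ^ degF F = 1) : ∃ x : X, g • x = x := by
  haveI := finite_X hC
  haveI : Fact (degF F).Prime := ⟨P.prime⟩
  have hp : IsPGroup (degF F) (Subgroup.zpowers g) := by
    intro x
    obtain ⟨k, hk⟩ := Subgroup.mem_zpowers_iff.1 x.2
    refine ⟨1, Subtype.ext ?_⟩
    rw [pow_one, SubgroupClass.coe_pow, ← hk, ← zpow_natCast, ← zpow_mul, mul_comm, zpow_mul, zpow_natCast, hg,
      one_zpow]
    rfl
  obtain ⟨x, hx⟩ := hp.nonempty_fixed_point_of_prime_not_dvd_card X (by rw [hC.card]; exact deg_not_dvd_card P)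
  exact ⟨x, hx ⟨g, Subgroup.mem_zpowers g⟩⟩

/-- No element of order `n` commutes with an involution. -/
theorem no_comm {g : J} (hg : g ^ degF F = 1) (hg1 : g ≠ 1) {i : J} (hi : i * i = 1) (hc : i * g = g * i) :
    i = 1 := by
  classical
  obtain ⟨x, hx⟩ := exists_fixed_point P hg
  obtain ⟨a, ha⟩ := exists_conj_stab hC hx
  set s : stabilizer J w := ⟨a * g * a⁻¹, ha⟩ with hs
  have hsn : s ^ degF F = 1 := Subtype.ext (by
    rw [SubgroupClass.coe_pow, show (s : J) = a * g * a⁻¹ from rfl, conj_pow, hg]; simp)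
  have hsθ : θ hC s ≠ 1 := fun e => by
    have h1 := Subgroup.orderOf_dvd_natCard (θ hC).ker (MonoidHom.mem_ker.2 e)
    rw [card_ker hC] at h1
    rcases P.prime.eq_one_or_self_of_dvd _ (orderOf_dvd_of_pow_eq_one hsn) with e2 | e2
    · rw [orderOf_eq_one_iff, hs, Subtype.ext_iff] at e2
      exact hg1 (conj_eq_one_iff.1 e2)
    · exact deg_not_dvd_sub P (e2 ▸ h1)
  -- a nonzero fixed vector
  haveI : Fact (degF F).Prime := ⟨P.prime⟩
  letI : MulAction (Subgroup.zpowers s) F :=
    { smul := fun r y => ρ ((r : stabilizer J w) : J) y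
      one_smul := fun y => ρ_one ρ y
      mul_smul := fun r t y => ρ_mul ρ _ _ y }
  obtain ⟨v, hv0, hv⟩ : ∃ v : F, v ≠ 0 ∧ ρ (s : J) v = v := by
    have hp : IsPGroup (degF F) (Subgroup.zpowers s) :=
      IsPGroup.of_card (n := 1) (by rw [Nat.card_zpowers, orderOf_eq_prime hsn
        (fun e => hsθ (by rw [e, map_one])), pow_one])
    have hm := hp.card_modEq_card_fixedPoints F
    by_contra hno
    push Not at hno
    have h1 : fixedPoints (Subgroup.zpowers s) F = {0} := by
      refine Set.Subset.antisymm (fun v hv => ?_) (Set.singleton_subset_iff.2 fun r => map_zero (ρ _))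
      by_contra hv0
      exact hno v hv0 (hv ⟨s, Subgroup.mem_zpowers s⟩)
    rw [h1] at hm
    simp only [Nat.card_eq_fintype_card, Fintype.card_ofSubsingleton] at hm
    exact deg_not_dvd_sub P (by
      rw [Nat.card_eq_fintype_card]
      exact (Nat.modEq_iff_dvd' Fintype.card_pos).1 hm.symm)
  set k : Fˣ := Units.mk0 v hv0 with hk
  set b := (kf hC k)⁻¹ * a with hb
  have hbs : b * g * b⁻¹ ∈ stabilizer J w := by
    have : b * g * b⁻¹ = (kf hC k)⁻¹ * (s : J) * kf hC k := by
      rw [hb, show (s : J) = a * g * a⁻¹ from rfl]; group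
    rw [this]
    exact mul_mem (mul_mem (inv_mem (kf_mem hC k)) s.2) (kf_mem hC k)
  set t : stabilizer J w := ⟨b * g * b⁻¹, hbs⟩ with ht
  have ht' : (t : J) = (kf hC k)⁻¹ * (s : J) * kf hC k := by
    rw [show (t : J) = b * g * b⁻¹ from rfl, hb, show (s : J) = a * g * a⁻¹ from rfl]; group
  have htθ : θ hC t ≠ 1 := by
    have : t = (⟨kf hC k, kf_mem hC k⟩ : stabilizer J w)⁻¹ * s * ⟨kf hC k, kf_mem hC k⟩ := Subtype.ext ht'
    rw [this, map_mul, map_mul, map_inv, θ_kf, inv_one, one_mul, mul_one]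
    exact hsθ
  have ht1 : ρ (t : J) 1 = 1 := by
    have hkv : ρ (kf hC k) 1 = v := by rw [kf_spec, mul_one]; rfl
    rw [ht', mul_assoc, ρ_mul, ρ_mul, hkv, hv]
    conv_lhs => rw [← hkv]
    exact ρ_inv ρ _ _
  have h3 : b * i * b⁻¹ = 1 := no_comm_aux P htθ ht1
    (by rw [show b * i * b⁻¹ * (b * i * b⁻¹) = b * (i * i) * b⁻¹ by group, hi]; group)
    (by
      show b * i * b⁻¹ * (b * g * b⁻¹) = b * g * b⁻¹ * (b * i * b⁻¹)
      calc b * i * b⁻¹ * (b * g * b⁻¹) = b * (i * g) * b⁻¹ := by group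
        _ = b * (g * i) * b⁻¹ := by rw [hc]
        _ = _ := by group)
  exact conj_eq_one_iff.1 h3

/-- An element centralising an involution fixes no point. -/
theorem semiregular {i g : J} (hi : i * i = 1) (hi1 : i ≠ 1) (hc : i * g = g * i) {x : X} (hx : g • x = x) :
    g = 1 := by
  classical
  obtain ⟨p, hp⟩ := exists_ne_w hC
  have hix : i • x ≠ x := fun e => hi1 (eq_one_of_two_pow hC (k := 1) (by rw [pow_one, pow_two, hi]) e)
  obtain ⟨a, ha1, ha2⟩ := exists_pair_map hC (Ne.symm hix) (Ne.symm hp)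
  have hw : (a * g * a⁻¹) • w = w := by rw [mul_smul, mul_smul, ← ha1, inv_smul_smul, hx]
  have hp2 : (a * g * a⁻¹) • p = p := by
    rw [mul_smul, mul_smul, ← ha2, inv_smul_smul, ← mul_smul g i, ← hc, mul_smul, hx]
  set t : stabilizer J w := ⟨a * g * a⁻¹, hw⟩ with ht
  by_cases hθ : θ hC t = 1
  · have h1 := two_point_inj hC hp (h := t) (h' := 1) (by rw [hθ, map_one]) hp2 (one_smul _ _)
    rw [ht, Subtype.ext_iff] at h1
    exact conj_eq_one_iff.1 h1
  · have hn : t ^ degF F = 1 := by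
      refine two_point_inj hC hp ?_ ?_ (one_smul _ _)
      · rw [map_pow, map_one, ← orderOf_θ P hθ, pow_orderOf_eq_one]
      · rw [SubgroupClass.coe_pow]
        exact pow_smul_eq_iff_minimalPeriod_dvd.2 (by
          rw [Function.minimalPeriod_eq_one_iff_isFixedPt.2 hp2]; exact one_dvd _)
    rw [ht, Subtype.ext_iff, SubgroupClass.coe_pow] at hn
    have hn' : (a * g * a⁻¹) ^ degF F = 1 := hn
    rw [conj_pow, conj_eq_one_iff] at hn'
    by_contra hg1
    exact hi1 (no_comm P hn' hg1 hi hc)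

/-- There is one class of involutions. -/
theorem involution_conj {i j : J} (hi : i * i = 1) (hi1 : i ≠ 1) (hj : j * j = 1) (hj1 : j ≠ 1) :
    ∃ a : J, a * i * a⁻¹ = j := by
  classical
  haveI : Fact (degF F).Prime := ⟨P.prime⟩
  obtain ⟨h, hh1, hho, hhn⟩ := exists_order_prime hC (p := degF F) (dvd_of_eq P.full.symm)
  have hhθ : θ hC h ≠ 1 := fun e => by rw [e, orderOf_one] at hho; exact P.prime.ne_one hho.symm
  obtain ⟨p, hp, hhp⟩ := exists_fixed hC h (hho.symm ▸ hhn) (exists_ne_w hC)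
  have swap : ∀ k : J, k * k = 1 → k ≠ 1 →
      ∃ a : J, (a * k * a⁻¹) • w = p ∧ (a * k * a⁻¹) • p = w := fun k hk hk1 => by
    have hne : w ≠ k • w := fun e => hk1 (eq_one_of_two_pow hC (k := 1) (by rw [pow_one, pow_two, hk]) e.symm)
    obtain ⟨a, ha1, ha2⟩ := exists_pair_map hC hne (Ne.symm hp)
    refine ⟨a, ?_, ?_⟩
    · rw [mul_smul, mul_smul, inv_smul_eq_iff.2 ha1.symm, ha2]
    · rw [mul_smul, mul_smul, inv_smul_eq_iff.2 ha2.symm, ← mul_smul k, hk, one_smul, ha1]
  obtain ⟨a, ha1, ha2⟩ := swap i hi hi1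
  obtain ⟨b, hb1, hb2⟩ := swap j hj hj1
  set i' := a * i * a⁻¹ with hi'
  set j' := b * j * b⁻¹ with hj'
  have hii : i' * i' = 1 := by
    rw [hi', show a * i * a⁻¹ * (a * i * a⁻¹) = a * (i * i) * a⁻¹ by group, hi]; group
  have hinv : i' * (h : J) * i' = (h : J)⁻¹ := by
    have hw : (i' * (h : J) * i') • w = w := by rw [mul_smul, mul_smul, ha1, hhp, ha2]
    have hp' : (i' * (h : J) * i') • p = p := by
      rw [mul_smul, mul_smul, ha2, show (h : J) • w = w from h.2, ha1]
    obtain ⟨k, hk⟩ := pow_of_two_fixed P hhθ hp hhp (t := ⟨_, hw⟩) hp'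
    have hk' : i' * (h : J) * i' = (h : J) ^ k := by
      have := congrArg Subtype.val hk
      rwa [SubgroupClass.coe_pow] at this
    set u := (h : J) ^ k * (h : J) with hu
    have hcom : i' * u = u * i' := by
      have h1 : i' * u * i' = u := by
        rw [hu, show i' * ((h : J) ^ k * (h : J)) * i' = (i' * (h : J) ^ k * i') * (i' * (h : J) * i') by
          simp only [mul_assoc]; rw [← mul_assoc i' i', hii, one_mul]]
        rw [← hk', show i' * (i' * (h : J) * i') * i' = (h : J) by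
          rw [show i' * (i' * (h : J) * i') * i' = (i' * i') * (h : J) * (i' * i') by simp only [mul_assoc],
            hii, one_mul, mul_one], hk']
        exact (Commute.pow_self (h : J) k).symm.eq
      calc i' * u = i' * u * (i' * i') := by rw [hii, mul_one]
        _ = _ := by rw [← mul_assoc, h1]
    have hun : u ^ degF F = 1 := by
      rw [hu, ← pow_succ, ← pow_mul, mul_comm, pow_mul]
      have : (h : J) ^ degF F = 1 := by rw [← SubgroupClass.coe_pow, hhn]; rfl
      rw [this, one_pow]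
    have hi'1 : i' ≠ 1 := fun e => hi1 (conj_eq_one_iff.1 (hi' ▸ e))
    have hu1 : u = 1 := by_contra fun hu1 => hi'1 (no_comm P hun hu1 hii hcom)
    rw [hk']
    exact eq_inv_of_mul_eq_one_left hu1
  have hjw : (i' * j') • w = w := by rw [mul_smul, hb1, ha2]
  have hjp : (i' * j') • p = p := by rw [mul_smul, hb2, ha1]
  obtain ⟨k, hk⟩ := pow_of_two_fixed P hhθ hp hhp (t := ⟨_, hjw⟩) hjp
  have hk' : i' * j' = (h : J) ^ k := by
    have := congrArg Subtype.val hk
    rwa [SubgroupClass.coe_pow] at this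
  obtain ⟨m, hm⟩ := deg_odd P
  set u := (h : J) ^ (k * (m + 1)) with hu
  have huu : u * u = (h : J) ^ k := by
    rw [hu, ← pow_add, show k * (m + 1) + k * (m + 1) = k + degF F * k by rw [hm]; ring, pow_add, pow_mul]
    have : (h : J) ^ degF F = 1 := by rw [← SubgroupClass.coe_pow, hhn]; rfl
    rw [this, one_pow, mul_one]
  have hiu : i' * u * i' = u⁻¹ := by
    have e : i' * u * i'⁻¹ = (i' * (h : J) * i'⁻¹) ^ (k * (m + 1)) := conj_pow.symm
    rw [inv_eq_of_mul_eq_one_left hii, hinv, inv_pow] at e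
    exact e
  refine ⟨b⁻¹ * u⁻¹ * a, ?_⟩
  have : j' = u⁻¹ * i' * u := by
    have h1 : j' = i' * (h : J) ^ k := by rw [← hk', ← mul_assoc, hii, one_mul]
    rw [h1, ← huu, ← hiu]
    simp only [mul_assoc]
    rw [show i' * (i' * u) = u by rw [← mul_assoc, hii, one_mul]]
  calc b⁻¹ * u⁻¹ * a * i * (b⁻¹ * u⁻¹ * a)⁻¹ = b⁻¹ * (u⁻¹ * (a * i * a⁻¹) * u) * b := by group
    _ = b⁻¹ * j' * b := by rw [this]
    _ = j := by rw [hj']; group

end

end Cfsg.Agent.TwoXDih.JL
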