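import Cfsg.Agent.Lib.TwoXDih.JBasic
import Mathlib.GroupTheory.Transfer
import Mathlib.GroupTheory.Perm.Cycle.Type

/-!
# The field automorphisms of a point stabiliser form the whole automorphism group, of prime order
-/

set_option autoImplicit false
set_option linter.style.haveILetI false
set_option linter.unusedSectionVars false

namespace Cfsg.Agent.TwoXDih.JL

open MulAction

universe u v

/-- The transfer of an element all of whose relevant conjugates have the same value. -/
theorem transfer_eq_pow_index {G : Type u} [Group G] {H : Subgroup G} [H.FiniteIndex] {A : Type*}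
    [CommGroup A] (φ : H →* A) {g : G} {a : A}
    (key : ∀ (k : ℕ) (g₀ : G) (hk : g₀⁻¹ * g ^ k * g₀ ∈ H), φ ⟨g₀⁻¹ * g ^ k * g₀, hk⟩ = a ^ k) :
    MonoidHom.transfer φ g = a ^ H.index := by
  classical
  letI := H.fintypeQuotientOfFiniteIndex
  rw [MonoidHom.transfer_eq_prod_quotient_orbitRel_zpowers_quot, Subgroup.index_eq_sum_minimalPeriod H g,
    ← Finset.prod_pow_eq_pow_sum]
  exact Finset.prod_congr rfl fun q _ => key _ _ _

variable {F : Type} [Field F] [Fintype F] [CharP F 2] {J : Type u} [Group J] [Finite J] {X : Type v}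
  [MulAction J X] {ρ : J →* AddMonoid.End F} {w : X}

section
variable (hC : Cfg ρ w)
include hC

theorem one_lt_X : 1 < Nat.card X := by
  rw [hC.card, Nat.card_eq_fintype_card]
  exact Fintype.one_lt_card

theorem exists_ne_w : ∃ p : X, p ≠ w :=
  haveI := finite_X hC
  haveI : Nontrivial X := Finite.one_lt_card_iff_nontrivial.1 (one_lt_X hC)
  exists_ne w

/-- The group is faithful on the points. -/
theorem eq_one_of_fix {g : J} (hg : ∀ x : X, g • x = x) : g = 1 := by
  obtain ⟨p, hp⟩ := exists_ne_w hC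
  set s : stabilizer J w := ⟨g, hg w⟩ with hs
  have h1 : θ hC s = 1 := RingEquiv.ext fun x => by
    show θ hC s x = x
    rcases eq_or_ne x 0 with rfl | hx
    · exact map_zero _
    · have h := smul_kf_smul hC s (Units.mk0 x hx) p
      rw [show ((s : stabilizer J w) : J) • kf hC (Units.mk0 x hx) • p = kf hC (Units.mk0 x hx) • p from hg _,
        show ((s : stabilizer J w) : J) • p = p from hg p] at h
      exact congrArg Units.val (kf_inj hC hp h).symm
  have h2 := eq_kf_of_θ hC h1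
  have h3 : kf hC (Units.mk0 (ρ (s : J) 1) (ρ_one_ne_zero _)) • p = p := by rw [← h2]; exact hg p
  rw [show g = (s : J) from rfl, h2, kf_free hC hp h3, map_one]

/-- The kernel of the map to the automorphisms is the group of scalars. -/
theorem card_ker : Nat.card (θ hC).ker = Nat.card F - 1 := by
  obtain ⟨p, hp⟩ := exists_ne_w hC
  let f : Fˣ → (θ hC).ker := fun c => ⟨⟨kf hC c, kf_mem hC c⟩, θ_kf hC c⟩
  have hb : Function.Bijective f := by
    refine ⟨fun c d h => kf_inj hC hp ?_, fun s => ?_⟩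
    · have e : kf hC c = kf hC d := congrArg (fun s : (θ hC).ker => ((s : stabilizer J w) : J)) h
      rw [e]
    · exact ⟨_, Subtype.ext (Subtype.ext (eq_kf_of_θ hC s.2).symm)⟩
  rw [← Nat.card_eq_of_bijective f hb, Nat.card_units]

theorem card_stab : Nat.card (stabilizer J w) = (Nat.card F - 1) * Nat.card (θ hC).range := by
  rw [← card_ker hC, ← Subgroup.index_ker, mul_comm]
  exact ((θ hC).ker.index_mul_card).symm

theorem card_J : Nat.card J = Nat.card F * ((Nat.card F - 1) * Nat.card (θ hC).range) := by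
  haveI := hC.trans
  rw [← card_stab hC, ← hC.card]
  exact (Nat.card_congr (MulAction.orbitProdStabilizerEquivGroup J w).symm).trans (by
    rw [Nat.card_prod, orbit_eq_univ, Nat.card_univ])

theorem exists_conj_stab {g : J} {x : X} (hg : g • x = x) :
    ∃ a : J, a * g * a⁻¹ ∈ stabilizer J w := by
  haveI := hC.trans
  obtain ⟨a, ha⟩ := exists_smul_eq J x w
  refine ⟨a, ?_⟩
  show (a * g * a⁻¹) • w = w
  rw [mul_smul, mul_smul, ← ha, inv_smul_smul, hg]

/-- A two-element fixing a point is trivial. -/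
theorem eq_one_of_two_pow {g : J} {k : ℕ} (hk : g ^ 2 ^ k = 1) {x : X} (hg : g • x = x) : g = 1 := by
  obtain ⟨a, ha⟩ := exists_conj_stab hC hg
  have h1 : (⟨a * g * a⁻¹, ha⟩ : stabilizer J w) ^ 2 ^ k = 1 :=
    Subtype.ext (by rw [SubgroupClass.coe_pow, conj_pow, hk]; simp)
  have h2 : orderOf (⟨a * g * a⁻¹, ha⟩ : stabilizer J w) = 1 := by
    refine Nat.eq_one_of_dvd_coprimes ?_ (orderOf_dvd_natCard _) (orderOf_dvd_of_pow_eq_one h1)
    exact (Nat.coprime_two_right.2 hC.odd).pow_right k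
  rw [orderOf_eq_one_iff, Subtype.ext_iff] at h2
  have h3 : a * g * a⁻¹ = 1 := h2
  calc g = a⁻¹ * (a * g * a⁻¹) * a := by group
    _ = 1 := by rw [h3]; group

/-- A two-group normalised by the scalars is trivial. -/
theorem eq_bot_of_kf_normal {R : Subgroup J} (hR : IsPGroup 2 R)
    (hn : ∀ (c : Fˣ), ∀ r ∈ R, kf hC c * r * (kf hC c)⁻¹ ∈ R) : R = ⊥ := by
  classical
  letI : MulAction R F :=
    { smul := fun r x => ρ (r : J) x
      one_smul := fun x => ρ_one ρ x
      mul_smul := fun r s x => ρ_mul ρ (r : J) (s : J) x }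
  have h2 : 2 ∣ Nat.card F := by
    rw [Nat.card_eq_fintype_card, RankOne.FieldMaps.card_aut]
    haveI : Finite (F ≃+* F) := Finite.of_injective (fun σ => (σ : F → F)) DFunLike.coe_injective
    exact dvd_pow_self 2 Nat.card_pos.ne'
  obtain ⟨v, hv, hv0⟩ := hR.exists_fixed_point_of_prime_dvd_card_of_fixed_point F h2 (a := (0 : F))
    (fun r => map_zero (ρ (r : J)))
  rw [Subgroup.eq_bot_iff_forall]
  refine fun r hr => eq_of_ρ hC fun x => ?_
  rw [ρ_one]
  rcases eq_or_ne x 0 with rfl | hx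
  · exact map_zero _
  set c : Fˣ := Units.mk0 x hx / Units.mk0 v (Ne.symm hv0) with hc
  have hx2 : x = ρ (kf hC c) v := by
    rw [kf_spec, hc, Units.val_div_eq_div_val, Units.val_mk0, Units.val_mk0, div_mul_cancel₀ _ (Ne.symm hv0)]
  have h3 : ρ ((kf hC c)⁻¹ * r * kf hC c) v = v := by
    have := hn c⁻¹ r hr
    rw [map_inv, inv_inv] at this
    exact hv ⟨_, this⟩
  rw [hx2, ← ρ_mul, show r * kf hC c = kf hC c * ((kf hC c)⁻¹ * r * kf hC c) by group, ρ_mul, h3]

/-- The automorphisms are not all trivial. -/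
theorem range_ne_one (h8 : 2 < Nat.card F) : Nat.card (θ hC).range ≠ 1 := by
  classical
  intro hf
  haveI := finite_X hC
  haveI := hC.trans
  have hθ : ∀ s, θ hC s = 1 := fun s => by
    have := Subgroup.eq_bot_of_card_eq _ hf
    exact Subgroup.mem_bot.1 (this ▸ ⟨s, rfl⟩ : θ hC s ∈ (⊥ : Subgroup (F ≃+* F)))
  have hsemi : ∀ (g : J) (x y : X), g • x = x → g • y = y → g ≠ 1 → x = y := by
    intro g x y hx hy hg
    by_contra hxy
    obtain ⟨p, hp⟩ := exists_ne_w hC
    obtain ⟨a, ha1, ha2⟩ := exists_pair_map hC hxy (Ne.symm hp)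
    have hw : (a * g * a⁻¹) • w = w := by rw [mul_smul, mul_smul, ← ha1, inv_smul_smul, hx]
    have hp2 : (a * g * a⁻¹) • p = p := by rw [mul_smul, mul_smul, ← ha2, inv_smul_smul, hy]
    have h1 := two_point_inj hC hp (h := ⟨_, hw⟩) (h' := 1) (by rw [hθ, hθ]) hp2 (one_smul _ _)
    rw [Subtype.ext_iff] at h1
    exact hg (conj_eq_one_iff.1 h1)
  haveI : Fact (Nat.Prime 2) := ⟨Nat.prime_two⟩
  obtain ⟨n, hn⟩ : ∃ n, Nat.card F = 2 ^ n :=
    ⟨_, by rw [Nat.card_eq_fintype_card, RankOne.FieldMaps.card_aut]⟩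
  have hJ := card_J hC
  rw [hf, mul_one] at hJ
  obtain ⟨P, hP⟩ := Sylow.exists_subgroup_card_pow_prime 2 (n := n) (G := J)
    (by rw [hJ, hn]; exact dvd_mul_right _ _)
  have hPp : IsPGroup 2 P := IsPGroup.of_card hP
  have hPfix : ∀ {g : J}, g ∈ P → ∀ x : X, g • x = x → g = 1 := fun {g} hg x hx => by
    obtain ⟨k, hk⟩ := hPp ⟨g, hg⟩
    exact eq_one_of_two_pow hC (k := k) (congrArg Subtype.val hk) hx
  -- every element lies in `P` or fixes a point
  have hcover : ∀ g : J, g ∈ P ∨ ∃ x : X, g • x = x := by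
    let Φ : P ⊕ (Σ x : X, {g : stabilizer J x // g ≠ 1}) → J :=
      Sum.elim Subtype.val fun z => ((z.2 : stabilizer J z.1) : J)
    have hinj : Function.Injective Φ := by
      rintro (a | ⟨x, a, ha⟩) (b | ⟨y, b, hb⟩) e
      · exact congrArg Sum.inl (Subtype.ext e)
      · have h1 : (a : J) = (b : J) := e
        exact absurd (Subtype.ext (hPfix (h1 ▸ a.2) y b.2)) hb
      · have h1 : (a : J) = (b : J) := e
        exact absurd (Subtype.ext (hPfix (h1.symm ▸ b.2) x a.2)) ha
      · have h1 : (a : J) = (b : J) := e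
        obtain rfl : x = y := hsemi (a : J) x y a.2 (h1 ▸ b.2) fun h => ha (Subtype.ext h)
        obtain rfl : a = b := Subtype.ext h1
        rfl
    haveI : Fintype X := Fintype.ofFinite X
    have hstab : ∀ x : X, Nat.card {g : stabilizer J x // g ≠ 1} = Nat.card F - 2 := fun x => by
      haveI : Fintype (stabilizer J x) := Fintype.ofFinite _
      rw [Nat.card_eq_fintype_card, Fintype.card_subtype_compl, Fintype.card_subtype_eq,
        ← Nat.card_eq_fintype_card]
      obtain ⟨a, ha⟩ := exists_smul_eq J w x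
      rw [← ha, stabilizer_smul_eq_stabilizer_map_conj,
        ← Nat.card_congr ((stabilizer J w).equivMapOfInjective _ (MulEquiv.injective _)).toEquiv,
        card_stab hC, hf, mul_one]
      omega
    have hcard : Nat.card J ≤ Nat.card (P ⊕ (Σ x : X, {g : stabilizer J x // g ≠ 1})) := by
      rw [Nat.card_sum, Nat.card_sigma, Finset.sum_congr rfl fun x _ => hstab x, Finset.sum_const,
        Finset.card_univ, smul_eq_mul, hP, ← hn, ← Nat.card_eq_fintype_card, hC.card, hJ]
      have : Nat.card F - 1 = 1 + (Nat.card F - 2) := by omega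
      rw [this, mul_add, mul_one]
    intro g
    obtain ⟨z, hz⟩ := (hinj.bijective_of_nat_card_le hcard).2 g
    rcases z with a | ⟨x, a, ha⟩
    · exact Or.inl (hz ▸ a.2)
    · exact Or.inr ⟨x, hz ▸ a.2⟩
  have hPn : ∀ (a : J), ∀ g ∈ P, a * g * a⁻¹ ∈ P := fun a g hg => by
    rcases hcover (a * g * a⁻¹) with h | ⟨x, hx⟩
    · exact h
    · have hx' : g • (a⁻¹ • x) = a⁻¹ • x := by
        conv_rhs => rw [← hx]
        rw [mul_smul, mul_smul, inv_smul_smul]
      rw [hPfix hg _ hx', mul_one, mul_inv_cancel]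
      exact one_mem _
  have := eq_bot_of_kf_normal hC hPp fun c r hr => hPn _ r hr
  rw [this, Subgroup.card_bot] at hP
  omega

/-- The transfer to the automorphisms at an element fixing `1`. -/
theorem conj_value [IsCyclic (F ≃+* F)] {h : stabilizer J w} {g₀ : J}
    (hk : g₀⁻¹ * (h : J) * g₀ ∈ stabilizer J w)
    (hmove : g₀ • w ≠ w → ∃ g : J, g * (h : J) = (h : J) * g ∧ g • w = g₀ • w) :
    θ hC ⟨g₀⁻¹ * (h : J) * g₀, hk⟩ = θ hC h := by
  letI : CommGroup (F ≃+* F) := IsCyclic.commGroup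
  have key : ∀ s : stabilizer J w, θ hC (s⁻¹ * h * s) = θ hC h := fun s => by
    rw [map_mul, map_mul, map_inv, mul_comm, ← mul_assoc, mul_inv_cancel, one_mul]
  rcases eq_or_ne (g₀ • w) w with e | e
  · exact Eq.trans (congrArg (θ hC) (Subtype.ext rfl)) (key ⟨g₀, e⟩)
  · obtain ⟨g, hg, hgw⟩ := hmove e
    have hs : g⁻¹ * g₀ ∈ stabilizer J w := by
      show (g⁻¹ * g₀) • w = w
      rw [mul_smul, ← hgw, inv_smul_smul]
    refine Eq.trans (congrArg (θ hC) (Subtype.ext ?_)) (key ⟨g⁻¹ * g₀, hs⟩)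
    show g₀⁻¹ * (h : J) * g₀ = (g⁻¹ * g₀)⁻¹ * (h : J) * (g⁻¹ * g₀)
    calc g₀⁻¹ * (h : J) * g₀ = g₀⁻¹ * ((h : J) * g) * (g⁻¹ * g₀) := by group
      _ = _ := by rw [← hg]; group

/-- An element `h` fixing `1` whose automorphism has a given prime order. -/
theorem exists_order_prime {p : ℕ} [Fact p.Prime] (hp : p ∣ Nat.card (θ hC).range) :
    ∃ h : stabilizer J w, ρ (h : J) 1 = 1 ∧ orderOf (θ hC h) = p ∧ h ^ p = 1 := by
  obtain ⟨⟨σ, s, hs⟩, hσ⟩ := exists_prime_orderOf_dvd_card' p hp
  rw [← Subgroup.orderOf_coe] at hσ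
  have hσ' : orderOf (θ hC s) = p := by rw [hs]; exact hσ
  set c : Fˣ := (Units.mk0 (ρ (s : J) 1) (ρ_one_ne_zero _))⁻¹ with hc
  set h : stabilizer J w := ⟨kf hC c, kf_mem hC c⟩ * s with hh
  have h1 : ρ (h : J) 1 = 1 := by
    show ρ (kf hC c * (s : J)) 1 = 1
    rw [ρ_mul, kf_spec, hc, Units.val_inv_eq_inv_val, Units.val_mk0, inv_mul_cancel₀ (ρ_one_ne_zero _)]
  have hθ : θ hC h = θ hC s := by rw [hh, map_mul, θ_kf, one_mul]
  have hfix : ∀ i : ℕ, ρ ((h : J) ^ i) 1 = 1 := fun i => by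
    induction i with
    | zero => rw [pow_zero, ρ_one]
    | succ i ih => rw [pow_succ, ρ_mul, h1, ih]
  refine ⟨h, h1, by rw [hθ]; exact hσ', ?_⟩
  have h2 : θ hC (h ^ p) = 1 := by rw [map_pow, hθ, ← hσ', pow_orderOf_eq_one]
  have h3 := eq_kf_of_θ hC h2
  have h4 : Units.mk0 (ρ ((h ^ p : stabilizer J w) : J) 1) (ρ_one_ne_zero _) = 1 :=
    Units.ext (by rw [Units.val_mk0, SubgroupClass.coe_pow, hfix, Units.val_one])
  rw [h4, map_one] at h3
  exact Subtype.ext h3

end

/-- The restriction to a subgroup. -/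
theorem Cfg.restrict (hC : Cfg ρ w) (J₀ : Subgroup J) (htr : IsPretransitive J₀ X)
    (hk : ∀ c, kf hC c ∈ J₀) : Cfg (ρ.comp J₀.subtype) w where
  inj a b e := Subtype.ext (hC.inj e)
  trans := htr
  card := hC.card
  odd := by
    refine hC.odd.of_dvd_nat ?_
    let f : stabilizer J₀ w →* stabilizer J w :=
      { toFun := fun s => ⟨((s : J₀) : J), s.2⟩
        map_one' := rfl
        map_mul' := fun _ _ => rfl }
    exact Subgroup.card_dvd_of_injective f fun a b e =>
      Subtype.ext (Subtype.ext (congrArg (fun s : stabilizer J w => (s : J)) e))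
  scalar c hc := ⟨⟨kf hC (Units.mk0 c hc), hk _⟩, kf_w hC _, fun x => kf_spec hC _ x⟩
  semi j hj c hx p hp h := hC.semi (j : J) hj c hx p hp h
  norm j hj c := hC.norm (j : J) hj c

/-- All automorphisms occur, and their number is a prime. -/
theorem full_range (h8 : 2 < Nat.card F) : ∀ (m : ℕ) (J : Type u) [Group J] [Finite J] [MulAction J X]
    (ρ : J →* AddMonoid.End F) (hC : Cfg ρ w), Nat.card (θ hC).range = m →
    m = Nat.card (F ≃+* F) ∧ m.Prime := by
  classical
  intro m
  induction m using Nat.strong_induction_on with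
  | _ m ih =>
    intro J _ _ _ ρ hC hm
    haveI : IsCyclic (F ≃+* F) := RankOne.isCyclic_aut
    letI : CommGroup (F ≃+* F) := IsCyclic.commGroup
    haveI : Finite (F ≃+* F) := Finite.of_injective (fun σ => (σ : F → F)) DFunLike.coe_injective
    haveI := hC.trans
    haveI := finite_X hC
    have hm1 : m ≠ 1 := hm ▸ range_ne_one hC h8
    have hdvd : m ∣ Nat.card (F ≃+* F) := hm ▸ range_card_dvd hC
    set p := m.minFac with hp
    haveI : Fact p.Prime := ⟨Nat.minFac_prime hm1⟩
    by_contra hno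
    have hpm : p ≤ m := Nat.minFac_le (hm ▸ Nat.card_pos)
    have hpn : p < Nat.card (F ≃+* F) := by
      rcases (hpm.trans (Nat.le_of_dvd Nat.card_pos hdvd)).lt_or_eq with h | h
      · exact h
      · have : m = Nat.card (F ≃+* F) := le_antisymm (Nat.le_of_dvd Nat.card_pos hdvd) (h ▸ hpm)
        exact absurd ⟨this, (this.trans h.symm) ▸ Fact.out⟩ hno
    obtain ⟨h, -, hord, hpow⟩ := exists_order_prime hC (p := p) (hm ▸ Nat.minFac_dvd m)
    have hpodd : Odd p := (odd_range hC).of_dvd_nat (hm ▸ Nat.minFac_dvd m)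
    obtain ⟨q₀, hq₀, hfq⟩ := exists_fixed hC h (hord ▸ hpow) (exists_ne_w hC)
    -- the transfer
    haveI : (stabilizer J w).FiniteIndex := inferInstance
    set V : J →* (F ≃+* F) := MonoidHom.transfer (θ hC) with hV
    have hVh : V (h : J) = θ hC h ^ Nat.card F := by
      rw [← hC.card, ← index_stabilizer_of_transitive J w]
      refine transfer_eq_pow_index (θ hC) fun k g₀ hk => ?_
      rw [← map_pow]
      have hk' : g₀⁻¹ * ((h ^ k : stabilizer J w) : J) * g₀ ∈ stabilizer J w := by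
        rw [SubgroupClass.coe_pow]; exact hk
      refine Eq.trans ?_ (conj_value hC hk' fun hne => ?_)
      · exact congrArg (θ hC) (Subtype.ext (congrArg (g₀⁻¹ * · * g₀) (SubgroupClass.coe_pow h k).symm))
      have hlt : orderOf (θ hC (h ^ k)) < Nat.card (F ≃+* F) :=
        lt_of_le_of_lt (Nat.le_of_dvd (Nat.minFac_pos m) (by rw [map_pow, show m.minFac = orderOf (θ hC h) from hord.symm]; exact orderOf_pow_dvd k)) hpn
      obtain ⟨c, hc1, hc⟩ := exists_fixed_unit hlt
      refine centralizer_move hC (h ^ k) hne ?_ hc1 hc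
      have e : (g₀⁻¹ * ((h ^ k : stabilizer J w) : J) * g₀) • w = w := hk'
      rw [mul_smul, mul_smul, inv_smul_eq_iff] at e
      exact e
    have hVk : ∀ c, V (kf hC c) = 1 := fun c => by
      have hind : V (kf hC c) = (1 : F ≃+* F) ^ (stabilizer J w).index := by
        refine transfer_eq_pow_index (θ hC) fun k g₀ hk => ?_
        rw [one_pow]
        have hk2 : g₀⁻¹ * kf hC (c ^ k) * g₀ ∈ stabilizer J w := by rw [map_pow]; exact hk
        refine Eq.trans (congrArg (θ hC) (Subtype.ext (congrArg (g₀⁻¹ * · * g₀) (map_pow (kf hC) c k).symm) : (⟨_, hk⟩ : stabilizer J w) = ⟨_, hk2⟩)) ?_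
        have h2 : kf hC (c ^ k) • (g₀ • w) = g₀ • w := by
          have e : (g₀⁻¹ * kf hC (c ^ k) * g₀) • w = w := hk2
          rw [mul_smul, mul_smul, inv_smul_eq_iff] at e
          exact e
        refine (conj_value hC (h := ⟨kf hC (c ^ k), kf_mem hC _⟩) hk2 fun hne => ?_).trans (θ_kf hC _)
        refine ⟨g₀, ?_, rfl⟩
        show g₀ * kf hC (c ^ k) = kf hC (c ^ k) * g₀
        rw [kf_free hC hne h2, map_one, mul_one, one_mul]
      rw [hind, one_pow]
    have hVne : V (h : J) ≠ 1 := fun e => by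
      rw [hVh, ← orderOf_dvd_iff_pow_eq_one, hord, Nat.card_eq_fintype_card, RankOne.FieldMaps.card_aut] at e
      obtain ⟨k, hk, e2⟩ := (Nat.dvd_prime_pow Nat.prime_two).1 e
      rw [e2] at hpodd
      rcases Nat.eq_zero_or_pos k with rfl | hk0
      · exact (Fact.out : p.Prime).ne_one (by rw [e2, pow_zero])
      · exact Nat.not_even_iff_odd.2 hpodd (by rw [Nat.even_pow]; exact ⟨even_two, hk0.ne'⟩)
    -- the kernel is transitive
    set J₀ := V.ker with hJ₀
    have hk : ∀ c, kf hC c ∈ J₀ := hVk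
    obtain ⟨p₁, hp₁⟩ := exists_ne_w hC
    have hmove : ∃ g ∈ J₀, g • w ≠ w := by
      by_contra hall
      push Not at hall
      obtain ⟨c, hc1, -⟩ := exists_fixed_unit (t := θ hC h) (hord ▸ hpn)
      have h1 : kf hC c = 1 := by
        refine eq_one_of_fix hC fun x => ?_
        obtain ⟨a, ha⟩ := exists_smul_eq J w x
        have := hall _ (MonoidHom.normal_ker V |>.conj_mem _ (hk c) a⁻¹)
        rw [mul_smul, mul_smul, inv_inv, ha, inv_smul_eq_iff, ha] at this
        exact this
      exact hc1 (kf_free hC hp₁ (by rw [h1, one_smul]))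
    have htr : IsPretransitive J₀ X := by
      obtain ⟨g, hg, hgw⟩ := hmove
      have key : ∀ y : X, ∃ a : J₀, a • w = y := fun y => by
        rcases eq_or_ne y w with rfl | hy
        · exact ⟨1, one_smul _ _⟩
        · obtain ⟨c, hc⟩ := exists_kf_smul hC hgw hy
          exact ⟨⟨kf hC c * g, mul_mem (hk c) hg⟩, by show (kf hC c * g) • w = y; rw [mul_smul, hc]⟩
      exact ⟨fun x y => by
        obtain ⟨a, rfl⟩ := key x
        obtain ⟨b, rfl⟩ := key y
        exact ⟨b * a⁻¹, by rw [mul_smul, inv_smul_smul]⟩⟩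
    have hC₀ := hC.restrict J₀ htr hk
    let ι : stabilizer J₀ w → stabilizer J w := fun s => ⟨((s : J₀) : J), s.2⟩
    have hθ₀ : ∀ s, θ hC₀ s = θ hC (ι s) := fun s => RingEquiv.ext fun x => rfl
    have hnot : θ hC h ∉ (θ hC₀).range := by
      rintro ⟨s, hs⟩
      rw [hθ₀] at hs
      have h1 : θ hC (h * (ι s)⁻¹) = 1 := by rw [map_mul, map_inv, hs, mul_inv_cancel]
      have h2 := eq_kf_of_θ hC h1
      refine hVne ?_
      have h3 : (h : J) = ((h * (ι s)⁻¹ : stabilizer J w) : J) * ((s : J₀) : J) := by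
        rw [Subgroup.coe_mul, InvMemClass.coe_inv]; exact (inv_mul_cancel_right _ _).symm
      rw [h3, map_mul, h2, hVk, one_mul]
      exact (s : J₀).2
    have hlt : Nat.card (θ hC₀).range < m := by
      rw [← hm]
      have hle : (θ hC₀).range ≤ (θ hC).range := by
        rintro _ ⟨s, rfl⟩
        exact ⟨ι s, (hθ₀ s).symm⟩
      refine lt_of_le_of_ne (Subgroup.card_le_of_le hle) fun e => hnot ?_
      rw [Subgroup.eq_of_le_of_card_ge hle e.ge]
      exact ⟨h, rfl⟩
    have h0 := (ih _ hlt J₀ _ hC₀ rfl).1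
    have := Nat.le_of_dvd Nat.card_pos hdvd
    omega

end Cfsg.Agent.TwoXDih.JL
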