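import Cfsg.Agent.Lib.TwoXDih.OBasic
import Cfsg.Agent.Lib.TwoXDih.NQ
import Cfsg.Agent.Lib.TwoXDih.Transfer

/-!
# The dihedral case, `|D| = 8`: the four-group `⟨z, x⟩`
-/

set_option autoImplicit false
set_option linter.unusedSectionVars false
set_option linter.style.haveILetI false
set_option linter.unusedVariables false
set_option linter.unusedTactic false

namespace Cfsg.Agent.TwoXDih

open Subgroup
open scoped Pointwise
open Loc (cj)

universe u

/-- A Sylow subgroup of a larger group meets a normal subgroup in a Sylow subgroup. -/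
theorem card_le_inf_of_normal {G : Type u} [Group G] [Finite G] (Y : Subgroup G) {X T R : Subgroup G} (hXY : X ≤ Y)
    (hnorm : ∀ y ∈ Y, ∀ a ∈ X, y * a * y⁻¹ ∈ X) (hT : IsPGroup 2 T) (hTY : T ≤ Y)
    (hmax : ∀ P : Subgroup G, IsPGroup 2 P → P ≤ Y → Nat.card P ≤ Nat.card T)
    (hR : IsPGroup 2 R) (hRX : R ≤ X) : Nat.card R ≤ Nat.card (T ⊓ X : Subgroup G) := by
  haveI : Fact (Nat.Prime 2) := ⟨Nat.prime_two⟩
  obtain ⟨P, hP⟩ := (hR.of_injective (Subgroup.subgroupOfEquivOfLe (hRX.trans hXY)).toMonoidHom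
    (MulEquiv.injective _) : IsPGroup 2 (R.subgroupOf Y)).exists_le_sylow
  obtain ⟨P0, hP0⟩ := (hT.of_injective (Subgroup.subgroupOfEquivOfLe hTY).toMonoidHom
    (MulEquiv.injective _) : IsPGroup 2 (T.subgroupOf Y)).exists_le_sylow
  have hP0eq : (P0 : Subgroup Y) = T.subgroupOf Y := by
    refine (Subgroup.eq_of_le_of_card_ge hP0 ?_).symm
    rw [Nat.card_congr (Subgroup.subgroupOfEquivOfLe hTY).toEquiv,
      ← Subgroup.card_map_of_injective (Subgroup.subtype_injective Y) (K := (P0 : Subgroup Y))]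
    exact hmax _ (P0.2.map _) (Subgroup.map_subtype_le _)
  obtain ⟨g, hg⟩ := MulAction.exists_smul_eq Y P P0
  have hm : ∀ r ∈ R, ∀ h : r ∈ Y, (g : G) * r * (g : G)⁻¹ ∈ T ⊓ X := by
    intro r hr h
    refine ⟨?_, hnorm g g.2 r (hRX hr)⟩
    have h1 : g * ⟨r, h⟩ * g⁻¹ ∈ (P0 : Subgroup Y) := by
      rw [← hg, Sylow.coe_subgroup_smul]
      exact Subgroup.smul_mem_pointwise_smul _ (MulAut.conj g) _ (hP (show (⟨r, h⟩ : Y) ∈ R.subgroupOf Y from hr))
    rw [hP0eq] at h1
    exact h1
  exact Nat.card_le_card_of_injective (fun r => (⟨_, hm r.1 r.2 (hXY (hRX r.2))⟩ : ↥(T ⊓ X))) fun a b e =>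
    Subtype.ext (mul_left_cancel (mul_right_cancel (congrArg (fun w : ↥(T ⊓ X) => (w : G)) e)))

namespace Loc.Sys

variable {G : Type u} [Group G] [Finite G] {L : Loc G} {Q : Subgroup G} {k : G}

/-- The elements acting trivially on `Q` modulo squares. -/
def TrivBar (Q : Subgroup G) : Subgroup (Subgroup.normalizer (Q : Set G)) where
  carrier := {n | ∀ x : Q, (cj Q n x)⁻¹ * x ∈ sqs Q}
  one_mem' := fun x => by rw [map_one, MulAut.one_apply, inv_mul_cancel]; exact one_mem _
  mul_mem' := fun {a b} ha hb x => by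
    rw [map_mul, MulAut.mul_apply]
    have h1 := mul_mem (ha (cj Q b x)) (hb x)
    simpa [mul_assoc] using h1
  inv_mem' := fun {a} ha x => by
    have h1 := inv_mem (ha (cj Q a⁻¹ x))
    rw [← MulAut.mul_apply (M := Q), ← map_mul, mul_inv_cancel, map_one, MulAut.one_apply, mul_inv_rev, inv_inv] at h1
    exact h1

/-- Elements of `N(Q)` centralising `t` and `D` act trivially modulo squares. -/
theorem triv_bar (F : L.Sys Q k) {n : Subgroup.normalizer (Q : Set G)} (hnt : (n : G) * L.t = L.t * (n : G))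
    (hnD : ∀ d ∈ L.D, (n : G) * d = d * (n : G)) : n ∈ TrivBar Q := by
  haveI : Fact (Nat.Prime 2) := ⟨Nat.prime_two⟩
  obtain ⟨a, b, hb, hab⟩ := Nat.exists_eq_pow_mul_and_not_dvd (orderOf_pos n).ne' 2 (by norm_num)
  have hb' : ¬ 2 ∣ b := hb
  have hodd : Odd b := by rwa [← Nat.not_even_iff_odd, even_iff_two_dvd]
  have h1 : n ^ b ∈ TrivBar Q := by
    have ho : ((n : G) ^ b) ^ (2 ^ a) = 1 := by
      rw [← pow_mul, mul_comm, ← hab]
      exact_mod_cast congrArg Subtype.val (pow_orderOf_eq_one n)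
    obtain ⟨j, -, hj⟩ := (Nat.dvd_prime_pow Nat.prime_two).1 (orderOf_dvd_of_pow_eq_one ho)
    have hsm := L.small ((n : G) ^ b) ((Commute.pow_left (hnt : Commute (n : G) L.t) b).eq)
      (fun d hd => ((Commute.pow_left (hnD d hd : Commute (n : G) d) b).eq)) ⟨j, hj⟩
    have hQ : (n : G) ^ b ∈ Q := by
      rcases hsm with h | h
      · exact F.DQ h
      · have := Q.mul_mem F.tQ (F.DQ h)
        rwa [← mul_assoc, L.tsq, one_mul] at this
    intro x
    rw [← QuotientGroup.eq]
    have e : cj Q (n ^ b) x = (⟨_, hQ⟩ : Q) * x * (⟨_, hQ⟩ : Q)⁻¹ := Subtype.ext (by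
      rw [Loc.cj_apply]; push_cast; rfl)
    rw [e, QuotientGroup.mk_mul, QuotientGroup.mk_mul, mk_sqs_comm (QuotientGroup.mk (⟨_, hQ⟩ : Q)),
      QuotientGroup.mk_inv, mul_inv_cancel_right]
  have h2 : n ^ (2 ^ a) ∈ TrivBar Q := by
    intro x
    have hfix : ∀ y : Q, ((cj Q n) ^ (2 ^ a)) y = y := by
      intro y
      refine Tw.rigid Q F.tw ((cj Q n) ^ (2 ^ a)) b hodd ?_ ?_ ?_ y
      · rw [← map_pow, ← map_pow, ← pow_mul, ← hab, pow_orderOf_eq_one, map_one]
      · apply Subtype.ext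
        rw [Loc.cj_pow]
        show (n : G) ^ (2 ^ a) * L.t * ((n : G) ^ (2 ^ a))⁻¹ = L.t
        rw [(Commute.pow_left (hnt : Commute (n : G) L.t) _).eq, mul_inv_cancel_right]
      · intro d hd
        apply Subtype.ext
        rw [Loc.cj_pow, (Commute.pow_left (hnD d hd : Commute (n : G) d) _).eq, mul_inv_cancel_right]
    rw [map_pow, hfix, inv_mul_cancel]
    exact one_mem _
  have hcop : Nat.Coprime b (2 ^ a) := Nat.Coprime.pow_right _ ((Nat.prime_two.coprime_iff_not_dvd).2 hb').symm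
  have hbez := Nat.gcd_eq_gcd_ab b (2 ^ a)
  rw [hcop.gcd_eq_one] at hbez
  have e : n = (n ^ b) ^ Nat.gcdA b (2 ^ a) * (n ^ (2 ^ a)) ^ Nat.gcdB b (2 ^ a) := by
    rw [← zpow_natCast n b, ← zpow_natCast n (2 ^ a), ← zpow_mul, ← zpow_mul, ← zpow_add, ← hbez]
    simp
  rw [e]
  exact mul_mem (zpow_mem h1 _) (zpow_mem h2 _)

theorem kk_order (F : L.Sys Q k) (tcls : ∀ d ∈ L.D, IsConj L.t (L.t * d)) :
    (⟨k, F.kQ⟩ : Subgroup.normalizer (Q : Set G)) ^ 2 ∉ NC L Q := by
  intro h
  rw [mem_NC] at h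
  obtain ⟨d, hd, hd1, -⟩ := F.tw.exists_ne F.tw.D.one_mem
  obtain ⟨e, he, he1, hed⟩ := F.tw.exists_ne hd
  by_cases hek : e = F.tw.κ d
  · obtain ⟨f, hf, hf1, hfd, hfe⟩ : ∃ f ∈ F.tw.D, f ≠ 1 ∧ f ≠ d ∧ f ≠ e := ⟨d * e, F.tw.D.mul_mem hd he,
      fun h' => hed (by rw [eq_inv_of_mul_eq_one_right h', F.tw.invD hd]),
      fun h' => he1 (mul_eq_left.1 h'), fun h' => hd1 (mul_eq_right.1 h')⟩
    obtain ⟨i, hi⟩ := F.tw.trans d hd f hf hd1 hf1
    have h2 : (F.tw.κ ^ 2) d = d := Subtype.ext (by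
      show ((cj Q ⟨k, F.kQ⟩ ^ 2) d : G) = d
      rw [Loc.cj_pow]
      exact mul_inv_eq_iff_eq_mul.2 (h (d : G) hd))
    rw [← Nat.mod_add_div i 2, pow_add, pow_mul, MulAut.mul_apply,
      show ((F.tw.κ ^ 2) ^ (i / 2)) d = d from by
        induction i / 2 with
        | zero => simp
        | succ j ih => rw [pow_succ', MulAut.mul_apply, ih, h2]] at hi
    rcases Nat.mod_two_eq_zero_or_one i with h0 | h0 <;> rw [h0] at hi
    · exact hfd (by simpa using hi.symm)
    · exact hfe (by rw [hek]; simpa using hi.symm)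
  · obtain ⟨i, hi⟩ := F.tw.trans d hd e he hd1 he1
    have h2 : (F.tw.κ ^ 2) d = d := Subtype.ext (by
      show ((cj Q ⟨k, F.kQ⟩ ^ 2) d : G) = d
      rw [Loc.cj_pow]
      exact mul_inv_eq_iff_eq_mul.2 (h (d : G) hd))
    rw [← Nat.mod_add_div i 2, pow_add, pow_mul, MulAut.mul_apply,
      show ((F.tw.κ ^ 2) ^ (i / 2)) d = d from by
        induction i / 2 with
        | zero => simp
        | succ j ih => rw [pow_succ', MulAut.mul_apply, ih, h2]] at hi
    rcases Nat.mod_two_eq_zero_or_one i with h0 | h0 <;> rw [h0] at hi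
    · exact hed (by simpa using hi.symm)
    · exact hek (by simpa using hi.symm)

/-- Elements of `N(Q) ∩ C(t)` fix `Z` when `|D| = 4`. -/
theorem Z_inv_cent (F : L.Sys Q k) (tcls : ∀ d ∈ L.D, IsConj L.t (L.t * d)) (h4 : Nat.card L.D = 4)
    {Z : Subgroup Q} (hZ : F.tw.IsZ Z) {w : Subgroup.normalizer (Q : Set G)}
    (hwt : (w : G) * L.t = L.t * (w : G)) : ∀ z ∈ Z, cj Q w z ∈ Z := by
  haveI := F.normal_NC tcls
  let NQ := Subgroup.normalizer (Q : Set G)
  let N : Subgroup NQ := NC L Q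
  haveI : N.Normal := F.normal_NC tcls
  let kk : NQ := ⟨k, F.kQ⟩
  set kb : NQ ⧸ N := QuotientGroup.mk kk
  have hk2 : kb ^ 2 ≠ 1 := fun h => F.kk_order tcls ((QuotientGroup.eq_one_iff _).1 h)
  have h6 : Nat.card (NQ ⧸ N) ∣ 6 := by rw [← Subgroup.index_eq_card]; exact F.NC_index_dvd tcls h4
  haveI : (Subgroup.zpowers kb).Normal := by
    have hord : orderOf kb ∣ Nat.card (NQ ⧸ N) := orderOf_dvd_natCard _
    have hidx : (Subgroup.zpowers kb).index * orderOf kb = Nat.card (NQ ⧸ N) := by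
      rw [← Nat.card_zpowers, Subgroup.index_mul_card]
    have hne1 : orderOf kb ≠ 1 := fun e => hk2 (by rw [orderOf_eq_one_iff.1 e, one_pow])
    have hne2 : orderOf kb ≠ 2 := fun e => hk2 (e ▸ pow_orderOf_eq_one kb)
    have hle : Nat.card (NQ ⧸ N) ≤ 6 := Nat.le_of_dvd (by norm_num) h6
    have hpos : 0 < Nat.card (NQ ⧸ N) := Nat.card_pos
    have hcase : (Subgroup.zpowers kb).index = 1 ∨ (Subgroup.zpowers kb).index = 2 := by
      have h3 : 3 ≤ orderOf kb := by
        have := orderOf_pos kb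
        omega
      have : (Subgroup.zpowers kb).index * 3 ≤ 6 := (Nat.mul_le_mul_left _ h3).trans (hidx ▸ hle)
      have h0 : (Subgroup.zpowers kb).index ≠ 0 := Subgroup.index_ne_zero_of_finite
      omega
    rcases hcase with e | e
    · rw [Subgroup.index_eq_one.1 e]; infer_instance
    · exact Subgroup.normal_of_index_eq_two e
  have hm : (QuotientGroup.mk (w⁻¹ * kk * w) : NQ ⧸ N) ∈ Subgroup.zpowers kb := by
    have := (inferInstance : (Subgroup.zpowers kb).Normal).conj_mem kb (Subgroup.mem_zpowers _) (QuotientGroup.mk w)⁻¹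
    rw [inv_inv] at this
    exact this
  obtain ⟨i, hi⟩ := (mem_powers_iff_mem_zpowers (x := kb)).2 hm
  have hy0 : (kk ^ i)⁻¹ * (w⁻¹ * kk * w) ∈ TrivBar Q := by
    have hcomm : ∀ {n : NQ}, (n : G) * L.t = L.t * (n : G) ↔ n ∈ (centralizer ({L.t} : Set G)).subgroupOf NQ :=
      fun {n} => by rw [mem_subgroupOf, mem_centralizer_singleton_iff]
    refine F.triv_bar (hcomm.2 ?_) (mem_NC.1 ?_)
    · exact mul_mem (inv_mem (pow_mem (hcomm.1 F.kt) _))
        (mul_mem (mul_mem (inv_mem (hcomm.1 hwt)) (hcomm.1 F.kt)) (hcomm.1 hwt))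
    · rw [← QuotientGroup.eq]
      simpa using hi
  set Z' := Z.map (cj Q w).toMonoidHom
  have hκpow : ∀ (j : ℕ) (z : Q), z ∈ Z → (F.tw.κ ^ j) z ∈ Z := by
    intro j z hz
    induction j with
    | zero => simpa using hz
    | succ j ih => rw [pow_succ', MulAut.mul_apply]; exact hZ.inv _ ih
  have hwfix : cj Q w F.tw.t = F.tw.t := Subtype.ext (by
    show (w : G) * L.t * (w : G)⁻¹ = L.t
    rw [hwt, mul_inv_cancel_right])
  have hZ' : F.tw.IsZ Z' := by
    refine ⟨?_, ?_, ?_⟩
    · rw [Subgroup.index_map_of_bijective (f := (cj Q w).toMonoidHom) (cj Q w).bijective, hZ.index]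
    · rintro ⟨z, hz, e⟩
      rw [show F.tw.t = cj Q w F.tw.t from hwfix.symm] at e
      exact hZ.tnot ((cj Q w).injective e ▸ hz)
    · rintro _ ⟨z, hz, rfl⟩
      refine ⟨cj Q (w⁻¹ * kk * w) z, ?_, ?_⟩
      · have e : w⁻¹ * kk * w = kk ^ i * ((kk ^ i)⁻¹ * (w⁻¹ * kk * w)) := by rw [mul_inv_cancel_left]
        rw [e, map_mul, MulAut.mul_apply, map_pow]
        refine hκpow i _ ?_
        have h1 := Z.mul_mem hz (Z.inv_mem (sqs_le_of_index_two hZ.index (hy0 z)))
        rwa [mul_inv_rev, inv_inv, mul_inv_cancel_left] at h1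
      · show cj Q w (cj Q (w⁻¹ * kk * w) z) = cj Q kk (cj Q w z)
        rw [← MulAut.mul_apply, ← map_mul, ← MulAut.mul_apply (M := Q), ← map_mul]
        congr 2
        group
  intro z hz
  rw [← hZ'.eq hZ]
  exact ⟨z, hz, rfl⟩

end Loc.Sys

namespace OCfg

variable {G : Type u} [Group G] [Finite G] (C : OCfg G)

theorem klein_false (h2 : ∀ H : Subgroup G, H.index ≠ 2) (S : Sylow 2 G) (hTS : C.T ≤ (S : Subgroup G))
    (hD : ∀ d ∈ C.D, ¬ IsConj C.t d) (htD : ∀ d ∈ C.D, d * d = 1 → IsConj C.t (C.t * d))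
    (hzS : ∀ s ∈ (S : Subgroup G), s * C.z = C.z * s) {x : G} (hxD : x ∈ C.D) (hx2 : x * x = 1) (hx1 : x ≠ 1)
    (hxz : x ≠ C.z) (hxS : ∀ s ∈ (S : Subgroup G), s * x * s⁻¹ = x ∨ s * x * s⁻¹ = x * C.z) (h8 : Nat.card C.D = 8)
    (hSx : 2 * Nat.card ↥((S : Subgroup G) ⊓ centralizer ({x} : Set G)) = Nat.card (S : Subgroup G)) : False := by
  classical
  haveI : Fact (Nat.Prime 2) := ⟨Nat.prime_two⟩
  obtain ⟨kv, hkt, hkx, hkz⟩ := C.four h8 x hxD hx2 hx1 hxz
  have hzx := C.zc x hxD
  have hxz1 : x * C.z ≠ 1 := fun e => hxz (by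
    rw [eq_inv_of_mul_eq_one_left e, inv_eq_of_mul_eq_one_right C.z2])
  have hkxz : kv * (x * C.z) * kv⁻¹ = x := by
    rw [OCfg.conj_mul', hkx, hkz, ← mul_assoc, ← hzx, mul_assoc, C.z2, mul_one]
  have hxz2 : x * C.z * (x * C.z) = 1 := by
    calc x * C.z * (x * C.z) = x * (C.z * x) * C.z := by group
      _ = x * x * (C.z * C.z) := by rw [← hzx]; group
      _ = 1 := by rw [hx2, C.z2, mul_one]
  let V : Subgroup G :=
    { carrier := {1, x, C.z, x * C.z}
      one_mem' := Or.inl rfl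
      mul_mem' := by
        have e1 : x * (x * C.z) = C.z := by rw [← mul_assoc, hx2, one_mul]
        have e2 : C.z * (x * C.z) = x := by rw [← mul_assoc, ← hzx, mul_assoc, C.z2, mul_one]
        have e3 : x * C.z * x = C.z := by rw [hzx, mul_assoc, hx2, mul_one]
        have e4 : x * C.z * C.z = x := by rw [mul_assoc, C.z2, mul_one]
        have e5 : x * C.z * (x * C.z) = 1 := by rw [← mul_assoc, e3, C.z2]
        rintro a b (rfl | rfl | rfl | rfl) (rfl | rfl | rfl | rfl) <;>
          simp only [one_mul, mul_one, hx2, C.z2, ← hzx, e1, e2, e3, e4, e5, Set.mem_insert_iff,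
            Set.mem_singleton_iff] <;> simp
      inv_mem' := by
        rintro a (rfl | rfl | rfl | rfl)
        · exact Or.inl inv_one
        · exact Or.inr (Or.inl (inv_eq_of_mul_eq_one_right hx2))
        · exact Or.inr (Or.inr (Or.inl (inv_eq_of_mul_eq_one_right C.z2)))
        · exact Or.inr (Or.inr (Or.inr (inv_eq_of_mul_eq_one_right hxz2))) }
  have hmV : ∀ a, a ∈ V ↔ a = 1 ∨ a = x ∨ a = C.z ∨ a = x * C.z := fun a => Iff.rfl
  have hVD : V ≤ C.D := by
    rintro a (rfl | rfl | rfl | rfl)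
    exacts [C.D.one_mem, hxD, C.zD, C.D.mul_mem hxD C.zD]
  have hV2 : ∀ a ∈ V, a * a = 1 := by
    rintro a (rfl | rfl | rfl | rfl)
    exacts [one_mul 1, hx2, C.z2, hxz2]
  have hVcard : Nat.card V = 4 := by
    have e : (V : Set G) = ↑({1, x, C.z, x * C.z} : Finset G) := Set.ext fun a => by
      simp only [SetLike.mem_coe, hmV, Finset.coe_insert, Finset.coe_singleton, Set.mem_insert_iff,
        Set.mem_singleton_iff]
    rw [← SetLike.coe_sort_coe, Nat.card_coe_set_eq, e, Set.ncard_coe_finset, Finset.card_insert_of_notMem,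
      Finset.card_insert_of_notMem, Finset.card_insert_of_notMem, Finset.card_singleton]
    · simp only [Finset.mem_singleton]
      exact fun e => hx1 (mul_eq_right.1 e.symm)
    · simp only [Finset.mem_insert, Finset.mem_singleton, not_or]
      exact ⟨hxz, fun e => C.z1 (mul_eq_left.1 e.symm)⟩
    · simp only [Finset.mem_insert, Finset.mem_singleton, not_or]
      exact ⟨Ne.symm hx1, Ne.symm C.z1, Ne.symm hxz1⟩
  have hSV : ∀ s ∈ (S : Subgroup G), ∀ a ∈ V, s * a * s⁻¹ ∈ V := by
    intro s hs a ha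
    have hz' : s * C.z * s⁻¹ = C.z := mul_inv_eq_iff_eq_mul.2 (hzS s hs)
    rcases (hmV a).1 ha with rfl | rfl | rfl | rfl
    · rw [mul_one, mul_inv_cancel]; exact V.one_mem
    · rcases hxS s hs with e | e <;> rw [e]
      · exact Or.inr (Or.inl rfl)
      · exact Or.inr (Or.inr (Or.inr rfl))
    · rw [hz']; exact Or.inr (Or.inr (Or.inl rfl))
    · rw [OCfg.conj_mul', hz']
      rcases hxS s hs with e | e <;> rw [e]
      · exact Or.inr (Or.inr (Or.inr rfl))
      · rw [mul_assoc, C.z2, mul_one]; exact Or.inr (Or.inl rfl)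
  have hkV : ∀ a ∈ V, kv * a * kv⁻¹ ∈ V := by
    intro a ha
    rcases (hmV a).1 ha with rfl | rfl | rfl | rfl
    · rw [mul_one, mul_inv_cancel]; exact V.one_mem
    · rw [hkx]; exact Or.inr (Or.inr (Or.inl rfl))
    · rw [hkz]; exact Or.inr (Or.inr (Or.inr rfl))
    · rw [hkxz]; exact Or.inr (Or.inl rfl)
  have htrans : ∀ a ∈ V, ∀ b ∈ V, a ≠ 1 → b ≠ 1 → ∃ i : ℕ, kv ^ i * a * (kv ^ i)⁻¹ = b := by
    have s1 : ∀ a : G, kv ^ 1 * a * (kv ^ 1)⁻¹ = kv * a * kv⁻¹ := fun a => by rw [pow_one]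
    have s2 : ∀ a : G, kv ^ 2 * a * (kv ^ 2)⁻¹ = kv * (kv * a * kv⁻¹) * kv⁻¹ := fun a => by rw [pow_two]; group
    intro a ha b hb ha1 hb1
    rcases (hmV a).1 ha with ea | ea | ea | ea <;> rcases (hmV b).1 hb with eb | eb | eb | eb <;>
      first
        | exact absurd ea ha1
        | exact absurd eb hb1
        | (refine ⟨0, ?_⟩; rw [ea, eb, pow_zero, one_mul, inv_one, mul_one]; done)
        | (refine ⟨1, ?_⟩; rw [s1, ea, eb]; first | exact hkx | exact hkz | exact hkxz)
        | (refine ⟨2, ?_⟩; simp only [s2, ea, eb, hkx, hkz, hkxz]; done)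
  -- centralizer of `V` in `T`
  have hCDx : ∀ d ∈ C.D, d * x = x * d → d ∈ V := by
    let X : Subgroup C.D := (centralizer ({x} : Set G)).subgroupOf C.D
    have hVX : V.subgroupOf C.D ≤ X := fun a ha => by
      rw [mem_subgroupOf, mem_centralizer_singleton_iff]
      show (a : G) * x = x * (a : G)
      rcases (hmV (a : G)).1 ha with e | e | e | e <;> rw [e]
      · rw [one_mul, mul_one]
      · exact hzx.symm
      · rw [mul_assoc, ← hzx]
    have h4 : Nat.card X = 4 := by
      have h1 : Nat.card X ∣ 8 := h8 ▸ Subgroup.card_subgroup_dvd_card X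
      have h2' : 4 ≤ Nat.card X := by
        rw [← hVcard, ← Nat.card_congr (Subgroup.subgroupOfEquivOfLe hVD).toEquiv]
        exact Subgroup.card_le_of_le hVX
      have h3 : Nat.card X ≠ 8 := by
        intro h
        have htop : X = ⊤ := Subgroup.eq_top_of_card_eq _ (h.trans h8.symm)
        rcases C.centre x hxD fun d hd => by
            have := htop ▸ Subgroup.mem_top (⟨d, hd⟩ : C.D)
            exact mem_centralizer_singleton_iff.1 this with e | e
        · exact hx1 e
        · exact hxz e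
      have : Nat.card X ≤ 8 := Nat.le_of_dvd (by norm_num) h1
      interval_cases (Nat.card X) <;> omega
    intro d hd hc
    have hX : X = V.subgroupOf C.D := (Subgroup.eq_of_le_of_card_ge hVX (by
      rw [h4, Nat.card_congr (Subgroup.subgroupOfEquivOfLe hVD).toEquiv, hVcard])).symm
    have hm : (⟨d, hd⟩ : C.D) ∈ X := mem_centralizer_singleton_iff.2 hc
    rw [hX] at hm
    exact hm
  have hxt : x * C.t = C.t * x := C.commD x hxD
  have hTV : ∀ y ∈ C.T, y * x = x * y → y ∈ V ∨ C.t * y ∈ V := by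
    intro y hy hc
    rcases (C.memT y).1 hy with h | h
    · exact Or.inl (hCDx y h hc)
    · refine Or.inr (hCDx _ h ?_)
      rw [mul_assoc, hc, ← mul_assoc, ← hxt, mul_assoc]
  have hxV : x ∈ V := Or.inr (Or.inl rfl)
  let T1 : Subgroup G := C.T ⊓ centralizer (V : Set G)
  have hT1 : ∀ y ∈ T1, y ∈ V ∨ C.t * y ∈ V := fun y hy =>
    hTV y hy.1 ((mem_centralizer_iff.1 hy.2 x hxV).symm)
  have hVcomm : ∀ a ∈ V, ∀ b ∈ V, a * b = b * a := fun a ha b hb => by
    have h := inv_eq_of_mul_eq_one_right (hV2 _ (V.mul_mem ha hb))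
    rw [mul_inv_rev, inv_eq_of_mul_eq_one_right (hV2 a ha), inv_eq_of_mul_eq_one_right (hV2 b hb)] at h
    exact h.symm
  -- the local configuration
  set Y := centralizer ({C.t} : Set G) ⊓ Subgroup.normalizer (V : Set G)
  let L : Loc G :=
    { t := C.t
      D := V
      tsq := C.tsq
      tnot := fun h => C.tnot (hVD h)
      sqD := hV2
      four := hVcard.ge
      commD := fun d hd => C.commD d (hVD hd)
      k := kv
      kt := hkt
      kD := hkV
      trans := htrans
      ncls := fun d hd => hD d (hVD hd)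
      small := by
        intro y hyt hyV hord
        set R := Subgroup.zpowers y ⊔ T1
        set X := centralizer ({C.t} : Set G) ⊓ centralizer (V : Set G)
        have hyT1 : ∀ a ∈ T1, y * a = a * y := by
          intro a ha
          rcases hT1 a ha with h | h
          · exact hyV a h
          · have h1 := hyV _ h
            rw [← mul_assoc, hyt, mul_assoc, mul_assoc] at h1
            exact mul_left_cancel h1
        have hR : IsPGroup 2 R := IsPGroup.to_sup_of_normal_right' (Full.pg_zpowers hord)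
          (C.full.pg.to_le inf_le_left) (Subgroup.zpowers_le.2 (Subgroup.mem_normalizer_fintype fun a ha => by
            rwa [hyT1 a ha, mul_inv_cancel_right]))
        have hRX : R ≤ X := sup_le (Subgroup.zpowers_le.2 ⟨mem_centralizer_singleton_iff.2 hyt,
          mem_centralizer_iff.2 fun a ha => (hyV a ha).symm⟩) fun a ha =>
            ⟨mem_centralizer_singleton_iff.2 (C.full.cent a ha.1), ha.2⟩
        have hXY : X ≤ Y := fun a ha => ⟨ha.1, Subgroup.centralizer_le_normalizer _ ha.2⟩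
        have hle := card_le_inf_of_normal Y hXY (fun g hg a ha => ⟨Subgroup.mul_mem _ (Subgroup.mul_mem _ hg.1 ha.1) (Subgroup.inv_mem _ hg.1),
            mem_centralizer_iff.2 fun b hb => by
              have hb' : g⁻¹ * b * g ∈ V := by
                have := (Subgroup.mem_normalizer_iff.1 (inv_mem hg.2) b).1 hb
                rwa [inv_inv] at this
              have h1 := mem_centralizer_iff.1 ha.2 _ hb'
              calc b * (g * a * g⁻¹) = g * ((g⁻¹ * b * g) * a) * g⁻¹ := by group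
                _ = g * a * g⁻¹ * b := by rw [h1]; group⟩)
          C.full.pg (fun a ha => ⟨mem_centralizer_singleton_iff.2 (C.full.cent a ha),
            Subgroup.mem_normalizer_fintype fun b hb => hSV a (hTS ha) b hb⟩)
          (fun P hP hPY => C.full.card_le hP fun a ha => mem_centralizer_singleton_iff.1 (hPY ha).1) hR hRX
        have hTX : C.T ⊓ X = T1 := le_antisymm (fun a ha => ⟨ha.1, ha.2.2⟩) fun a ha =>
          ⟨ha.1, mem_centralizer_singleton_iff.2 (C.full.cent a ha.1), ha.2⟩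
        rw [hTX] at hle
        have := Subgroup.eq_of_le_of_card_ge (le_sup_right : T1 ≤ R) hle
        exact hT1 y (this ▸ Subgroup.mem_sup_left (Subgroup.mem_zpowers y)) }
  have tcls : ∀ d ∈ L.D, IsConj L.t (L.t * d) := fun d hd => htD d (hVD hd) (hV2 d hd)
  obtain ⟨Q, k, F⟩ := Loc.exists_sys L
  obtain ⟨Z, hZ⟩ := (Tw.exists_isZ Q F.tw).1
  have htop : F.H = ⊤ := (F.dich hZ).resolve_right (F.not_full_four tcls hVcard hZ)
  -- a Sylow subgroup containing `Q` and normalising `V`
  have hQN : Q ≤ Subgroup.normalizer (V : Set G) := fun a ha =>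
    Subgroup.mem_normalizer_fintype fun d hd => by
      show a * d * a⁻¹ ∈ V
      rw [F.le a ha d hd, mul_inv_cancel_right]; exact hd
  obtain ⟨P, hP⟩ := (F.pg.of_injective (Subgroup.subgroupOfEquivOfLe hQN).toMonoidHom
    (MulEquiv.injective _) : IsPGroup 2 (Q.subgroupOf (Subgroup.normalizer (V : Set G)))).exists_le_sylow
  set S' : Subgroup G := (P : Subgroup (Subgroup.normalizer (V : Set G))).map (Subgroup.subtype _)
  have hS'pg : IsPGroup 2 S' := P.2.map _
  have hQS' : Q ≤ S' := fun a ha => ⟨⟨a, hQN ha⟩, hP ha, rfl⟩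
  have hS'N : S' ≤ Subgroup.normalizer (V : Set G) := Subgroup.map_subtype_le _
  obtain ⟨SG, hSG⟩ := hS'pg.exists_le_sylow
  have hS'card : Nat.card S' = Nat.card (S : Subgroup G) := by
    refine le_antisymm ((Subgroup.card_le_of_le hSG).trans (le_of_eq ?_)) ?_
    · rw [Sylow.card_eq_multiplicity, Sylow.card_eq_multiplicity]
    · obtain ⟨c, hc⟩ := IsPGroup.iff_card.1 S.2
      rw [Subgroup.card_map_of_injective (Subgroup.subtype_injective _), hc, Sylow.card_eq_multiplicity]
      refine Nat.pow_le_pow_right (by norm_num) ((Nat.prime_two.pow_dvd_iff_le_factorization Nat.card_pos.ne').1 ?_)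
      rw [← hc]
      exact Subgroup.card_dvd_of_le fun a ha => Subgroup.mem_normalizer_fintype fun b hb => hSV a ha b hb
  have hSGeq : (SG : Subgroup G) = S' := (Subgroup.eq_of_le_of_card_ge hSG (le_of_eq (by
    rw [hS'card, Sylow.card_eq_multiplicity, Sylow.card_eq_multiplicity]))).symm
  -- `Q` has index two in it
  have hQmax : ∀ P' : Subgroup G, IsPGroup 2 P' → P' ≤ centralizer (V : Set G) → Nat.card P' ≤ Nat.card Q := by
    intro P' hP' hle
    have hQC : Q ≤ centralizer (V : Set G) := fun a ha => mem_centralizer_iff.2 fun d hd => (F.le a ha d hd).symm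
    obtain ⟨R, hR⟩ := (F.pg.of_injective (Subgroup.subgroupOfEquivOfLe hQC).toMonoidHom
      (MulEquiv.injective _) : IsPGroup 2 (Q.subgroupOf (centralizer (V : Set G)))).exists_le_sylow
    obtain ⟨R', hR'⟩ := (hP'.of_injective (Subgroup.subgroupOfEquivOfLe hle).toMonoidHom
      (MulEquiv.injective _) : IsPGroup 2 (P'.subgroupOf (centralizer (V : Set G)))).exists_le_sylow
    have h1 := F.max _ (R.2.map (Subgroup.subtype _)) (fun a ha => ⟨⟨a, hQC ha⟩, hR ha, rfl⟩) (by
      rintro _ ⟨a, -, rfl⟩ d hd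
      exact (mem_centralizer_iff.1 a.2 d hd).symm)
    have h2 := Subgroup.card_le_of_le h1
    rw [Subgroup.card_map_of_injective (Subgroup.subtype_injective _), Sylow.card_eq_multiplicity] at h2
    have h3 := Subgroup.card_le_of_le hR'
    rw [Nat.card_congr (Subgroup.subgroupOfEquivOfLe hle).toEquiv, Sylow.card_eq_multiplicity] at h3
    exact h3.trans h2
  have hQlt : Q < S' := by
    refine lt_of_le_of_ne hQS' fun e => ?_
    obtain ⟨g, hg⟩ := MulAction.exists_smul_eq G SG S
    have hgS : ∀ a ∈ (S : Subgroup G), g⁻¹ * a * g ∈ Q := by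
      intro a ha
      rw [← hg, Sylow.coe_subgroup_smul] at ha
      have := (Subgroup.mem_pointwise_smul_iff_inv_smul_mem).1 ha
      rw [hSGeq, ← e] at this
      simpa [mul_assoc] using this
    have hcent : ∀ d ∈ V, d ≠ 1 → g * d * g⁻¹ = C.z := by
      intro d hd hd1
      have hd' : g * d * g⁻¹ ∈ (S : Subgroup G) := by
        rw [← hg, Sylow.coe_subgroup_smul]
        exact Subgroup.smul_mem_pointwise_smul d (MulAut.conj g) _ (hSG (hQS' (F.DQ hd)))
      have hc : ∀ a ∈ (S : Subgroup G), a * (g * d * g⁻¹) = g * d * g⁻¹ * a := by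
        intro a ha
        have h1 := F.le _ (hgS a ha) d hd
        calc a * (g * d * g⁻¹) = g * ((g⁻¹ * a * g) * d) * g⁻¹ := by group
          _ = g * d * g⁻¹ * a := by rw [h1]; group
      have hT : g * d * g⁻¹ ∈ C.T :=
        C.full.inter S.2 hTS hd' (hc _ (hTS C.tT)).symm
      have hne1 : g * d * g⁻¹ ≠ 1 := fun h => hd1 (conj_eq_one_iff.1 h)
      have hcl : ¬ IsConj C.t (g * d * g⁻¹) := fun h => hD d (hVD hd) (h.trans (isConj_iff.2 ⟨g⁻¹, by group⟩))
      rcases C.centT hT (fun d' hd' => hc d' (hTS (C.DT hd'))) with h | h | h | h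
      · exact absurd h hne1
      · exact absurd (h ▸ IsConj.refl C.t) hcl
      · exact h
      · exact absurd (h ▸ htD C.z C.zD C.z2) hcl
    have h1 := hcent x hxV hx1
    have h2 := hcent C.z (Or.inr (Or.inr (Or.inl rfl))) C.z1
    exact hxz (OCfg.conj_inj.1 (h1.trans h2.symm))
  have hS'2 : Nat.card S' = 2 * Nat.card Q := by
    obtain ⟨a, ha⟩ := IsPGroup.iff_card.1 hS'pg
    obtain ⟨b, hb⟩ := IsPGroup.iff_card.1 F.pg
    have hab : b < a := by
      by_contra h
      exact hQlt.ne (Subgroup.eq_of_le_of_card_ge hQS' (by rw [ha, hb]; exact Nat.pow_le_pow_right (by norm_num) (by omega)))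
    have hle : Nat.card S' ≤ 2 * Nat.card Q := by
      rw [hS'card, ← hSx]
      refine Nat.mul_le_mul_left _ (hQmax _ (S.2.to_le inf_le_left) fun a ha => mem_centralizer_iff.2 ?_)
      have hax : a * x = x * a := mem_centralizer_singleton_iff.1 ha.2
      intro d hd
      rcases (hmV d).1 hd with rfl | rfl | rfl | rfl
      · rw [one_mul, mul_one]
      · exact hax.symm
      · exact (hzS a ha.1).symm
      · rw [mul_assoc, ← hzS a ha.1, ← mul_assoc, ← hax, mul_assoc]
    rw [ha, hb, ← pow_succ'] at hle ⊢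
    have := (Nat.pow_le_pow_iff_right (le_refl 2)).1 hle
    rw [show a = b + 1 by omega]
  have hS'NQ : S' ≤ Subgroup.normalizer (Q : Set G) := by
    intro a ha
    have hn : (Q.subgroupOf S').Normal := Subgroup.normal_of_index_eq_two (by
      have e := (Q.subgroupOf S').card_mul_index
      rw [Nat.card_congr (Subgroup.subgroupOfEquivOfLe hQS').toEquiv, hS'2, mul_comm 2] at e
      exact Nat.eq_of_mul_eq_mul_left Nat.card_pos e)
    exact Subgroup.mem_normalizer_fintype fun b hb => hn.conj_mem ⟨b, hQS' hb⟩ hb ⟨a, ha⟩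
  -- the centralizer of `t` in `S'`
  set R := S' ⊓ centralizer ({C.t} : Set G) with hRdef
  obtain ⟨c, hc, hcT⟩ := C.full.max R (hS'pg.to_le inf_le_left) fun a ha => mem_centralizer_singleton_iff.1 ha.2
  obtain ⟨s, hs, hsQ⟩ := SetLike.exists_of_lt hQlt
  obtain ⟨p, hp, hps⟩ := F.exists_mul_cent htop ⟨s, hS'NQ hs⟩
  have hrR : p * s ∈ R := ⟨mul_mem (hQS' hp) hs, mem_centralizer_singleton_iff.2 hps⟩
  have hrQ : p * s ∉ Q := fun h => hsQ ((Subgroup.mul_mem_cancel_left _ hp).1 h)
  have hVR : ∀ a ∈ V, a ∈ R := fun a ha => ⟨hQS' (F.DQ ha), mem_centralizer_singleton_iff.2 (C.commD a (hVD ha))⟩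
  have htR : C.t ∈ R := ⟨hQS' F.tQ, mem_centralizer_singleton_iff.2 rfl⟩
  have hRT : R.map (MulAut.conj c).toMonoidHom = C.T := by
    refine Subgroup.eq_of_le_of_card_ge ?_ ?_
    · rintro _ ⟨a, ha, rfl⟩
      exact hcT a ha
    · rw [Subgroup.card_map_of_injective (MulEquiv.injective _), C.card_T, h8]
      let T0 : Subgroup G := Subgroup.zpowers C.t ⊔ V
      have hT0R : T0 < R := by
        refine lt_of_le_of_ne (sup_le (Subgroup.zpowers_le.2 htR) hVR) fun e => hrQ ?_
        exact (sup_le (Subgroup.zpowers_le.2 F.tQ) F.DQ : T0 ≤ Q) (show p * s ∈ T0 by rw [e]; exact hrR)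
      have hT0card : 8 ≤ Nat.card T0 := by
        have h1 : V < T0 := lt_of_le_of_ne le_sup_right fun e => C.tnot (hVD (e ▸
          Subgroup.mem_sup_left (Subgroup.mem_zpowers _)))
        have h2 := Subgroup.card_dvd_of_le h1.le
        have h3 : Nat.card V < Nat.card T0 := by
          by_contra h
          exact h1.ne (Subgroup.eq_of_le_of_card_ge h1.le (by omega))
        rw [hVcard] at h2 h3
        obtain ⟨q, hq⟩ := h2
        omega
      have h4 := Subgroup.card_dvd_of_le hT0R.le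
      have h5 : Nat.card T0 < Nat.card R := by
        by_contra h
        exact hT0R.ne (Subgroup.eq_of_le_of_card_ge hT0R.le (by omega))
      obtain ⟨q, hq⟩ := h4
      have : 2 ≤ q := by
        by_contra hq'
        interval_cases q <;> omega
      rw [hq]
      nlinarith
  obtain ⟨w0, hw0R, hw0, hw0Q⟩ : ∃ w ∈ R, w * w = 1 ∧ w ∉ Q := by
    by_contra hcon
    push Not at hcon
    have hpre : ∀ u ∈ C.T, u * u = 1 → c⁻¹ * u * c ∈ Q := by
      intro u hu hu2
      rw [← hRT] at hu
      obtain ⟨a, ha, rfl⟩ := hu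
      rw [show c⁻¹ * (MulAut.conj c).toMonoidHom a * c = a from
        (show c⁻¹ * (c * a * c⁻¹) * c = a by group)]
      refine hcon a ha ?_
      have : c * (a * a) * c⁻¹ = 1 := by rw [OCfg.conj_mul']; exact hu2
      exact conj_eq_one_iff.1 this
    have hTQ : C.T ≤ Q.map (MulAut.conj c).toMonoidHom := by
      have hgenD : C.D ≤ Q.map (MulAut.conj c).toMonoidHom := C.gen.trans ((Subgroup.closure_le _).2 fun d hd =>
        ⟨c⁻¹ * d * c, hpre d (C.DT hd.1) hd.2, show c * (c⁻¹ * d * c) * c⁻¹ = d by group⟩)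
      have ht : C.t ∈ Q.map (MulAut.conj c).toMonoidHom :=
        ⟨c⁻¹ * C.t * c, hpre C.t C.tT C.tsq, show c * (c⁻¹ * C.t * c) * c⁻¹ = C.t by group⟩
      intro u hu
      rcases (C.memT u).1 hu with h | h
      · exact hgenD h
      · rw [← C.tt_mul u]; exact mul_mem ht (hgenD h)
    obtain ⟨a, ha, e⟩ := hTQ (hcT _ hrR)
    exact hrQ ((MulAut.conj c).injective e ▸ ha)
  -- choose `w` not conjugate to `t`
  obtain ⟨w, hwR, hw2, hwQ, hwcls⟩ : ∃ w ∈ R, w * w = 1 ∧ w ∉ Q ∧ ¬ IsConj C.t w := by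
    by_cases hcls : IsConj C.t w0
    · have hw0t : w0 * C.t = C.t * w0 := mem_centralizer_singleton_iff.1 hw0R.2
      refine ⟨C.t * w0, mul_mem htR hw0R, ?_, fun h => hw0Q ?_, ?_⟩
      · rw [mul_assoc, ← mul_assoc w0, hw0t, mul_assoc C.t w0 w0, hw0, mul_one, C.tsq]
      · exact (Subgroup.mul_mem_cancel_left _ F.tQ).1 h
      · exact (C.rule hD htD (IsConj.refl _) hw0 hw0t (fun h => hw0Q (h ▸ Q.one_mem))
          (fun h => hw0Q (h ▸ F.tQ))).1 hcls
    · exact ⟨w0, hw0R, hw0, hw0Q, hcls⟩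
  have hwt : w * C.t = C.t * w := mem_centralizer_singleton_iff.1 hwR.2
  set wn : Subgroup.normalizer (Q : Set G) := ⟨w, hS'NQ hwR.1⟩
  have hwZ := F.Z_inv_cent tcls hVcard hZ (w := wn) hwt
  have hω2 : ∀ y, cj Q wn (cj Q wn y) = y := fun y => Subtype.ext (by
    show w * (w * (y : G) * w⁻¹) * w⁻¹ = y
    rw [inv_eq_of_mul_eq_one_right hw2, ← mul_assoc, ← mul_assoc, hw2, one_mul, mul_assoc, hw2, mul_one])
  have hfree : ∀ d ∈ F.tw.D, cj Q wn d = d → ∃ e ∈ F.tw.D, e⁻¹ * cj Q wn e = d := by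
    intro d hd hfix
    by_cases hd1 : d = 1
    · exact ⟨1, one_mem _, by rw [map_one, hd1, inv_one, one_mul]⟩
    obtain ⟨e0, he0, hmove⟩ : ∃ e ∈ F.tw.D, cj Q wn e ≠ e := by
      by_contra hc
      push Not at hc
      refine hwQ (F.max (Subgroup.zpowers w ⊔ Q) (hS'pg.to_le (sup_le (Subgroup.zpowers_le.2 hwR.1) hQS'))
        le_sup_right ?_ (Subgroup.mem_sup_left (Subgroup.mem_zpowers w)))
      intro a ha e he
      have hle : Subgroup.zpowers w ⊔ Q ≤ centralizer (V : Set G) := by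
        refine sup_le (Subgroup.zpowers_le.2 (mem_centralizer_iff.2 fun f hf => ?_))
          fun q hq => mem_centralizer_iff.2 fun f hf => (F.le q hq f hf).symm
        have := congrArg Subtype.val (hc ⟨f, F.DQ hf⟩ hf)
        exact (mul_inv_eq_iff_eq_mul.1 this).symm
      exact (mem_centralizer_iff.1 (hle ha) e he).symm
    refine ⟨e0, he0, ?_⟩
    set f := e0⁻¹ * cj Q wn e0 with hf
    have hfD : f ∈ F.tw.D := mul_mem (inv_mem he0) (F.normD tcls wn he0)
    have hffix : cj Q wn f = f := by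
      rw [hf, map_mul, map_inv, hω2, F.tw.invD he0, F.tw.invD (F.normD tcls wn he0)]
      exact F.tw.mul_commD (F.normD tcls wn he0) he0
    have hf1 : f ≠ 1 := fun h => hmove (inv_mul_eq_one.1 h).symm
    by_contra hne
    -- five elements in a group of order four
    haveI : Fintype F.tw.D := Fintype.ofFinite _
    have hc4 : Fintype.card F.tw.D = 4 := by rw [← Nat.card_eq_fintype_card, F.tw_card]; exact hVcard
    let g : Fin 5 → F.tw.D := ![1, ⟨d, hd⟩, ⟨f, hfD⟩, ⟨d * f, mul_mem hd hfD⟩, ⟨e0, he0⟩]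
    have hdf1 : d * f ≠ 1 := fun h => hne (by rw [eq_inv_of_mul_eq_one_right h, F.tw.invD hd])
    have hdffix : cj Q wn (d * f) = d * f := by rw [map_mul, hfix, hffix]
    have he1 : e0 ≠ 1 := fun h => hmove (by rw [h, map_one])
    have hed : e0 ≠ d := fun h => hmove (h ▸ hfix)
    have hef : e0 ≠ f := fun h => hmove (h.symm ▸ hffix)
    have hedf : e0 ≠ d * f := fun h => hmove (h.symm ▸ hdffix)
    have hinj : Function.Injective g := by
      intro i j hij
      have h' := congrArg (fun z : F.tw.D => (z : Q)) hij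
      have hdfd : d * f ≠ d := fun h => hf1 (mul_eq_left.1 h)
      have hdff : d * f ≠ f := fun h => hd1 (mul_eq_right.1 h)
      fin_cases i <;> fin_cases j <;> simp [g] at h' ⊢ <;>
        first
          | exact hd1 h'.symm | exact hd1 h' | exact hf1 h'.symm | exact hf1 h' | exact hdf1 h'.symm
          | exact hdf1 h' | exact he1 h'.symm | exact he1 h' | exact hne h'.symm | exact hne h'
          | exact hdfd h'.symm | exact hdfd h' | exact hdff h'.symm | exact hdff h'
          | exact hed h' | exact hed h'.symm | exact hef h' | exact hef h'.symm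
          | exact hedf h' | exact hedf h'.symm
    have := Fintype.card_le_of_injective g hinj
    rw [Fintype.card_fin, hc4] at this
    omega
  -- the subgroup `Z⟨w⟩`
  set Z0 := Z.map Q.subtype
  have hZ0Q : Z0 ≤ Q := Subgroup.map_subtype_le _
  let M : Subgroup G := Subgroup.zpowers w ⊔ Z0
  have hMS : M ≤ (SG : Subgroup G) := sup_le (Subgroup.zpowers_le.2 (hSG hwR.1)) (hZ0Q.trans (hQS'.trans hSG))
  have hwM : w ∈ M := Subgroup.mem_sup_left (Subgroup.mem_zpowers w)
  have hmemM : ∀ a, a ∈ M ↔ a ∈ Z0 ∨ w * a ∈ Z0 := by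
    intro a
    constructor
    · intro ha
      have hle : Subgroup.zpowers w ≤ Subgroup.normalizer (Z0 : Set G) := by
        rw [Subgroup.zpowers_le]
        refine Subgroup.mem_normalizer_fintype ?_
        rintro _ ⟨y, hy, rfl⟩
        exact ⟨cj Q wn y, hwZ y hy, rfl⟩
      have ha' : a ∈ ((Subgroup.zpowers w : Subgroup G) : Set G) * (Z0 : Set G) := by
        rw [← Subgroup.coe_mul_of_left_le_normalizer_right _ _ hle]; exact ha
      obtain ⟨_, ⟨i, rfl⟩, y, hy, rfl⟩ := Set.mem_mul.1 ha'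
      rcases Int.even_or_odd' i with ⟨j, rfl | rfl⟩
      · left; simp only [zpow_mul, zpow_two, hw2, one_zpow, one_mul]; exact hy
      · right
        simp only [zpow_add, zpow_mul, zpow_two, hw2, one_zpow, one_mul, zpow_one]
        rw [← mul_assoc, hw2, one_mul]; exact hy
    · rintro (h | h)
      · exact Subgroup.mem_sup_right h
      · have := M.mul_mem hwM (Subgroup.mem_sup_right h)
        rwa [← mul_assoc, hw2, one_mul] at this
  have hMcard : 2 * Nat.card M = Nat.card (SG : Subgroup G) := by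
    have hi : (Z0.subgroupOf M).index = 2 := by
      rw [Subgroup.index_eq_two_iff_exists_notMem_and']
      exact ⟨⟨w, hwM⟩, fun h => hwQ (hZ0Q h), fun b => ((hmemM b.1).1 b.2).symm⟩
    rw [hSGeq, hS'2, ← (Z0.subgroupOf M).card_mul_index, hi,
      Nat.card_congr (Subgroup.subgroupOfEquivOfLe (le_sup_right : Z0 ≤ M)).toEquiv,
      Subgroup.card_map_of_injective (Subgroup.subtype_injective _), ← Z.card_mul_index, hZ.index]
  obtain ⟨v, hvM, hv, -⟩ := exists_extremal h2 SG hMS hMcard C.tsq (c := 0) (by simp)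
  obtain ⟨g, hg⟩ := isConj_iff.1 hv
  rcases (hmemM v).1 hvM with h | h
  · -- inside `Z`
    obtain ⟨y, hy, rfl⟩ := h
    have hyD : y ∉ F.tw.D := fun hd => L.ncls _ hd hv
    have hbig := Tw.big Q F.tw Z hZ y hy hyD
    rw [F.tw_card, show Nat.card L.D = 4 from hVcard] at hbig
    set A := (centralizer ({y} : Set Q)).map Q.subtype
    obtain ⟨c', -, hc'T⟩ := C.full.max (A.map (MulAut.conj g⁻¹).toMonoidHom)
      (((F.pg.to_subgroup _).map _).map _) (by
        rintro _ ⟨_, ⟨a, ha, rfl⟩, rfl⟩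
        have h1 : (a : G) * y = y * a := congrArg Subtype.val (mem_centralizer_singleton_iff.1 ha)
        show g⁻¹ * (a : G) * g⁻¹⁻¹ * C.t = C.t * (g⁻¹ * (a : G) * g⁻¹⁻¹)
        calc _ = g⁻¹ * ((a : G) * (g * C.t * g⁻¹)) * g := by group
          _ = _ := by rw [hg]; show g⁻¹ * ((a : G) * y) * g = _; rw [h1, ← show g * C.t * g⁻¹ = (y : G) from hg]; group)
    let e : G →* G := (MulAut.conj c').toMonoidHom.comp (MulAut.conj g⁻¹).toMonoidHom
    have he : Function.Injective e := fun a b h => (MulAut.conj g⁻¹).injective ((MulAut.conj c').injective h)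
    have hAT : A.map e ≤ C.T := by
      rintro _ ⟨a, ha, rfl⟩
      exact hc'T _ ⟨a, ha, rfl⟩
    have hAcard : Nat.card (A.map e) = Nat.card (centralizer ({y} : Set Q)) := by
      rw [Subgroup.card_map_of_injective he, Subgroup.card_map_of_injective (Subgroup.subtype_injective _)]
    have hAeq : A.map e = C.T := Subgroup.eq_of_le_of_card_ge hAT (by
      rw [hAcard, C.card_T, h8]
      obtain ⟨j, hj⟩ := IsPGroup.iff_card.1 (F.pg.to_subgroup (centralizer ({y} : Set Q)))
      rw [hj] at hbig ⊢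
      by_contra hlt
      have h3 : j ≤ 3 := by
        by_contra h
        have := Nat.pow_le_pow_right (show 0 < 2 by norm_num) (show 4 ≤ j by omega)
        omega
      have := Nat.pow_le_pow_right (show 0 < 2 by norm_num) h3
      omega)
    -- eight central elements
    let f : F.tw.D × Bool → {u : G // u ∈ ({1, C.t, C.z, C.t * C.z} : Finset G)} := fun r =>
      ⟨e (((if r.2 then y else 1) * r.1.1 : Q) : G), by
        have hm : ((if r.2 then y else 1) * r.1.1 : Q) ∈ centralizer ({y} : Set Q) := by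
          refine mul_mem ?_ (mem_centralizer_singleton_iff.2 (F.tw.comm_left y r.1.2).symm)
          split
          · exact mem_centralizer_singleton_iff.2 rfl
          · exact one_mem _
        have hmT : e (((if r.2 then y else 1) * r.1.1 : Q) : G) ∈ C.T := hAT ⟨_, ⟨_, hm, rfl⟩, rfl⟩
        have hcent : ∀ d ∈ C.D, d * e (((if r.2 then y else 1) * r.1.1 : Q) : G) =
            e (((if r.2 then y else 1) * r.1.1 : Q) : G) * d := by
          intro d hd
          obtain ⟨_, ⟨b, hb, rfl⟩, rfl⟩ := (hAeq.symm ▸ C.DT hd : d ∈ A.map e)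
          rw [← map_mul, ← map_mul]
          congr 1
          show ((b * ((if r.2 then y else 1) * r.1.1) : Q) : G) = (((if r.2 then y else 1) * r.1.1) * b : Q)
          congr 1
          have hby : b * y = y * b := mem_centralizer_singleton_iff.1 hb
          have hbd := F.tw.comm_left b r.1.2
          split
          · rw [← mul_assoc, hby, mul_assoc, hbd, mul_assoc]
          · rw [one_mul, hbd]
        simp only [Finset.mem_insert, Finset.mem_singleton]
        exact C.centT hmT hcent⟩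
    have hfinj : Function.Injective f := by
      rintro ⟨a, s⟩ ⟨b, s'⟩ hab
      have h1 : (if s then y else 1) * a.1 = (if s' then y else 1) * b.1 :=
        Subtype.ext (he (congrArg Subtype.val hab))
      rcases s with _ | _ <;> rcases s' with _ | _
      · exact Prod.ext (Subtype.ext (by simpa using h1)) rfl
      · exact absurd (by
          have : y = a.1 * b.1⁻¹ := by simp at h1; rw [h1, mul_inv_cancel_right]
          rw [this]; exact mul_mem a.2 (inv_mem b.2)) hyD
      · exact absurd (by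
          have : y = b.1 * a.1⁻¹ := by simp at h1; rw [← h1, mul_inv_cancel_right]
          rw [this]; exact mul_mem b.2 (inv_mem a.2)) hyD
      · exact Prod.ext (Subtype.ext (by simpa using h1)) rfl
    have h1 := Nat.card_le_card_of_injective f hfinj
    rw [Nat.card_prod, Nat.card_eq_fintype_card (α := Bool), Fintype.card_bool, F.tw_card,
      show Nat.card L.D = 4 from hVcard, Nat.card_eq_finsetCard] at h1
    have := (Finset.card_le_four (a := (1 : G)) (b := C.t) (c := C.z) (d := C.t * C.z))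
    omega
  · -- in the other coset
    obtain ⟨y, hy, hye⟩ := h
    have hye' : (y : G) = w * v := hye
    have hv2 : v * v = 1 := by
      rw [← hg, ← OCfg.conj_mul', C.tsq]; group
    have hinv : cj Q wn y = y⁻¹ := Subtype.ext (by
      show w * (y : G) * w⁻¹ = (y : G)⁻¹
      rw [hye', mul_inv_rev, ← mul_assoc w w, hw2, one_mul, inv_eq_of_mul_eq_one_right hv2])
    obtain ⟨a, ha⟩ := Tw.twist Q F.tw Z hZ (cj Q wn) (Subtype.ext (by
      show w * C.t * w⁻¹ = C.t
      rw [hwt, mul_inv_cancel_right])) hwZ hω2 (fun d hd => F.normD tcls wn hd) hfree y hy hinv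
    have hvw : v = (w * (a : G)⁻¹) * w * (w * (a : G)⁻¹)⁻¹ := by
      have h1 : (a : G)⁻¹ * (w * (a : G) * w⁻¹) = w * v := by rw [← hye']; exact congrArg Subtype.val ha
      calc v = w * (w * v) := by rw [← mul_assoc, hw2, one_mul]
        _ = _ := by rw [← h1]; group
    exact hwcls (hv.trans (isConj_iff.2 ⟨(w * (a : G)⁻¹)⁻¹, by rw [hvw]; group⟩))

end OCfg

end Cfsg.Agent.TwoXDih
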