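import Cfsg.Agent.Lib.TwoXDih.Step
import Mathlib.GroupTheory.OrderOfElement

/-!
# The structure of `Q`
-/

set_option autoImplicit false
set_option linter.unusedSectionVars false
set_option linter.style.haveILetI false
set_option linter.unusedVariables false

namespace Cfsg.Agent.TwoXDih

universe u

theorem sqs_map {Q : Type u} [Group Q] (N : Subgroup Q) [N.Normal] :
    (sqs Q).map (QuotientGroup.mk' N) = sqs (Q ⧸ N) := by
  refine le_antisymm (Subgroup.map_le_iff_le_comap.2 ?_) ?_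
  · rw [sqs, Subgroup.closure_le]
    rintro _ ⟨x, rfl⟩
    exact sq_mem_sqs (QuotientGroup.mk' N x)
  · rw [sqs, Subgroup.closure_le]
    rintro _ ⟨y, rfl⟩
    obtain ⟨x, rfl⟩ := QuotientGroup.mk_surjective y
    exact ⟨x * x, sq_mem_sqs x, rfl⟩

namespace Tw

variable {Q : Type u} [Group Q] [Finite Q] (h : Tw Q)

theorem mem_flat (hf : h.Flat) (x : Q) : x ∈ h.D ∨ h.t * x ∈ h.D := (h.cent x).1 (hf x)

theorem sqs_flat (hf : h.Flat) : sqs Q = ⊥ := by
  rw [sqs, Subgroup.closure_eq_bot_iff]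
  rintro _ ⟨x, rfl⟩
  rcases h.mem_flat hf x with hx | hx
  · exact h.sqD x hx
  · have h2 := h.sqD _ hx
    rwa [mul_assoc, ← mul_assoc x, hf x, mul_assoc h.t x, ← mul_assoc, h.tsq, one_mul] at h2

theorem index_D_flat (hf : h.Flat) : h.D.index = 2 := by
  rw [Subgroup.index_eq_two_iff_exists_notMem_and']
  exact ⟨h.t, h.tnot, fun b => (h.mem_flat hf b).symm⟩

/-- An index two subgroup as constructed below. -/
structure IsZ (Z : Subgroup Q) : Prop where
  index : Z.index = 2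
  tnot : h.t ∉ Z
  inv : ∀ x ∈ Z, h.κ x ∈ Z

theorem IsZ.D_le {h : Tw Q} {Z : Subgroup Q} (hZ : h.IsZ Z) : h.D ≤ Z := by
  obtain ⟨a, ha, ha1, -⟩ := h.exists_ne h.D.one_mem
  obtain ⟨b, hb, hb1, hba⟩ := h.exists_ne ha
  by_cases haZ : a ∈ Z
  · exact h.D_le hZ.inv ha ha1 haZ
  by_cases hbZ : b ∈ Z
  · exact h.D_le hZ.inv hb hb1 hbZ
  refine h.D_le hZ.inv (h.D.mul_mem ha hb) ?_
    ((Subgroup.mul_mem_iff_of_index_two hZ.index).2 (iff_of_false haZ hbZ))
  rw [Ne, mul_eq_one_iff_eq_inv, h.invD hb]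
  exact fun e => hba e.symm

theorem IsZ.map {h : Tw Q} {Z : Subgroup Q} (hZ : h.IsZ Z) [h.D.Normal] (hnf : ¬ h.Flat) :
    (h.next hnf).IsZ (Z.map (QuotientGroup.mk' h.D)) := by
  have hker : (QuotientGroup.mk' h.D).ker ≤ Z := by rw [QuotientGroup.ker_mk']; exact hZ.D_le
  refine ⟨?_, ?_, ?_⟩
  · rw [Subgroup.index_map_eq _ (QuotientGroup.mk'_surjective _) hker, hZ.index]
  · rintro ⟨x, hx, e⟩
    exact hZ.tnot (by simpa using Z.mul_mem hx (hZ.D_le (QuotientGroup.eq.1 e)))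
  · rintro _ ⟨x, hx, rfl⟩
    exact ⟨h.κ x, hZ.inv x hx, rfl⟩

theorem exists_isZ : ∀ (Q : Type u) [Group Q] [Finite Q] (h : Tw Q),
    (∃ Z : Subgroup Q, h.IsZ Z) ∧ (sqs Q).index = 2 * Nat.card h.D := by
  refine Tw.induction ?_ ?_
  · intro Q _ _ h hf
    refine ⟨⟨h.D, h.index_D_flat hf, h.tnot, h.κD⟩, ?_⟩
    rw [h.sqs_flat hf, Subgroup.index_bot, ← Subgroup.card_mul_index h.D, h.index_D_flat hf, mul_comm]
  · rintro Q _ _ h _ hnf ⟨⟨Z, hZ⟩, hi⟩
    refine ⟨⟨Z.comap (QuotientGroup.mk' h.D), ?_, hZ.tnot, ?_⟩, ?_⟩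
    · rw [Subgroup.index_comap_of_surjective _ (QuotientGroup.mk'_surjective _), hZ.index]
    · intro x hx
      exact hZ.inv _ hx
    · rw [h.next_card hnf, ← sqs_map, Subgroup.index_map_eq _ (QuotientGroup.mk'_surjective _)
        (by rw [QuotientGroup.ker_mk']; exact h.D_le_sqs hnf)] at hi
      exact hi

/-- The preimage of `R / D`. -/
def R [h.D.Normal] : Subgroup Q := h.Rbar.comap (QuotientGroup.mk' h.D)

theorem R_le_P [h.D.Normal] : h.R ≤ h.P := by
  intro x hx
  obtain ⟨r, hr, e⟩ := h.exists_rep hx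
  have := h.P.mul_mem hr (h.comm_mem_P (h.commD (QuotientGroup.eq.1 e)))
  rwa [mul_inv_cancel_left] at this

theorem D_le_R [h.D.Normal] : h.D ≤ h.R := fun d hd => by
  show QuotientGroup.mk d ∈ h.Rbar
  rw [h.mk_eq_one.2 hd]
  exact h.Rbar.one_mem

theorem card_R [h.D.Normal] (hnf : ¬ h.Flat) : Nat.card h.R = Nat.card h.D * Nat.card h.D := by
  have h1 : h.R.index = h.Rbar.index :=
    Subgroup.index_comap_of_surjective _ (QuotientGroup.mk'_surjective _)
  have h2 := h.R.card_mul_index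
  have h3 := h.Rbar.card_mul_index
  rw [h1, Subgroup.card_eq_card_quotient_mul_card_subgroup h.D, ← h3, h.Rbar_bij hnf] at h2
  have h4 : 0 < h.Rbar.index := Nat.pos_of_ne_zero Subgroup.index_ne_zero_of_finite
  refine Nat.eq_of_mul_eq_mul_right h4 ?_
  rw [h2]
  ring

theorem c_D {x d : Q} (hd : d ∈ h.D) : h.c (x * d) = h.c x := by
  rw [h.c_mul (h.comm_mem_P (h.commD hd)), h.c_of_comm (h.commD hd), mul_one]

theorem c_eq_iff [h.D.Normal] {a b : Q} (ha : a ∈ h.R) (hb : b ∈ h.R) (e : h.c a = h.c b) :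
    ∃ d ∈ h.D, b = a * d := by
  refine ⟨a⁻¹ * b, h.Rbar_kernel (h.P.mul_mem (h.P.inv_mem (h.R_le_P ha)) (h.R_le_P hb))
    (h.R.mul_mem (h.R.inv_mem ha) hb) ?_, by group⟩
  have := h.c_mul (x := a) (h.P.mul_mem (h.P.inv_mem (h.R_le_P ha)) (h.R_le_P hb))
  rw [mul_inv_cancel_left, ← e] at this
  exact left_eq_mul.1 this

theorem κR [h.D.Normal] {x : Q} (hx : x ∈ h.R) : h.κ x ∈ h.R := by
  obtain ⟨p, hp, e⟩ := (show QuotientGroup.mk x ∈ h.Rbar from hx)
  refine ⟨h.κ p, h.κP hp, ?_⟩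
  show _ = QuotientGroup.mk (h.κ x)
  rw [← h.κbar_mk, ← e, h.κbar_mk, map_mul]

theorem κpowR [h.D.Normal] (i : ℕ) {x : Q} (hx : x ∈ h.R) : (h.κ ^ i) x ∈ h.R := by
  induction i with
  | zero => simpa using hx
  | succ i ih => rw [pow_succ', MulAut.mul_apply]; exact h.κR ih

theorem κpow_comm (i j : ℕ) (x : Q) : (h.κ ^ i) ((h.κ ^ j) x) = (h.κ ^ j) ((h.κ ^ i) x) := by
  rw [← MulAut.mul_apply, ← MulAut.mul_apply, ← pow_add, ← pow_add, add_comm]

/-- Squaring on `R` is the zero map or `κ ^ m` after the commutator with `t`. -/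
theorem sq_R [h.D.Normal] (hnf : ¬ h.Flat) :
    (∀ x ∈ h.R, x * x = 1) ∨ ∃ m : ℕ, ∀ x ∈ h.R, x * x = (h.κ ^ m) (h.c x) := by
  obtain ⟨d0, hd0, hd01, -⟩ := h.exists_ne h.D.one_mem
  obtain ⟨r, hr, hrR, hrc⟩ := h.Rbar_surj hnf hd0
  have key : ∀ x ∈ h.R, h.c x ≠ 1 → ∃ i : ℕ, ∃ d ∈ h.D, x = (h.κ ^ i) r * d ∧ (h.κ ^ i) d0 = h.c x := by
    intro x hx hx1
    obtain ⟨i, hi⟩ := h.trans d0 hd0 (h.c x) (h.R_le_P hx) hd01 hx1
    obtain ⟨d, hd, e⟩ := h.c_eq_iff (h.κpowR i hrR) hx (by rw [← h.κpowc, hrc, hi])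
    exact ⟨i, d, hd, e, hi⟩
  have hsq : ∀ x d : Q, d ∈ h.D → (x * d) * (x * d) = x * x := fun x d hd => by
    rw [mul_assoc, ← mul_assoc d, ← h.comm_left x hd, mul_assoc x d d, h.sqD d hd, mul_one]
  have h0 : ∀ x ∈ h.R, h.c x = 1 → x * x = 1 := fun x hx e =>
    h.sqD x (h.Rbar_kernel (h.R_le_P hx) hx e)
  by_cases hs : r * r = 1
  · left
    intro x hx
    by_cases hx1 : h.c x = 1
    · exact h0 x hx hx1
    obtain ⟨i, d, hd, rfl, -⟩ := key x hx hx1
    rw [hsq _ d hd, ← map_mul, hs, map_one]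
  · right
    obtain ⟨m, hm⟩ := h.trans d0 hd0 _ (h.sq_P hr) hd01 hs
    refine ⟨m, fun x hx => ?_⟩
    by_cases hx1 : h.c x = 1
    · rw [h0 x hx hx1, hx1, map_one]
    obtain ⟨i, d, hd, rfl, hi⟩ := key x hx hx1
    rw [hsq _ d hd, ← map_mul, ← hm, ← hi, h.κpow_comm i m]

theorem R_comm [h.D.Normal] (hnf : ¬ h.Flat) {a b : Q} (ha : a ∈ h.R) (hb : b ∈ h.R) :
    a * b = b * a := by
  have hmul : (a * b) * (a * b) = (a * a) * (b * b) := by
    rcases h.sq_R hnf with h1 | ⟨m, hm⟩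
    · rw [h1 a ha, h1 b hb, h1 _ (h.R.mul_mem ha hb), one_mul]
    · rw [hm a ha, hm b hb, hm _ (h.R.mul_mem ha hb), h.c_mul (h.R_le_P hb), map_mul]
  have e : a * (b * a) * b = a * (a * b) * b := by
    calc a * (b * a) * b = (a * b) * (a * b) := by group
      _ = (a * a) * (b * b) := hmul
      _ = a * (a * b) * b := by group
  exact (mul_left_cancel (mul_right_cancel e)).symm

/-- `x ↦ u x u⁻¹ x⁻¹` bounded by `D`. -/
theorem cent_bound {u : Q} (L : Subgroup Q) (hL : ∀ x ∈ L, x * u * x⁻¹ * u⁻¹ ∈ h.D) :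
    Nat.card L ≤ Nat.card h.D * Nat.card (Subgroup.centralizer ({u} : Set Q)) := by
  let f : L →* h.D :=
    { toFun := fun x => ⟨x.1 * u * x.1⁻¹ * u⁻¹, hL x.1 x.2⟩
      map_one' := Subtype.ext (by simp)
      map_mul' := fun x y => Subtype.ext (by
        have hy := h.comm_left x.1 (hL y.1 y.2)
        calc (x.1 * y.1) * u * (x.1 * y.1)⁻¹ * u⁻¹
            = (x.1 * (y.1 * u * y.1⁻¹ * u⁻¹)) * (u * x.1⁻¹ * u⁻¹) := by group
          _ = (y.1 * u * y.1⁻¹ * u⁻¹) * (x.1 * u * x.1⁻¹ * u⁻¹) := by rw [hy]; group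
          _ = (x.1 * u * x.1⁻¹ * u⁻¹) * (y.1 * u * y.1⁻¹ * u⁻¹) := h.mul_commD (hL y.1 y.2) (hL x.1 x.2)) }
  have h1 := f.ker.card_mul_index
  rw [Subgroup.index_ker] at h1
  have h2 : Nat.card f.ker ≤ Nat.card (Subgroup.centralizer ({u} : Set Q)) := by
    refine Nat.card_le_card_of_injective (fun x => ⟨x.1.1, Subgroup.mem_centralizer_singleton_iff.2 ?_⟩) ?_
    · have e : x.1.1 * u * x.1.1⁻¹ * u⁻¹ = 1 := congrArg Subtype.val (MonoidHom.mem_ker.1 x.2)
      rw [mul_inv_eq_one, mul_inv_eq_iff_eq_mul] at e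
      exact e
    · intro x y e
      have e' : x.1.1 = y.1.1 := Subtype.mk.inj e
      exact Subtype.ext (Subtype.ext e')
  have h3 : Nat.card f.range ≤ Nat.card h.D := Nat.card_le_card_of_injective _ Subtype.val_injective
  rw [← h1, mul_comm (Nat.card h.D)]
  exact Nat.mul_le_mul h2 h3

theorem card_comap_cent [h.D.Normal] (u : Q) :
    Nat.card ((Subgroup.centralizer ({(QuotientGroup.mk u : Q ⧸ h.D)} : Set (Q ⧸ h.D))).comap
      (QuotientGroup.mk' h.D)) =
    Nat.card h.D * Nat.card (Subgroup.centralizer ({(QuotientGroup.mk u : Q ⧸ h.D)} : Set (Q ⧸ h.D))) := by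
  set C := Subgroup.centralizer ({(QuotientGroup.mk u : Q ⧸ h.D)} : Set (Q ⧸ h.D))
  have h1 : (C.comap (QuotientGroup.mk' h.D)).index = C.index :=
    Subgroup.index_comap_of_surjective _ (QuotientGroup.mk'_surjective _)
  have h2 := (C.comap (QuotientGroup.mk' h.D)).card_mul_index
  have h3 := C.card_mul_index
  rw [h1, Subgroup.card_eq_card_quotient_mul_card_subgroup h.D, ← h3] at h2
  refine Nat.eq_of_mul_eq_mul_right (Nat.pos_of_ne_zero (Subgroup.index_ne_zero_of_finite (H := C))) ?_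
  rw [h2]
  ring

theorem cent_quot [h.D.Normal] (u : Q) :
    Nat.card (Subgroup.centralizer ({(QuotientGroup.mk u : Q ⧸ h.D)} : Set (Q ⧸ h.D))) ≤
      Nat.card (Subgroup.centralizer ({u} : Set Q)) := by
  have hb := h.cent_bound ((Subgroup.centralizer ({(QuotientGroup.mk u : Q ⧸ h.D)} : Set (Q ⧸ h.D))).comap
      (QuotientGroup.mk' h.D)) (u := u) fun x hx => by
    rw [Subgroup.mem_comap, Subgroup.mem_centralizer_singleton_iff] at hx
    rw [← h.mk_eq_one]
    simp only [QuotientGroup.mk'_apply] at hx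
    simp only [QuotientGroup.mk_mul, QuotientGroup.mk_inv]
    rw [hx]
    group
  rw [h.card_comap_cent] at hb
  exact Nat.le_of_mul_le_mul_left hb Nat.card_pos

/-- Elements of `Z` outside `D` have large centralisers. -/
theorem big : ∀ (Q : Type u) [Group Q] [Finite Q] (h : Tw Q) (Z : Subgroup Q), h.IsZ Z →
    ∀ u ∈ Z, u ∉ h.D → 2 * Nat.card h.D < Nat.card (Subgroup.centralizer ({u} : Set Q)) := by
  refine Tw.induction ?_ ?_
  · intro Q _ _ h hf Z hZ u hu huD
    have : h.D = Z := Subgroup.eq_of_le_of_card_ge hZ.D_le (le_of_eq (by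
      have e1 := Z.card_mul_index
      rw [hZ.index, ← Subgroup.card_mul_index h.D, h.index_D_flat hf] at e1
      omega))
    exact absurd (this ▸ hu) huD
  · intro Q _ _ h _ hnf ih Z hZ u hu huD
    by_cases hR : u ∈ h.R
    · have hle : h.R ≤ Subgroup.centralizer ({u} : Set Q) := fun r hr =>
        Subgroup.mem_centralizer_singleton_iff.2 (h.R_comm hnf hr hR)
      have h1 := Subgroup.card_le_of_le hle
      rw [h.card_R hnf] at h1
      have h4 := h.four
      nlinarith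
    · have h1 := ih _ (hZ.map hnf) (QuotientGroup.mk u) ⟨u, hu, rfl⟩ hR
      rw [h.next_card hnf] at h1
      exact h1.trans_le (h.cent_quot u)

/-- The class of `t`. -/
theorem isConj_of_sqs : ∀ (Q : Type u) [Group Q] [Finite Q] (h : Tw Q) (u : Q), h.t * u ∈ sqs Q →
    Nat.card (Subgroup.centralizer ({u} : Set Q)) ≤ 2 * Nat.card h.D → IsConj h.t u := by
  refine Tw.induction ?_ ?_
  · intro Q _ _ h hf u hu _
    rw [h.sqs_flat hf, Subgroup.mem_bot] at hu
    rw [eq_inv_of_mul_eq_one_right hu, h.invt]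
  · intro Q _ _ h _ hnf ih u hu hc
    have h1 := ih (QuotientGroup.mk u) (by
      rw [← sqs_map]; exact ⟨_, hu, rfl⟩) (by
      rw [h.next_card hnf]; exact (h.cent_quot u).trans hc)
    obtain ⟨y, hy⟩ := isConj_iff.1 h1
    obtain ⟨x, rfl⟩ := QuotientGroup.mk_surjective y
    have hy' : (QuotientGroup.mk (x * h.t * x⁻¹) : Q ⧸ h.D) = QuotientGroup.mk u := hy
    rw [QuotientGroup.eq] at hy'
    obtain ⟨p, hp, hpc⟩ := h.c_surj hnf hy'
    refine isConj_iff.2 ⟨x * p, ?_⟩
    calc (x * p) * h.t * (x * p)⁻¹ = x * (p * h.t * p⁻¹) * x⁻¹ := by group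
      _ = x * (h.t * h.c p) * x⁻¹ := by rw [h.conj_of_c hp]
      _ = x * h.t * x⁻¹ * (x * h.c p * x⁻¹) := by group
      _ = x * h.t * x⁻¹ * h.c p := by rw [h.comm_left x hp, mul_inv_cancel_right]
      _ = u := by rw [hpc]; group

/-- An automorphism of odd order fixing `t` and `D` is trivial. -/
theorem rigid : ∀ (Q : Type u) [Group Q] [Finite Q] (h : Tw Q) (o : MulAut Q) (k : ℕ), Odd k → o ^ k = 1 →
    o h.t = h.t → (∀ d ∈ h.D, o d = d) → ∀ x, o x = x := by
  refine Tw.induction ?_ ?_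
  · intro Q _ _ h hf o k _ _ ht hD x
    rcases h.mem_flat hf x with hx | hx
    · exact hD x hx
    · have := hD _ hx
      rw [map_mul, ht] at this
      exact mul_left_cancel this
  · intro Q _ _ h _ hnf ih o k hk hok ht hD x
    have hmap : h.D.map o.toMonoidHom = h.D := by
      refine le_antisymm ?_ fun d hd => ⟨d, hd, hD d hd⟩
      rintro _ ⟨d, hd, rfl⟩
      show o d ∈ h.D
      rw [hD d hd]; exact hd
    let ob : MulAut (Q ⧸ h.D) := QuotientGroup.congr h.D h.D o hmap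
    have hob : ∀ y : Q, ob (QuotientGroup.mk y) = QuotientGroup.mk (o y) := fun y => rfl
    have hobpow : ∀ (i : ℕ) (y : Q), (ob ^ i) (QuotientGroup.mk y) = QuotientGroup.mk ((o ^ i) y) := by
      intro i
      induction i with
      | zero => intro y; simp
      | succ i ihi => intro y; rw [pow_succ', MulAut.mul_apply, ihi, hob, pow_succ', MulAut.mul_apply]
    have hob1 : ob ^ k = 1 := by
      ext y
      obtain ⟨y, rfl⟩ := QuotientGroup.mk_surjective y
      rw [hobpow, hok]; rfl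
    have hobt : ob (QuotientGroup.mk h.t) = QuotientGroup.mk h.t := by rw [hob, ht]
    have hR : ∀ y ∈ (h.next hnf).D, ob y = y := by
      intro y hy
      obtain ⟨p, hp, rfl⟩ := h.exists_rep hy
      rw [hob]
      have hcp : h.c (o p) = h.c p := by
        have := hD _ hp
        unfold c at this ⊢
        simpa [map_mul, ht] using this
      have hop : o p ∈ h.P := by rw [mem_P, hcp]; exact hp
      have hm : h.c ((o p) * p) = 1 := by rw [h.c_mul hp, hcp]; exact h.sqD _ hp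
      rcases (h.cent _).1 (h.c_eq_one hm) with hd | hd
      · rw [← h.mk_eq_one, QuotientGroup.mk_mul, mul_eq_one_iff_eq_inv,
          inv_eq_of_mul_eq_one_right (h.mk_sqP hp)] at hd
        exact hd
      · exfalso
        have e : ob (QuotientGroup.mk p) = QuotientGroup.mk h.t * QuotientGroup.mk p := by
          rw [hob]
          rw [← h.mk_eq_one, QuotientGroup.mk_mul, QuotientGroup.mk_mul, ← mul_assoc, mul_eq_one_iff_eq_inv,
            inv_eq_of_mul_eq_one_right (h.mk_sqP hp)] at hd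
          have htt : (QuotientGroup.mk h.t : Q ⧸ h.D) * QuotientGroup.mk h.t = 1 := (h.next hnf).tsq
          have := congrArg ((QuotientGroup.mk h.t : Q ⧸ h.D) * ·) hd
          simpa [← mul_assoc, htt] using this
        have hpow : ∀ i : ℕ, (ob ^ (2 * i + 1)) (QuotientGroup.mk p) =
            QuotientGroup.mk h.t * QuotientGroup.mk p := by
          intro i
          induction i with
          | zero => simpa using e
          | succ i ihi =>
            rw [show 2 * (i + 1) + 1 = (2 * i + 1) + 2 by ring, add_comm, pow_add, MulAut.mul_apply, ihi,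
              pow_two, MulAut.mul_apply, map_mul, hobt, e, map_mul, hobt, map_mul, hobt, e, ← mul_assoc,
              ← mul_assoc]
            have htt : (QuotientGroup.mk h.t : Q ⧸ h.D) * QuotientGroup.mk h.t = 1 := (h.next hnf).tsq
            rw [htt, one_mul]
        obtain ⟨i, hi⟩ := hk
        have := hpow i
        rw [← hi, hob1] at this
        exact (h.next hnf).tnot (by
          have h1 : (QuotientGroup.mk h.t : Q ⧸ h.D) = 1 := by simpa using this
          show (h.next hnf).t ∈ (h.next hnf).D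
          rw [show (h.next hnf).t = 1 from h1]
          exact (h.next hnf).D.one_mem)
    have h1 := ih ob k hk hob1 hobt hR (QuotientGroup.mk x)
    rw [hob, QuotientGroup.eq] at h1
    set d := x⁻¹ * o x with hdd
    have hd : d ∈ h.D := by
      have e : (o x)⁻¹ * x = d⁻¹ := by rw [hdd]; group
      rw [e] at h1
      simpa using h.D.inv_mem h1
    have hox : o x = x * d := by rw [hdd]; group
    have hiter : ∀ i : ℕ, (o ^ (2 * i + 1)) x = x * d := by
      intro i
      induction i with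
      | zero => simpa using hox
      | succ i ihi =>
        rw [show 2 * (i + 1) + 1 = 2 + (2 * i + 1) by ring, pow_add, MulAut.mul_apply, ihi, pow_two,
          MulAut.mul_apply, map_mul, hox, hD d hd, mul_assoc, h.sqD d hd, mul_one, hox]
    obtain ⟨i, hi⟩ := hk
    have := hiter i
    rw [← hi, hok, MulAut.one_apply, left_eq_mul] at this
    rw [hox, this, mul_one]

/-- Twisting by an involutive automorphism free on `D`. -/
theorem twist : ∀ (Q : Type u) [Group Q] [Finite Q] (h : Tw Q) (Z : Subgroup Q), h.IsZ Z → ∀ ω : MulAut Q,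
    ω h.t = h.t → (∀ z ∈ Z, ω z ∈ Z) → (∀ x, ω (ω x) = x) → (∀ d ∈ h.D, ω d ∈ h.D) →
    (∀ d ∈ h.D, ω d = d → ∃ e ∈ h.D, e⁻¹ * ω e = d) →
    ∀ y ∈ Z, ω y = y⁻¹ → ∃ x, x⁻¹ * ω x = y := by
  refine Tw.induction ?_ ?_
  · intro Q _ _ h hf Z hZ ω ht _ _ _ hfree y hy hinv
    rcases h.mem_flat hf y with hd | hd
    · obtain ⟨e, he, hee⟩ := hfree y hd (by rw [hinv, h.invD hd])
      exact ⟨e, hee⟩
    · have := Z.mul_mem (hZ.D_le hd) (Z.inv_mem hy)
      rw [mul_inv_cancel_right] at this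
      exact absurd this hZ.tnot
  · intro Q _ _ h _ hnf ih Z hZ ω ht hωZ hω2 hωD hfree y hy hinv
    have hmap : h.D.map ω.toMonoidHom = h.D := by
      refine le_antisymm ?_ fun d hd => ⟨ω d, hωD d hd, hω2 d⟩
      rintro _ ⟨d, hd, rfl⟩
      exact hωD d hd
    let ob : MulAut (Q ⧸ h.D) := QuotientGroup.congr h.D h.D ω hmap
    have hob : ∀ y : Q, ob (QuotientGroup.mk y) = QuotientGroup.mk (ω y) := fun y => rfl
    have hωc : ∀ x, ω (h.c x) = h.c (ω x) := fun x => by unfold c; simp [map_mul, ht]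
    have hωP : ∀ x ∈ h.P, ω x ∈ h.P := fun x hx => by rw [mem_P, ← hωc]; exact hωD _ hx
    have hωR : ∀ r ∈ h.R, ω r ∈ h.R := by
      intro r hr
      by_cases hf' : (h.next hnf).Flat
      · have hZR : (h.next hnf).D = Z.map (QuotientGroup.mk' h.D) := by
          refine Subgroup.eq_of_le_of_card_ge (hZ.map hnf).D_le (le_of_eq ?_)
          have e1 := (Z.map (QuotientGroup.mk' h.D)).card_mul_index
          rw [(hZ.map hnf).index, ← Subgroup.card_mul_index (h.next hnf).D,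
            (h.next hnf).index_D_flat hf'] at e1
          omega
        show QuotientGroup.mk (ω r) ∈ h.Rbar
        have hr' : QuotientGroup.mk r ∈ Z.map (QuotientGroup.mk' h.D) := hZR ▸ hr
        obtain ⟨z, hz, e⟩ := hr'
        have : QuotientGroup.mk (ω r) ∈ Z.map (QuotientGroup.mk' h.D) :=
          ⟨ω z, hωZ z hz, by rw [← hob, ← e]; rfl⟩
        exact (SetLike.ext_iff.1 hZR _).2 this
      · have hc : (QuotientGroup.mk (ω r) : Q ⧸ h.D) ∈ Subgroup.center (Q ⧸ h.D) := by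
          rw [Subgroup.mem_center_iff]
          intro g
          have h1 := Subgroup.mem_center_iff.1 ((h.next hnf).D_central hr) (ob.symm g)
          have h2 := congrArg ob h1
          simp only [QuotientGroup.mk'_apply, map_mul, MulEquiv.apply_symm_apply, hob] at h2
          exact h2
        exact (h.next hnf).centre_le hf' hc
    have hfree' : ∀ r ∈ (h.next hnf).D, ob r = r → ∃ e ∈ (h.next hnf).D, e⁻¹ * ob e = r := by
      intro r hr hfix
      obtain ⟨a, ha, rfl⟩ := h.exists_rep hr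
      rw [hob, QuotientGroup.eq] at hfix
      have hca : ω (h.c a) = h.c a := by
        rw [hωc, ← h.c_D (x := ω a) hfix, mul_inv_cancel_left]
      obtain ⟨e, he, hee⟩ := hfree _ ha hca
      obtain ⟨b, hb, hbR, rfl⟩ := h.Rbar_surj hnf he
      refine ⟨_, hbR, ?_⟩
      rw [hob]
      have hmem : b⁻¹ * ω b ∈ h.R := h.R.mul_mem (h.R.inv_mem hbR) (hωR b hbR)
      have hcb : h.c (b⁻¹ * ω b) = h.c a := by
        have h1 := h.c_mul (x := b) (h.R_le_P hmem)
        rw [mul_inv_cancel_left, ← hωc] at h1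
        rw [← hee, h1, inv_mul_cancel_left]
      obtain ⟨d, hd, e⟩ := h.c_eq_iff hmem hr hcb
      rw [← QuotientGroup.mk_inv, ← QuotientGroup.mk_mul, QuotientGroup.eq]
      rw [e]
      rw [show (b⁻¹ * ω b)⁻¹ * (b⁻¹ * ω b * d) = d by group]
      exact hd
    obtain ⟨xb, hxb⟩ := ih _ (hZ.map hnf) ob (by show ob (QuotientGroup.mk h.t) = _; rw [hob, ht]; rfl)
      (by rintro _ ⟨z, hz, rfl⟩; exact ⟨ω z, hωZ z hz, rfl⟩)
      (fun q => by obtain ⟨q, rfl⟩ := QuotientGroup.mk_surjective q; rw [hob, hob, hω2])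
      (fun r hr => by obtain ⟨a, ha, rfl⟩ := h.exists_rep hr; exact hωR a hr) hfree'
      (QuotientGroup.mk y) ⟨y, hy, rfl⟩ (by rw [hob, hinv, QuotientGroup.mk_inv])
    obtain ⟨x, rfl⟩ := QuotientGroup.mk_surjective xb
    rw [hob, ← QuotientGroup.mk_inv, ← QuotientGroup.mk_mul, QuotientGroup.eq] at hxb
    -- `y` is the twist of `x` times an element of `D`
    set d := (x⁻¹ * ω x)⁻¹ * y with hd
    have hy' : y = x⁻¹ * ω x * d := by rw [hd]; group
    clear_value d
    have hfix : ω d = d := by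
      have e1 : ω y = (ω x)⁻¹ * x * ω d := by
        rw [hy', map_mul, map_mul, map_inv, hω2]
      have e2 : (x⁻¹ * ω x * d)⁻¹ = (ω x)⁻¹ * x * d := by
        rw [h.comm_left ((ω x)⁻¹ * x) hxb, mul_inv_rev, mul_inv_rev, inv_inv, h.invD hxb]
      rw [hinv, hy', e2] at e1
      exact (mul_left_cancel e1).symm
    obtain ⟨e, he, hee⟩ := hfree d hxb hfix
    refine ⟨x * e, ?_⟩
    rw [map_mul, mul_inv_rev, hy', ← hee]
    have hc1 := h.comm_left (x⁻¹ * ω x) (h.D.inv_mem he)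
    calc e⁻¹ * x⁻¹ * (ω x * ω e) = (e⁻¹ * (x⁻¹ * ω x)) * ω e := by group
      _ = ((x⁻¹ * ω x) * e⁻¹) * ω e := by rw [hc1]
      _ = _ := by group

end Tw

end Cfsg.Agent.TwoXDih
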