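import Cfsg.Agent.Lib.TwoXDih.Quot
import Mathlib.GroupTheory.Sylow

/-!
# A Sylow subgroup of `C(D)` invariant under an automorphism fixing `t`
-/

set_option autoImplicit false
set_option linter.unusedSectionVars false
set_option linter.style.haveILetI false
set_option linter.unusedVariables false

namespace Cfsg.Agent.TwoXDih

open Subgroup

universe u

namespace Tw

variable {Q : Type u} [Group Q] [Finite Q] (h : Tw Q)

theorem card_cent_t : Nat.card (centralizer ({h.t} : Set Q)) = 2 * Nat.card h.D := by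
  have hle : h.D ≤ centralizer ({h.t} : Set Q) := fun d hd =>
    mem_centralizer_singleton_iff.2 (h.commD hd)
  have hi : (h.D.subgroupOf (centralizer ({h.t} : Set Q))).index = 2 := by
    rw [Subgroup.index_eq_two_iff_exists_notMem_and']
    refine ⟨⟨h.t, mem_centralizer_singleton_iff.2 rfl⟩, h.tnot, fun b => ?_⟩
    exact ((h.cent b.1).1 (mem_centralizer_singleton_iff.1 b.2)).symm
  rw [← (h.D.subgroupOf (centralizer ({h.t} : Set Q))).card_mul_index, hi,
    Nat.card_congr (Subgroup.subgroupOfEquivOfLe hle).toEquiv, mul_comm]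

theorem card_cent_map (o : MulAut Q) :
    Nat.card (centralizer ({o h.t} : Set Q)) = 2 * Nat.card h.D := by
  rw [← h.card_cent_t]
  refine Nat.card_congr (((o.symm : Q ≃* Q).toEquiv).subtypeEquiv fun x => ?_)
  rw [mem_centralizer_singleton_iff]
  constructor
  · intro e
    have := congrArg o.symm e
    simp only [map_mul, MulEquiv.symm_apply_apply] at this
    exact mem_centralizer_singleton_iff.2 this
  · intro e
    have := congrArg o (mem_centralizer_singleton_iff.1 e)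
    simpa [map_mul] using this

/-- An image of `t` outside `D` lies outside `Z`. -/
theorem image_notMem {Z : Subgroup Q} (hZ : h.IsZ Z) (o : MulAut Q) (ho : o h.t ∉ h.D) : o h.t ∉ Z :=
  fun hm => by
    have := big Q h Z hZ _ hm ho
    rw [h.card_cent_map o] at this
    omega

theorem card_quot {Z : Subgroup Q} (hZ : h.IsZ Z) :
    Nat.card (Z.map (QuotientGroup.mk' (sqs Q))) = Nat.card h.D := by
  have e1 := (Z.map (QuotientGroup.mk' (sqs Q))).card_mul_index
  rw [Subgroup.index_map_eq _ (QuotientGroup.mk'_surjective _)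
    (by rw [QuotientGroup.ker_mk']; exact sqs_le_of_index_two hZ.index), hZ.index, ← Subgroup.index_eq_card,
    (exists_isZ Q h).2] at e1
  omega

/-- A saturated `κ`-invariant set meeting `Z ∖ sqs Q` covers it. -/
theorem orbit_full {Z : Subgroup Q} (hZ : h.IsZ Z) (W : Set Q)
    (hκ : ∀ y ∈ W, h.κ y ∈ W) (hsat : ∀ y ∈ W, ∀ s ∈ sqs Q, y * s ∈ W)
    {y : Q} (hy : y ∈ W) (hyZ : y ∈ Z) (hys : y ∉ sqs Q) :
    ∀ y' ∈ Z, y' ∉ sqs Q → y' ∈ W := by
  intro y' hy' hy's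
  obtain ⟨i, hi⟩ := trans_quot Q h Z hZ y hyZ hys y' hy' hy's
  have hp : ∀ j : ℕ, (h.κ ^ j) y ∈ W := by
    intro j
    induction j with
    | zero => simpa using hy
    | succ j ih => rw [pow_succ', MulAut.mul_apply]; exact hκ _ ih
  have := hsat _ (hp i) _ hi
  rwa [mul_inv_cancel_left] at this

end Tw

theorem mk_sqs_comm {Q : Type u} [Group Q] (a b : Q ⧸ sqs Q) : a * b = b * a := by
  have hsq : ∀ c : Q ⧸ sqs Q, c * c = 1 := fun c => by
    obtain ⟨x, rfl⟩ := QuotientGroup.mk_surjective c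
    exact (QuotientGroup.eq_one_iff (x * x)).2 (sq_mem_sqs x)
  have e := inv_eq_of_mul_eq_one_right (hsq (a * b))
  rw [mul_inv_rev, inv_eq_of_mul_eq_one_right (hsq a), inv_eq_of_mul_eq_one_right (hsq b)] at e
  exact e.symm

variable {G : Type u} [Group G] [Finite G]

/-- The local situation. -/
structure Loc (G : Type u) [Group G] where
  t : G
  D : Subgroup G
  tsq : t * t = 1
  tnot : t ∉ D
  sqD : ∀ d ∈ D, d * d = 1
  four : 4 ≤ Nat.card D
  commD : ∀ d ∈ D, d * t = t * d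
  k : G
  kt : k * t = t * k
  kD : ∀ d ∈ D, k * d * k⁻¹ ∈ D
  trans : ∀ d ∈ D, ∀ e ∈ D, d ≠ 1 → e ≠ 1 → ∃ i : ℕ, k ^ i * d * (k ^ i)⁻¹ = e
  small : ∀ x : G, x * t = t * x → (∀ d ∈ D, x * d = d * x) → (∃ n : ℕ, orderOf x = 2 ^ n) →
    x ∈ D ∨ t * x ∈ D
  ncls : ∀ d ∈ D, ¬ IsConj t d

namespace Loc

variable (L : Loc G)

theorem comm {d e : G} (hd : d ∈ L.D) (he : e ∈ L.D) : d * e = e * d := by
  have h := inv_eq_of_mul_eq_one_right (L.sqD _ (L.D.mul_mem hd he))
  rw [mul_inv_rev, inv_eq_of_mul_eq_one_right (L.sqD d hd), inv_eq_of_mul_eq_one_right (L.sqD e he)] at h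
  exact h.symm

/-- A `k`-invariant 2-subgroup of `C(D)` containing `t`. -/
structure Fit (Q : Subgroup G) (k : G) : Prop where
  le : ∀ x ∈ Q, ∀ d ∈ L.D, x * d = d * x
  pg : IsPGroup 2 Q
  tQ : L.t ∈ Q
  DQ : L.D ≤ Q
  kt : k * L.t = L.t * k
  kQ : k ∈ Subgroup.normalizer (Q : Set G)
  agree : ∀ d ∈ L.D, k * d * k⁻¹ = L.k * d * L.k⁻¹

variable {L} {Q : Subgroup G} {k : G}

theorem Fit.kD (F : L.Fit Q k) {d : G} (hd : d ∈ L.D) : k * d * k⁻¹ ∈ L.D := by
  rw [F.agree d hd]; exact L.kD d hd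

theorem Fit.pow_agree (F : L.Fit Q k) (i : ℕ) {d : G} (hd : d ∈ L.D) :
    k ^ i * d * (k ^ i)⁻¹ = L.k ^ i * d * (L.k ^ i)⁻¹ ∧ L.k ^ i * d * (L.k ^ i)⁻¹ ∈ L.D := by
  induction i with
  | zero => simpa using hd
  | succ i ih =>
    have e : ∀ a : G, a ^ (i + 1) * d * (a ^ (i + 1))⁻¹ = a * (a ^ i * d * (a ^ i)⁻¹) * a⁻¹ := fun a => by
      rw [pow_succ']; group
    rw [e, e, ih.1, F.agree _ ih.2]
    exact ⟨rfl, L.kD _ ih.2⟩

/-- Conjugation by an element of the normalizer. -/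
abbrev cj (Q : Subgroup G) : Subgroup.normalizer (Q : Set G) →* MulAut Q := Q.normalizerMonoidHom

theorem cj_apply (Q : Subgroup G) (n : Subgroup.normalizer (Q : Set G)) (x : Q) :
    (cj Q n x : G) = (n : G) * x * (n : G)⁻¹ := rfl

theorem cj_pow (Q : Subgroup G) (n : Subgroup.normalizer (Q : Set G)) (i : ℕ) (x : Q) :
    ((cj Q n ^ i) x : G) = (n : G) ^ i * x * ((n : G) ^ i)⁻¹ := by
  rw [← map_pow]; rfl

/-- The associated tower. -/
noncomputable def Fit.tw (F : L.Fit Q k) : Tw Q where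
  t := ⟨L.t, F.tQ⟩
  D := L.D.subgroupOf Q
  κ := cj Q ⟨k, F.kQ⟩
  pgroup := F.pg
  tsq := Subtype.ext L.tsq
  tnot := L.tnot
  κt := Subtype.ext (by rw [cj_apply]; show k * L.t * k⁻¹ = L.t; rw [F.kt, mul_inv_cancel_right])
  κD := fun d hd => by
    show (cj Q ⟨k, F.kQ⟩ d : G) ∈ L.D
    rw [cj_apply]; exact F.kD hd
  sqD := fun d hd => Subtype.ext (L.sqD _ hd)
  four := by rw [Nat.card_congr (Subgroup.subgroupOfEquivOfLe F.DQ).toEquiv]; exact L.four
  cent := fun x => by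
    constructor
    · intro e
      obtain ⟨n, hn⟩ := F.pg x
      obtain ⟨m, -, hm⟩ := (Nat.dvd_prime_pow Nat.prime_two).1 (orderOf_dvd_of_pow_eq_one hn)
      exact L.small x.1 (congrArg Subtype.val e) (F.le x.1 x.2) ⟨m, by rw [← Subgroup.orderOf_coe] at hm; exact hm⟩
    · rintro (hx | hx)
      · exact Subtype.ext (L.commD _ hx)
      · have hx' : L.t * (x : G) ∈ L.D := hx
        have := L.commD _ hx'
        rw [mul_assoc] at this
        exact Subtype.ext (mul_left_cancel this)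
  trans := fun d hd e he hd1 he1 => by
    obtain ⟨i, hi⟩ := L.trans d hd e he (fun h => hd1 (Subtype.ext h)) (fun h => he1 (Subtype.ext h))
    refine ⟨i, Subtype.ext ?_⟩
    rw [cj_pow]; exact (F.pow_agree i hd).1.trans hi

theorem Fit.tw_card (F : L.Fit Q k) : Nat.card F.tw.D = Nat.card L.D :=
  Nat.card_congr (Subgroup.subgroupOfEquivOfLe F.DQ).toEquiv

theorem Fit.image_notD (F : L.Fit Q k) (n : Subgroup.normalizer (Q : Set G)) :
    cj Q n F.tw.t ∉ F.tw.D := fun hd =>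
  L.ncls _ hd (isConj_iff.2 ⟨(n : G), rfl⟩)

/-- An element fixing the coset of `t` is, up to `Q`, in the centralizer of `t`. -/
theorem Fit.fix_coset (F : L.Fit Q k) (n : Subgroup.normalizer (Q : Set G))
    (hn : F.tw.t * cj Q n F.tw.t ∈ sqs Q) : ∃ p ∈ Q, (p * (n : G)) * L.t = L.t * (p * (n : G)) := by
  obtain ⟨p, hp⟩ := isConj_iff.1 (Tw.isConj_of_sqs Q F.tw _ hn (by rw [F.tw.card_cent_map]))
  refine ⟨(p : G)⁻¹, Q.inv_mem p.2, ?_⟩
  have h1 : (p : G) * L.t * (p : G)⁻¹ = (n : G) * L.t * (n : G)⁻¹ := congrArg Subtype.val hp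
  calc (p : G)⁻¹ * (n : G) * L.t = (p : G)⁻¹ * ((n : G) * L.t * (n : G)⁻¹) * n := by group
    _ = L.t * ((p : G)⁻¹ * n) := by rw [← h1]; group

/-- The coset of `t * (n t n⁻¹)`. -/
noncomputable def Fit.cl (F : L.Fit Q k) (n : Subgroup.normalizer (Q : Set G)) : Q ⧸ sqs Q :=
  QuotientGroup.mk (F.tw.t * cj Q n F.tw.t)

theorem Fit.cl_eq (F : L.Fit Q k) {m n : Subgroup.normalizer (Q : Set G)} (e : F.cl m = F.cl n) :
    F.tw.t * cj Q (m⁻¹ * n) F.tw.t ∈ sqs Q := by
  unfold Fit.cl at e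
  rw [QuotientGroup.mk_mul, QuotientGroup.mk_mul, mul_left_cancel_iff, QuotientGroup.eq] at e
  have h1 := sqs_inv (cj Q m⁻¹) e
  rw [map_mul, map_inv, ← MulAut.mul_apply, ← map_mul, ← MulAut.mul_apply, ← map_mul,
    inv_mul_cancel, map_one, MulAut.one_apply, F.tw.invt] at h1
  exact h1

/-- Image of the coset map. -/
theorem Fit.cl_mem (F : L.Fit Q k) {Z : Subgroup Q} (hZ : F.tw.IsZ Z) (n : Subgroup.normalizer (Q : Set G)) :
    F.cl n ∈ Z.map (QuotientGroup.mk' (sqs Q)) :=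
  ⟨_, (Subgroup.mul_mem_iff_of_index_two hZ.index).2
    (iff_of_false hZ.tnot (F.tw.image_notMem hZ _ (F.image_notD n))), rfl⟩

/-- The invariance of the coset set of a `k`-invariant group. -/
theorem Fit.cl_full (F : L.Fit Q k) {Z : Subgroup Q} (hZ : F.tw.IsZ Z)
    (N : Subgroup (Subgroup.normalizer (Q : Set G)))
    (hk : ∀ n ∈ N, ⟨k, F.kQ⟩ * n * (⟨k, F.kQ⟩ : Subgroup.normalizer (Q : Set G))⁻¹ ∈ N)
    (hne : ∃ n ∈ N, F.cl n ≠ 1) :
    ∀ y ∈ Z.map (QuotientGroup.mk' (sqs Q)), ∃ n ∈ N, F.cl n = y := by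
  rintro _ ⟨y, hy, rfl⟩
  by_cases hys : y ∈ sqs Q
  · refine ⟨1, N.one_mem, ?_⟩
    show QuotientGroup.mk (F.tw.t * cj Q 1 F.tw.t) = QuotientGroup.mk y
    rw [map_one, MulAut.one_apply, F.tw.tsq, (QuotientGroup.eq_one_iff y).2 hys]
    rfl
  obtain ⟨n0, hn0, hne⟩ := hne
  have hm := (Subgroup.mul_mem_iff_of_index_two hZ.index).2
    (iff_of_false hZ.tnot (F.tw.image_notMem hZ _ (F.image_notD n0)))
  refine F.tw.orbit_full hZ {y | ∃ n ∈ N, F.cl n = QuotientGroup.mk y} ?_ ?_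
    (y := F.tw.t * cj Q n0 F.tw.t) ⟨n0, hn0, rfl⟩ hm ?_ y hy hys
  · rintro y ⟨n, hn, e⟩
    refine ⟨_, hk n hn, ?_⟩
    unfold Fit.cl at e ⊢
    rw [QuotientGroup.eq] at e ⊢
    have h1 := sqs_inv F.tw.κ e
    rw [map_mul, map_inv, map_mul, F.tw.κt] at h1
    have e2 : cj Q (⟨k, F.kQ⟩ * n * (⟨k, F.kQ⟩ : Subgroup.normalizer (Q : Set G))⁻¹) F.tw.t =
        F.tw.κ (cj Q n F.tw.t) := by
      have hk1 : cj Q (⟨k, F.kQ⟩ : Subgroup.normalizer (Q : Set G))⁻¹ F.tw.t = F.tw.t := by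
        have hh : cj Q ⟨k, F.kQ⟩ F.tw.t = F.tw.t := F.tw.κt
        conv_lhs => rw [← hh]
        rw [← MulAut.mul_apply, ← map_mul, inv_mul_cancel, map_one, MulAut.one_apply]
      rw [map_mul, map_mul, MulAut.mul_apply, MulAut.mul_apply, hk1]
      rfl
    rw [e2]
    exact h1
  · rintro y ⟨n, hn, e⟩ s hs
    exact ⟨n, hn, by rw [e, QuotientGroup.mk_mul, (QuotientGroup.eq_one_iff s).2 hs, mul_one]⟩
  · exact fun hs => hne ((QuotientGroup.eq_one_iff _).2 hs)

theorem card_pow_two (L : Loc G) : ∃ n, Nat.card L.D = 2 ^ n := by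
  haveI : Fact (Nat.Prime 2) := ⟨Nat.prime_two⟩
  exact IsPGroup.iff_card.1 (fun d : L.D => ⟨1, Subtype.ext (by
    show ((d : G)) ^ (2 ^ 1) = 1
    rw [pow_one, pow_two, L.sqD _ d.2])⟩)

/-- A fit pair which is not maximal extends. -/
theorem Fit.extend (F : L.Fit Q k) {P : Subgroup G} (hP : IsPGroup 2 P) (hQP : Q < P)
    (hPC : ∀ x ∈ P, ∀ d ∈ L.D, x * d = d * x) : ∃ R k', L.Fit R k' ∧ Q < R := by
  haveI : Fact (Nat.Prime 2) := ⟨Nat.prime_two⟩
  haveI := hP.isNilpotent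
  set C : Subgroup G := centralizer (L.D : Set G) with hC
  have hmC : ∀ x : G, x ∈ C ↔ ∀ d ∈ L.D, x * d = d * x := fun x => by
    rw [hC, mem_centralizer_iff]; exact ⟨fun h d hd => (h d hd).symm, fun h d hd => (h d hd).symm⟩
  set NQ := Subgroup.normalizer (Q : Set G)
  set N : Subgroup NQ := C.subgroupOf NQ with hN
  let kk : NQ := ⟨k, F.kQ⟩
  have hkN : ∀ n ∈ N, kk * n * kk⁻¹ ∈ N := by
    intro n hn
    rw [hN, mem_subgroupOf, hmC]
    have hn' : ∀ d ∈ L.D, (n : G) * d = d * (n : G) := (hmC _).1 hn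
    have hkDeq : ∀ d ∈ L.D, ∃ e ∈ L.D, d = k * e * k⁻¹ := by
      intro d hd
      have hsur : Function.Surjective (fun e : L.D => (⟨k * e * k⁻¹, F.kD e.2⟩ : L.D)) :=
        Finite.injective_iff_surjective.1 fun a b e => by
          have e' : k * (a : G) * k⁻¹ = k * (b : G) * k⁻¹ := congrArg Subtype.val e
          exact Subtype.ext (mul_left_cancel (mul_right_cancel e'))
      obtain ⟨⟨e, he⟩, hee⟩ := hsur ⟨d, hd⟩
      exact ⟨e, he, (congrArg Subtype.val hee).symm⟩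
    intro d hd
    obtain ⟨e, he, rfl⟩ := hkDeq d hd
    show k * (n : G) * k⁻¹ * (k * e * k⁻¹) = k * e * k⁻¹ * (k * (n : G) * k⁻¹)
    calc _ = k * ((n : G) * e) * k⁻¹ := by group
      _ = _ := by rw [hn' e he]; group
  obtain ⟨Z, hZ⟩ := (Tw.exists_isZ Q F.tw).1
  set ZZ := Z.map (QuotientGroup.mk' (sqs Q))
  have hZZ : Nat.card ZZ = Nat.card L.D := (F.tw.card_quot hZ).trans F.tw_card
  -- a 2-subgroup of `N` strictly above `Q`
  set Q' : Subgroup N := ((Q.subgroupOf NQ)).subgroupOf N with hQ'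
  have hQN : ∀ x ∈ Q, x ∈ NQ := fun x hx => le_normalizer hx
  have hQ'pg : IsPGroup 2 Q' := F.pg.of_injective
    ({ toFun := fun x => ⟨x.1.1.1, x.2⟩
       map_one' := rfl
       map_mul' := fun _ _ => rfl } : Q' →* Q)
    fun a b e => Subtype.ext (Subtype.ext (Subtype.ext (congrArg (fun w : Q => (w : G)) e)))
  obtain ⟨R, hR⟩ := hQ'pg.exists_le_sylow
  have hQcard : Nat.card Q' = Nat.card Q := Nat.card_congr
    { toFun := fun x => ⟨x.1.1.1, x.2⟩
      invFun := fun x => ⟨⟨⟨x.1, hQN _ x.2⟩, (hmC _).2 (F.le _ x.2)⟩, x.2⟩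
      left_inv := fun _ => rfl
      right_inv := fun _ => rfl }
  -- an element of `N` moving the coset
  have hfixQ : ∀ n : NQ, (n : G) ∈ C → (∃ m : ℕ, orderOf (n : G) = 2 ^ m) → F.cl n = 1 →
      ∀ p : G, p ∈ Q → (∃ m : ℕ, orderOf (p * (n : G)) = 2 ^ m) →
      (p * (n : G)) * L.t = L.t * (p * n) → (n : G) ∈ Q := by
    intro n hn _ _ p hp hord hc
    have := L.small _ hc (fun d hd => by
      rw [mul_assoc, (hmC _).1 hn d hd, ← mul_assoc, F.le p hp d hd, mul_assoc]) hord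
    rcases this with h | h
    · have := Q.mul_mem (Q.inv_mem hp) (F.DQ h)
      rwa [inv_mul_cancel_left] at this
    · have := Q.mul_mem (Q.inv_mem hp) (Q.mul_mem (Q.inv_mem F.tQ) (F.DQ h))
      rwa [inv_mul_cancel_left, inv_mul_cancel_left] at this
  have hstab : ∀ S : Subgroup G, IsPGroup 2 S → Q ≤ S → ∀ n : NQ, (n : G) ∈ S → (n : G) ∈ C →
      F.cl n = 1 → (n : G) ∈ Q := by
    intro S hS hQS n hnS hnC hcl
    obtain ⟨p, hp, hpn⟩ := F.fix_coset n ((QuotientGroup.eq_one_iff _).1 hcl)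
    have hord : ∀ x ∈ S, ∃ m : ℕ, orderOf x = 2 ^ m := fun x hx => by
      obtain ⟨m, hm⟩ := hS ⟨x, hx⟩
      obtain ⟨j, -, hj⟩ := (Nat.dvd_prime_pow Nat.prime_two).1 (orderOf_dvd_of_pow_eq_one hm)
      exact ⟨j, by rw [← hj]; exact Subgroup.orderOf_mk x hx ▸ rfl⟩
    exact hfixQ n hnC (hord _ hnS) hcl p hp (hord _ (S.mul_mem (hQS hp) hnS)) hpn
  have hne : ∃ n ∈ N, F.cl n ≠ 1 := by
    obtain ⟨x, hxN, hxQ⟩ := SetLike.exists_of_lt (Group.normalizerCondition_of_isNilpotent (Q.subgroupOf P)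
      (lt_top_iff_ne_top.2 fun e => hQP.not_ge (Subgroup.subgroupOf_eq_top.1 e)))
    have hxNQ : (x : G) ∈ NQ := by
      refine Subgroup.mem_normalizer_fintype fun y hy => ?_
      exact (Subgroup.mem_normalizer_iff.1 hxN ⟨y, hQP.le hy⟩).1 hy
    exact ⟨⟨x, hxNQ⟩, (hmC _).2 (hPC _ x.2), fun e =>
      hxQ (hstab P hP hQP.le ⟨x, hxNQ⟩ x.2 ((hmC _).2 (hPC _ x.2)) e)⟩
  have hfull := F.cl_full hZ N hkN hne
  -- count
  have hQfix : ∀ n ∈ N, ∀ p ∈ Q', F.cl (n * (p : N).1) = F.cl n := by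
    intro n _ p hp
    unfold Fit.cl
    rw [QuotientGroup.mk_mul, QuotientGroup.mk_mul, mul_left_cancel_iff, map_mul, MulAut.mul_apply,
      QuotientGroup.eq, ← map_inv, ← map_mul]
    refine sqs_inv _ ?_
    rw [← QuotientGroup.eq_one_iff]
    have e : cj Q (p : N).1 F.tw.t = (⟨_, hp⟩ : Q) * F.tw.t * (⟨_, hp⟩ : Q)⁻¹ := rfl
    rw [e]
    simp only [QuotientGroup.mk_mul, QuotientGroup.mk_inv]
    rw [mk_sqs_comm (QuotientGroup.mk (⟨_, hp⟩ : Q)) (QuotientGroup.mk F.tw.t), mul_inv_cancel_right,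
      inv_mul_cancel]
  have hNdvd : Nat.card L.D * Nat.card Q ∣ Nat.card N := by
    have hpick : ∀ y : ZZ, ∃ n ∈ N, F.cl n = y.1 := fun y => hfull y.1 y.2
    choose pick hpN hpy using hpick
    let H : Subgroup N :=
      { carrier := {n | F.tw.t * cj Q n.1 F.tw.t ∈ sqs Q}
        one_mem' := by
          show F.tw.t * cj Q 1 F.tw.t ∈ sqs Q
          rw [map_one, MulAut.one_apply, F.tw.tsq]; exact one_mem _
        mul_mem' := fun {a b} ha hb => by
          show F.tw.t * cj Q (a.1 * b.1) F.tw.t ∈ sqs Q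
          rw [map_mul, MulAut.mul_apply]
          have h1 := sqs_inv (cj Q a.1) hb
          rw [map_mul] at h1
          have h2 := mul_mem ha h1
          rwa [mul_assoc, ← mul_assoc (cj Q a.1 F.tw.t), ← map_mul, F.tw.tsq, map_one, one_mul] at h2
        inv_mem' := fun {a} ha => by
          have h1 := sqs_inv (cj Q a.1⁻¹) ha
          rw [map_mul, ← MulAut.mul_apply, ← map_mul, inv_mul_cancel, map_one, MulAut.one_apply] at h1
          have h2 := inv_mem h1
          rwa [mul_inv_rev, ← map_inv, F.tw.invt] at h2 }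
    have hQH : Q' ≤ H := fun p hp => by
      have := hQfix 1 N.one_mem p hp
      rw [one_mul] at this
      unfold Fit.cl at this
      rw [QuotientGroup.eq] at this
      show F.tw.t * cj Q p.1 F.tw.t ∈ sqs Q
      have e1 : F.tw.t * cj Q 1 F.tw.t = 1 := by rw [map_one, MulAut.one_apply, F.tw.tsq]
      rw [e1, mul_one] at this
      simpa using inv_mem this
    have hidx : H.index = Nat.card L.D := by
      rw [← hZZ, Subgroup.index_eq_card]
      refine (Nat.card_congr (Equiv.ofBijective (fun y : ZZ =>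
        (QuotientGroup.mk (⟨pick y, hpN y⟩ : N) : N ⧸ H)) ⟨?_, ?_⟩)).symm
      · intro a b e
        rw [QuotientGroup.eq] at e
        apply Subtype.ext
        rw [← hpy a, ← hpy b]
        unfold Fit.cl
        rw [QuotientGroup.eq]
        have h1 := sqs_inv (cj Q (pick a)) (show F.tw.t * cj Q ((pick a)⁻¹ * pick b) F.tw.t ∈ sqs Q from e)
        rw [map_mul, ← MulAut.mul_apply, ← map_mul, mul_inv_cancel_left] at h1
        have h2 : (cj Q (pick a) F.tw.t)⁻¹ = cj Q (pick a) F.tw.t := by rw [← map_inv, F.tw.invt]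
        rwa [mul_inv_rev, mul_assoc, inv_mul_cancel_left, h2]
      · intro y
        obtain ⟨n, rfl⟩ := QuotientGroup.mk_surjective y
        refine ⟨⟨_, F.cl_mem hZ n.1⟩, QuotientGroup.eq.2 ?_⟩
        exact F.cl_eq (hpy _)
    rw [← hQcard, ← H.card_mul_index, hidx, mul_comm]
    exact Nat.mul_dvd_mul (Subgroup.card_dvd_of_le hQH) dvd_rfl
  have hRcard : Nat.card L.D * Nat.card Q ∣ Nat.card (R : Subgroup N) := by
    obtain ⟨a, ha⟩ := card_pow_two L
    obtain ⟨b, hb⟩ := IsPGroup.iff_card.1 F.pg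
    rw [ha, hb, ← pow_add] at hNdvd ⊢
    rw [Sylow.card_eq_multiplicity]
    exact pow_dvd_pow 2 ((Nat.prime_two.pow_dvd_iff_le_factorization Nat.card_pos.ne').1 hNdvd)
  -- the Sylow subgroup as a subgroup of `G`
  set R0 : Subgroup G := ((R : Subgroup N).map N.subtype).map NQ.subtype with hR0
  have hR0m : ∀ x : G, x ∈ R0 ↔ ∃ r : N, r ∈ (R : Subgroup N) ∧ r.1.1 = x := fun x => by
    constructor
    · rintro ⟨_, ⟨r, hr, rfl⟩, rfl⟩; exact ⟨r, hr, rfl⟩
    · rintro ⟨r, hr, rfl⟩; exact ⟨_, ⟨r, hr, rfl⟩, rfl⟩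
  have hR0pg : IsPGroup 2 R0 := (R.2.map _).map _
  have hQR0 : Q ≤ R0 := fun x hx => (hR0m x).2 ⟨⟨⟨x, hQN x hx⟩, (hmC _).2 (F.le x hx)⟩, hR hx, rfl⟩
  have hfull' : ∀ y ∈ ZZ, ∃ r : N, r ∈ (R : Subgroup N) ∧ F.cl r.1 = y := by
    let f : (R : Subgroup N) ⧸ Q'.subgroupOf R → ZZ :=
      Quotient.lift (fun r => ⟨F.cl r.1.1, F.cl_mem hZ _⟩) (by
        intro a b hab
        have hab : a⁻¹ * b ∈ Q'.subgroupOf R := QuotientGroup.leftRel_apply.1 hab
        apply Subtype.ext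
        show F.cl a.1.1 = F.cl b.1.1
        have := hQfix a.1.1 a.1.2 _ hab
        rw [← this]
        simp)
    have hinj : Function.Injective f := by
      intro x y
      induction x using QuotientGroup.induction_on with
      | _ a =>
      induction y using QuotientGroup.induction_on with
      | _ b =>
      intro e
      rw [QuotientGroup.eq]
      have e1 := F.cl_eq (congrArg Subtype.val e)
      exact hstab R0 hR0pg hQR0 (a⁻¹ * b : (R : Subgroup N)).1.1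
        ((hR0m _).2 ⟨_, (a⁻¹ * b : (R : Subgroup N)).2, rfl⟩) (a⁻¹ * b : (R : Subgroup N)).1.2
        ((QuotientGroup.eq_one_iff _).2 e1)
    have hsurj : Function.Surjective f := by
      have hle : Nat.card ZZ ≤ Nat.card ((R : Subgroup N) ⧸ Q'.subgroupOf R) := by
        have e := (Q'.subgroupOf R).card_mul_index
        rw [Nat.card_congr (Subgroup.subgroupOfEquivOfLe hR).toEquiv, hQcard] at e
        rw [hZZ, ← Subgroup.index_eq_card]
        refine Nat.le_of_mul_le_mul_left (?_ : Nat.card Q * _ ≤ Nat.card Q * _) Nat.card_pos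
        rw [e, mul_comm]
        exact Nat.le_of_dvd Nat.card_pos hRcard
      exact (hinj.bijective_of_nat_card_le hle).2
    intro y hy
    obtain ⟨x, hx⟩ := hsurj ⟨y, hy⟩
    induction x using QuotientGroup.induction_on with
    | _ a => exact ⟨a.1, a.2, congrArg Subtype.val hx⟩
  -- adjust `k`
  have hkNn : kk ∈ Subgroup.normalizer (N : Set NQ) := Subgroup.mem_normalizer_fintype fun n hn => hkN n hn
  obtain ⟨n, hn⟩ := MulAction.exists_smul_eq N (N.normalizerMonoidHom ⟨kk, hkNn⟩ • R) R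
  have hk'' : ∀ x ∈ R0, ((n : NQ) : G) * k * x * (((n : NQ) : G) * k)⁻¹ ∈ R0 := by
    intro x hx
    obtain ⟨r, hr, rfl⟩ := (hR0m x).1 hx
    refine (hR0m _).2 ⟨n * (N.normalizerMonoidHom ⟨kk, hkNn⟩ r) * n⁻¹, ?_, ?_⟩
    · rw [← hn, Sylow.coe_subgroup_smul]
      exact Subgroup.smul_mem_pointwise_smul _ (MulAut.conj n) _
        (Subgroup.smul_mem_pointwise_smul r (N.normalizerMonoidHom ⟨kk, hkNn⟩) _ hr)
    · show ((n : NQ) : G) * (k * r.1.1 * k⁻¹) * ((n : NQ) : G)⁻¹ = _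
      group
  obtain ⟨r, hr, hrcl⟩ := hfull' _ (F.cl_mem hZ ((n : NQ) * kk))
  have hfix : F.tw.t * cj Q ((r.1)⁻¹ * ((n : NQ) * kk)) F.tw.t ∈ sqs Q := F.cl_eq hrcl
  obtain ⟨p, hp, hpc⟩ := F.fix_coset _ hfix
  have hgR : p * r.1.1⁻¹ ∈ R0 := R0.mul_mem (hQR0 hp) (R0.inv_mem ((hR0m _).2 ⟨r, hr, rfl⟩))
  have hR0C : ∀ x ∈ R0, ∀ d ∈ L.D, x * d = d * x := fun x hx => by
    obtain ⟨r, -, rfl⟩ := (hR0m x).1 hx
    exact (hmC _).1 r.2
  refine ⟨R0, p * ((r.1 : G)⁻¹ * ((n : NQ) * k)), ⟨hR0C, hR0pg, hQR0 F.tQ, F.DQ.trans hQR0, hpc,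
    Subgroup.mem_normalizer_fintype fun x hx => ?_, fun d hd => ?_⟩, lt_of_le_of_ne hQR0 fun e => ?_⟩
  · have h1 := R0.mul_mem (R0.mul_mem hgR (hk'' x hx)) (R0.inv_mem hgR)
    show _ ∈ R0
    convert h1 using 1
    group
  · have hnC : ∀ e ∈ L.D, ((n : NQ) : G) * e = e * ((n : NQ) : G) := (hmC _).1 n.2
    have he := F.kD hd
    calc p * ((r.1 : G)⁻¹ * ((n : NQ) * k)) * d * (p * ((r.1 : G)⁻¹ * ((n : NQ) * k)))⁻¹
        = (p * (r.1 : G)⁻¹) * (((n : NQ) : G) * (k * d * k⁻¹) * ((n : NQ) : G)⁻¹) * (p * (r.1 : G)⁻¹)⁻¹ := by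
          group
      _ = k * d * k⁻¹ := by
          rw [hnC _ he, mul_inv_cancel_right, hR0C _ hgR _ he, mul_inv_cancel_right]
      _ = _ := F.agree d hd
  · have h1 : Nat.card L.D * Nat.card Q ∣ Nat.card R0 := by
      rwa [hR0, Subgroup.card_map_of_injective (Subgroup.subtype_injective _),
        Subgroup.card_map_of_injective (Subgroup.subtype_injective _)]
    rw [← e] at h1
    have := Nat.le_of_dvd Nat.card_pos h1
    have := L.four
    have : 0 < Nat.card Q := Nat.card_pos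
    nlinarith

/-- A maximal fit pair. -/
structure Sys (L : Loc G) (Q : Subgroup G) (k : G) : Prop extends L.Fit Q k where
  max : ∀ P : Subgroup G, IsPGroup 2 P → Q ≤ P → (∀ x ∈ P, ∀ d ∈ L.D, x * d = d * x) → P ≤ Q

theorem exists_sys (L : Loc G) : ∃ Q k, L.Sys Q k := by
  classical
  haveI : Fact (Nat.Prime 2) := ⟨Nat.prime_two⟩
  let T0 : Subgroup G :=
    { carrier := {x | x ∈ L.D ∨ L.t * x ∈ L.D}
      one_mem' := Or.inl L.D.one_mem
      mul_mem' := by
        rintro a b (ha | ha) (hb | hb)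
        · exact Or.inl (L.D.mul_mem ha hb)
        · refine Or.inr ?_
          rw [← mul_assoc, ← L.commD a ha, mul_assoc]
          exact L.D.mul_mem ha hb
        · refine Or.inr ?_
          rw [← mul_assoc]
          exact L.D.mul_mem ha hb
        · refine Or.inl ?_
          have e := L.D.mul_mem ha hb
          have hc : L.t * a * L.t = L.t * (L.t * a) := L.commD _ ha
          rwa [← mul_assoc, hc, ← mul_assoc, L.tsq, one_mul] at e
      inv_mem' := by
        rintro a (ha | ha)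
        · exact Or.inl (L.D.inv_mem ha)
        · refine Or.inr ?_
          have e := L.commD _ (L.D.inv_mem ha)
          rw [mul_inv_rev, inv_eq_of_mul_eq_one_right L.tsq, mul_assoc, L.tsq, mul_one] at e
          rw [← inv_eq_of_mul_eq_one_right L.tsq, ← mul_inv_rev]
          refine L.D.inv_mem ?_
          have hat : a * L.t = L.t * a := by
            have := L.commD _ ha
            rw [mul_assoc] at this
            exact mul_left_cancel this
          rwa [hat] }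
  have hsq : ∀ x ∈ T0, x * x = 1 := by
    rintro x (hx | hx)
    · exact L.sqD x hx
    · have h1 := L.sqD _ hx
      have h2 := L.commD _ hx
      rw [mul_assoc] at h2
      have h3 : x * L.t = L.t * x := mul_left_cancel h2
      rwa [mul_assoc, ← mul_assoc x, h3, mul_assoc, ← mul_assoc L.t, L.tsq, one_mul] at h1
  have hcD : ∀ x ∈ T0, ∀ d ∈ L.D, x * d = d * x := by
    rintro x (hx | hx) d hd
    · exact L.comm hx hd
    · have h1 := L.comm hx hd
      rw [← mul_assoc d, L.commD d hd, mul_assoc, mul_assoc] at h1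
      exact mul_left_cancel h1
  have hne : {Q : Subgroup G | ∃ k, L.Fit Q k}.Nonempty := by
    refine ⟨T0, L.k, hcD, fun x => ⟨1, Subtype.ext (by
      show ((x : G)) ^ (2 ^ 1) = 1
      rw [pow_one, pow_two, hsq _ x.2])⟩, Or.inr (by rw [L.tsq]; exact one_mem _), fun d hd => Or.inl hd,
      L.kt, Subgroup.mem_normalizer_fintype fun x hx => ?_, fun d _ => rfl⟩
    rcases hx with hx | hx
    · exact Or.inl (L.kD x hx)
    · refine Or.inr ?_
      have := L.kD _ hx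
      rwa [show L.k * (L.t * x) * L.k⁻¹ = L.k * L.t * (x * L.k⁻¹) by group, L.kt, mul_assoc,
        ← mul_assoc L.k] at this
  obtain ⟨Q, ⟨k, F⟩, hmax⟩ := Set.Finite.exists_maximal (Set.toFinite {Q : Subgroup G | ∃ k, L.Fit Q k}) hne
  refine ⟨Q, k, F, fun P hP hQP hPC => ?_⟩
  by_contra hle
  obtain ⟨R, k', FR, hlt⟩ := F.extend hP (lt_of_le_not_ge hQP hle) hPC
  exact hlt.not_ge (hmax ⟨k', FR⟩ hlt.le)

end Loc

end Cfsg.Agent.TwoXDih
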