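import Cfsg.Agent.Lib.TwoXDih.Klein
import Cfsg.Agent.Lib.LocalEven.KleinGammaRank
import Cfsg.Agent.Lib.RankTwoSylow.Main
import Cfsg.Agent.Lib.PushUp3.Final

/-!
# The dihedral case
-/

set_option autoImplicit false
set_option linter.unusedSectionVars false
set_option linter.style.haveILetI false
set_option linter.unusedVariables false

namespace Cfsg.Agent.TwoXDih

open Subgroup

universe u

namespace OCfg

variable {G : Type u} [Group G] [Finite G] (C : OCfg G)

theorem lt_sylow [IsSimpleGroup G] (hG : ¬ IsMulCommutative G) (S : Sylow 2 G) (hTS : C.T ≤ (S : Subgroup G)) :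
    C.T < (S : Subgroup G) := by
  haveI : Fact (Nat.Prime 2) := ⟨Nat.prime_two⟩
  refine lt_of_le_of_ne hTS fun heq => ?_
  obtain ⟨g, hgS, hgne⟩ := exists_conj_ne hG S (orderOf_eq_prime (by rw [pow_two]; exact C.tsq) C.tne)
    (show C.t ∈ (S : Subgroup G) from heq ▸ C.tT)
  have hu : g * C.t * g⁻¹ ∈ C.T := by rw [heq]; exact hgS
  have hu2 : g * C.t * g⁻¹ * (g * C.t * g⁻¹) = 1 := by rw [← OCfg.conj_mul', C.tsq]; group
  obtain ⟨g', hg'⟩ : ∃ g' : G, g' * C.t * g'⁻¹ = C.z ∨ g' * C.t * g'⁻¹ = C.t * C.z := by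
    rcases (C.memT _).1 hu with h | h
    · obtain ⟨c, -, hc⟩ := C.invol _ h hu2 (fun e => C.tne (conj_eq_one_iff.1 e))
      exact ⟨c * g, Or.inl (by rw [← hc]; group)⟩
    · have h2 := C.sq_t_mul h
      rw [C.tt_mul, hu2] at h2
      obtain ⟨c, hct, hc⟩ := C.invol _ h h2.symm (fun e => hgne (by
        rw [eq_inv_of_mul_eq_one_right e, inv_eq_of_mul_eq_one_right C.tsq]))
      refine ⟨c * g, Or.inr ?_⟩
      have e : c * C.t * c⁻¹ = C.t := by rw [hct, mul_inv_cancel_right]
      calc c * g * C.t * (c * g)⁻¹ = c * (g * C.t * g⁻¹) * c⁻¹ := by group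
        _ = c * (C.t * (C.t * (g * C.t * g⁻¹))) * c⁻¹ := by rw [C.tt_mul]
        _ = (c * C.t * c⁻¹) * (c * (C.t * (g * C.t * g⁻¹)) * c⁻¹) := by group
        _ = C.t * C.z := by rw [e, hc]
  have hcent : ∀ a : G, a = C.t ∨ a = C.z ∨ a = C.t * C.z → a ∈ centralizer ((S : Subgroup G) : Set G) := by
    intro a ha
    refine mem_centralizer_iff.2 fun y hy => ?_
    have hy' : y ∈ C.T := heq.symm ▸ hy
    rcases ha with rfl | rfl | rfl
    · exact C.full.cent y hy'
    · exact C.zT hy'
    · rw [← mul_assoc, C.full.cent y hy', mul_assoc, C.zT hy', ← mul_assoc]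
  obtain ⟨n, hn, hne⟩ := S.conj_eq_normalizer_conj_of_mem_centralizer C.t g'⁻¹ (hcent _ (Or.inl rfl)) (by
    rw [inv_inv]; exact hcent _ (Or.inr hg'))
  rw [inv_inv] at hne
  set m := n⁻¹ with hm
  have hmN : m ∈ Subgroup.normalizer (C.T : Set G) := by rw [heq]; exact inv_mem hn
  have hmt : m * C.t * m⁻¹ = C.t * C.z := by
    rw [hm, inv_inv, ← hne]
    refine hg'.resolve_left fun hz => ?_
    have h1 := C.z_fix hmN
    rw [hne] at hz
    have h2 : m * C.t * m⁻¹ = m * C.z * m⁻¹ := by rw [h1, hm, inv_inv]; exact hz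
    exact C.tnot ((OCfg.conj_inj.1 h2) ▸ C.zD)
  obtain ⟨a, b, hb, hab⟩ := Nat.exists_eq_pow_mul_and_not_dvd (orderOf_pos m).ne' 2 (by norm_num)
  have hmb : m ^ b ∈ (S : Subgroup G) := by
    have ho : (m ^ b) ^ (2 ^ a) = 1 := by rw [← pow_mul, mul_comm, ← hab, pow_orderOf_eq_one]
    obtain ⟨j, -, hj⟩ := (Nat.dvd_prime_pow Nat.prime_two).1 (orderOf_dvd_of_pow_eq_one ho)
    have hle : Subgroup.zpowers (m ^ b) ≤ Subgroup.normalizer ((S : Subgroup G) : Set G) := by
      rw [Subgroup.zpowers_le, ← heq]; exact pow_mem hmN b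
    have hP := IsPGroup.to_sup_of_normal_right' (Full.pg_zpowers ⟨j, hj⟩) S.2 hle
    exact S.3 hP le_sup_right ▸ Subgroup.mem_sup_left (Subgroup.mem_zpowers _)
  have hodd : ∀ i : ℕ, m ^ i * C.t * (m ^ i)⁻¹ = if Even i then C.t else C.t * C.z := by
    intro i
    induction i with
    | zero => simp
    | succ i ih =>
      rw [pow_succ', show m * m ^ i * C.t * (m * m ^ i)⁻¹ = m * (m ^ i * C.t * (m ^ i)⁻¹) * m⁻¹ by group, ih]
      by_cases he : Even i
      · rw [if_pos he, if_neg (by simpa [Nat.even_add_one] using he), hmt]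
      · rw [if_neg he, if_pos (by simpa [Nat.even_add_one] using he), OCfg.conj_mul', hmt, C.z_fix hmN,
          mul_assoc, C.z2, mul_one]
  have hcomm := C.full.cent _ (show m ^ b ∈ C.T from heq.symm ▸ hmb)
  have h1 := hodd b
  rw [if_neg (fun h => hb (even_iff_two_dvd.1 h)), hcomm, mul_inv_cancel_right] at h1
  exact C.z1 (mul_eq_left.1 h1.symm)

theorem conj_t_of_moves {x : G} (hxN : x ∈ Subgroup.normalizer (C.T : Set G)) (hx : x * C.t * x⁻¹ ≠ C.t) :
    x * C.t * x⁻¹ = C.t * C.z := by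
  have hT : x * C.t * x⁻¹ ∈ C.T := (Subgroup.mem_normalizer_iff.1 hxN _).1 C.tT
  rcases C.centT hT (fun d hd => by
    have hd' : x⁻¹ * d * x ∈ C.T := by
      have := (Subgroup.mem_normalizer_iff.1 (inv_mem hxN) d).1 (C.DT hd)
      rwa [inv_inv] at this
    have h := C.full.cent _ hd'
    calc d * (x * C.t * x⁻¹) = x * (x⁻¹ * d * x * C.t) * x⁻¹ := by group
      _ = x * C.t * x⁻¹ * d := by rw [h]; group) with h | h | h | h
  · exact absurd (conj_eq_one_iff.1 h) C.tne
  · exact absurd h hx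
  · exact absurd (OCfg.conj_inj.1 (h.trans (C.z_fix hxN).symm)) (fun e => C.tnot (e ▸ C.zD))
  · exact h

theorem fusion (S : Sylow 2 G) (hlt : C.T < (S : Subgroup G)) :
    (∀ s ∈ (S : Subgroup G), s * C.z = C.z * s) ∧ (∀ d ∈ C.D, ¬ IsConj C.t d) ∧
      (∀ d ∈ C.D, d * d = 1 → IsConj C.t (C.t * d)) ∧
      ∃ x ∈ (S : Subgroup G), x ∈ Subgroup.normalizer (C.T : Set G) ∧ x * C.t * x⁻¹ = C.t * C.z := by
  haveI : Fact (Nat.Prime 2) := ⟨Nat.prime_two⟩
  haveI := S.2.isNilpotent
  obtain ⟨x, hxN, hxT⟩ := SetLike.exists_of_lt (Group.normalizerCondition_of_isNilpotent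
    (C.T.subgroupOf (S : Subgroup G)) (lt_top_iff_ne_top.2 fun e => hlt.not_ge (Subgroup.subgroupOf_eq_top.1 e)))
  have hxN' : (x : G) ∈ Subgroup.normalizer (C.T : Set G) := Subgroup.mem_normalizer_fintype fun y hy =>
    (Subgroup.mem_normalizer_iff.1 hxN ⟨y, hlt.le hy⟩).1 hy
  have hxt := C.conj_t_of_moves hxN' fun e => hxT (C.full.inter S.2 hlt.le x.2 (mul_inv_eq_iff_eq_mul.1 e))
  haveI : Nontrivial (S : Subgroup G) := ⟨⟨C.t, hlt.le C.tT⟩, 1, fun e => C.tne (congrArg Subtype.val e)⟩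
  haveI := S.2.center_nontrivial
  have hdvd : 2 ∣ Nat.card (Subgroup.center (S : Subgroup G)) := by
    obtain ⟨n, hn⟩ := IsPGroup.iff_card.1 (S.2.to_subgroup (Subgroup.center (S : Subgroup G)))
    have h1 : 1 < Nat.card (Subgroup.center (S : Subgroup G)) := Finite.one_lt_card
    rw [hn] at h1 ⊢
    refine dvd_pow_self 2 fun h0 => ?_
    rw [h0, pow_zero] at h1
    omega
  obtain ⟨c, hc⟩ := exists_prime_orderOf_dvd_card' 2 hdvd
  have hcc : ∀ s ∈ (S : Subgroup G), s * ((c : (S : Subgroup G)) : G) = ((c : (S : Subgroup G)) : G) * s :=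
    fun s hs => congrArg Subtype.val (Subgroup.mem_center_iff.1 c.2 ⟨s, hs⟩)
  have hc1 : ((c : (S : Subgroup G)) : G) ≠ 1 := fun e => by
    rw [show c = 1 from Subtype.ext (Subtype.ext e), orderOf_one] at hc
    omega
  have hcT := C.full.inter S.2 hlt.le c.1.2 (hcc C.t (hlt.le C.tT)).symm
  have hcz : ((c : (S : Subgroup G)) : G) = C.z := by
    have hcx := hcc (x : G) x.2
    rcases C.centT hcT (fun d hd => hcc d (hlt.le (C.DT hd))) with h | h | h | h
    · exact absurd h hc1
    · rw [h] at hcx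
      rw [hcx, mul_inv_cancel_right] at hxt
      exact absurd (mul_eq_left.1 hxt.symm) C.z1
    · exact h
    · rw [h] at hcx
      have h2 : (x : G) * (C.t * C.z) * (x : G)⁻¹ = C.t * C.z := by rw [hcx, mul_inv_cancel_right]
      rw [OCfg.conj_mul', hxt, C.z_fix hxN', mul_assoc, C.z2, mul_one] at h2
      exact absurd (mul_eq_left.1 h2.symm) C.z1
  have hzS : ∀ s ∈ (S : Subgroup G), s * C.z = C.z * s := fun s hs => hcz ▸ hcc s hs
  have hz : ¬ IsConj C.t C.z := by
    intro h
    obtain ⟨g, hg⟩ := isConj_iff.1 h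
    have h1 := C.full.card_le (P := ((S : Subgroup G)).map (MulAut.conj g⁻¹).toMonoidHom) (S.2.map _) (by
      rintro _ ⟨y, hy, rfl⟩
      show g⁻¹ * y * g⁻¹⁻¹ * C.t = C.t * (g⁻¹ * y * g⁻¹⁻¹)
      calc _ = g⁻¹ * (y * (g * C.t * g⁻¹)) * g := by group
        _ = _ := by rw [hg, hzS y hy, ← hg]; group)
    rw [Subgroup.card_map_of_injective (MulEquiv.injective _)] at h1
    exact hlt.ne (Subgroup.eq_of_le_of_card_ge hlt.le h1)
  refine ⟨hzS, fun d hd hconj => ?_, fun d hd hd2 => ?_, (x : G), x.2, hxN', hxt⟩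
  · have hd2 : d * d = 1 := by
      obtain ⟨g, hg⟩ := isConj_iff.1 hconj
      rw [← hg, ← OCfg.conj_mul', C.tsq]; group
    have hd1 : d ≠ 1 := fun h => C.tne (by
      rw [h, isConj_iff] at hconj
      obtain ⟨g, hg⟩ := hconj
      exact conj_eq_one_iff.1 hg)
    obtain ⟨c, -, hc⟩ := C.invol d hd hd2 hd1
    exact hz (hconj.trans (isConj_iff.2 ⟨c, hc⟩))
  · by_cases hd1 : d = 1
    · rw [hd1, mul_one]
    obtain ⟨c, hct, hc⟩ := C.invol d hd hd2 hd1
    refine (isConj_iff.2 ⟨(x : G), hxt⟩ : IsConj C.t (C.t * C.z)).trans (isConj_iff.2 ⟨c⁻¹, ?_⟩)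
    have e : c⁻¹ * C.t * c = C.t := by rw [mul_assoc, ← hct, inv_mul_cancel_left]
    calc c⁻¹ * (C.t * C.z) * c⁻¹⁻¹ = (c⁻¹ * C.t * c) * (c⁻¹ * (c * d * c⁻¹) * c) := by rw [hc]; group
      _ = C.t * d := by rw [e]; group

/-- Two commuting configurations clash. -/
theorem clash (hD : ∀ d ∈ C.D, ¬ IsConj C.t d) (htD : ∀ d ∈ C.D, d * d = 1 → IsConj C.t (C.t * d)) {v w f d : G}
    (hv : IsConj C.t v) (hw : IsConj C.t w) (hvT : v ∉ C.T) (hwT : w ∉ C.T) (hvt : v * C.t * v⁻¹ = C.t * C.z)
    (hwv : w = v * C.t * f) (hfD : f ∈ C.D) (hf : f * f = C.z) (hdD : d ∈ C.D) (hd : d * d = 1)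
    (hdf : d * f * d = f⁻¹) (hvf : v * f = f * v) (hvd : v * d = d * v) (hvz : v * C.z = C.z * v) : False := by
  have hd1 : d ≠ 1 := fun h => C.z1 (by
    rw [h, one_mul, mul_one] at hdf
    rw [← hf]
    nth_rw 2 [hdf]
    rw [mul_inv_cancel])
  set a := f * d with ha
  have haD : a ∈ C.D := C.D.mul_mem hfD hdD
  have ha2 : a * a = 1 := by
    calc f * d * (f * d) = f * (d * f * d) := by group
      _ = 1 := by rw [hdf, mul_inv_cancel]
  have ha1 : a ≠ 1 := fun h => C.z1 (by
    have e := eq_inv_of_mul_eq_one_left h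
    rw [inv_eq_of_mul_eq_one_right hd] at e
    rw [← hf, e, hd])
  have hva : a * v = v * a := by
    rw [ha, mul_assoc, ← hvd, ← mul_assoc, ← hvf, mul_assoc]
  have h1 : IsConj C.t (v * a) := by
    by_contra h
    exact hD a haD ((C.rule hD htD hv ha2 hva ha1 (fun h => hvT (h ▸ C.DT haD))).2 h)
  set b := C.t * d with hb
  have hb2 : b * b = 1 := by rw [hb, C.sq_t_mul hdD, hd]
  have hwb : b * w = w * b := by
    have e1 : f * d * f⁻¹ = C.z * d := by
      have h' : d * f⁻¹ = f * d := by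
        rw [← hdf, mul_assoc d f d, ← mul_assoc d d, hd, one_mul]
      rw [mul_assoc, h', ← mul_assoc, hf]
    have e2 : w * b * w⁻¹ = b := by
      calc w * b * w⁻¹ = v * (C.t * f * (C.t * d) * f⁻¹ * C.t⁻¹) * v⁻¹ := by rw [hwv, hb]; group
        _ = v * (C.t * (f * C.t) * d * f⁻¹ * C.t) * v⁻¹ := by
          rw [inv_eq_of_mul_eq_one_right C.tsq]; group
        _ = v * (C.t * (C.t * f) * d * f⁻¹ * C.t) * v⁻¹ := by rw [C.commD f hfD]
        _ = v * ((f * d * f⁻¹) * C.t) * v⁻¹ := by rw [C.tt_mul]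
        _ = v * (C.z * d) * v⁻¹ * (v * C.t * v⁻¹) := by rw [e1]; group
        _ = C.z * d * (C.t * C.z) := by
          rw [hvt, OCfg.conj_mul' v C.z d, hvz, mul_inv_cancel_right, hvd, mul_inv_cancel_right]
        _ = C.z * (d * C.t) * C.z := by group
        _ = C.z * (C.t * d) * C.z := by rw [C.commD d hdD]
        _ = C.z * C.t * (d * C.z) := by group
        _ = C.z * C.t * C.z * d := by rw [C.zc d hdD]; group
        _ = b := by rw [C.commD C.z C.zD, mul_assoc C.t, C.z2, mul_one]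
    exact (mul_inv_eq_iff_eq_mul.1 e2).symm
  have h2 : ¬ IsConj C.t (w * b) := (C.rule hD htD hw hb2 hwb (fun h => C.tnot (by
      rw [hb] at h
      rw [eq_inv_of_mul_eq_one_left h]
      exact C.D.inv_mem hdD))
    (fun h => hwT (h ▸ C.T.mul_mem C.tT (C.DT hdD)))).1 (htD d hdD hd)
  apply h2
  have e : w * b = v * a := by
    rw [hwv, hb, ha]
    calc v * C.t * f * (C.t * d) = v * (C.t * (f * C.t)) * d := by group
      _ = v * (f * d) := by rw [C.commD f hfD, C.tt_mul]; group
  rw [e]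
  exact h1

theorem two_false (h2 : ∀ H : Subgroup G, H.index ≠ 2) (S : Sylow 2 G) (hlt : C.T < (S : Subgroup G))
    (hS : Nat.card (S : Subgroup G) = 2 * Nat.card C.T) : False := by
  classical
  haveI : Fact (Nat.Prime 2) := ⟨Nat.prime_two⟩
  obtain ⟨hzS, hD, htD, -⟩ := C.fusion S hlt
  have hTn : (C.T.subgroupOf (S : Subgroup G)).index = 2 := by
    have e := (C.T.subgroupOf (S : Subgroup G)).card_mul_index
    rw [Nat.card_congr (Subgroup.subgroupOfEquivOfLe hlt.le).toEquiv, hS, mul_comm 2] at e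
    exact Nat.eq_of_mul_eq_mul_left Nat.card_pos e
  have hTconj : ∀ s ∈ (S : Subgroup G), ∀ y ∈ C.T, s * y * s⁻¹ ∈ C.T := fun s hs y hy =>
    (Subgroup.normal_of_index_eq_two hTn).conj_mem ⟨y, hlt.le hy⟩ hy ⟨s, hs⟩
  have hmulT : ∀ {a b}, a ∈ (S : Subgroup G) → b ∈ (S : Subgroup G) → a ∉ C.T → b ∉ C.T → a * b ∈ C.T :=
    fun {a b} ha hb ha' hb' => (Subgroup.mul_mem_iff_of_index_two hTn (a := ⟨a, ha⟩) (b := ⟨b, hb⟩)).2
      (iff_of_false ha' hb')
  have hDconj : ∀ s ∈ (S : Subgroup G), ∀ d ∈ C.D, s * d * s⁻¹ ∈ C.D := by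
    intro s hs d hd
    have : C.D ≤ C.D.comap (MulAut.conj s).toMonoidHom := C.gen.trans ((Subgroup.closure_le _).2 fun e he => by
      show s * e * s⁻¹ ∈ C.D
      rcases C.cls_or hD htD (hTconj s hs e (C.DT he.1)) (by rw [← OCfg.conj_mul', he.2]; group) with h | h
      · exact h
      · exact absurd (h.trans (isConj_iff.2 ⟨s⁻¹, by group⟩)) (hD e he.1))
    exact this hd
  have hmoves : ∀ s ∈ (S : Subgroup G), s ∉ C.T → s * C.t * s⁻¹ = C.t * C.z := fun s hs hsT =>
    C.conj_t_of_moves (Subgroup.mem_normalizer_fintype fun y hy => hTconj s hs y hy) fun e =>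
      hsT (C.full.inter S.2 hlt.le hs (mul_inv_eq_iff_eq_mul.1 e))
  set D' := C.D.subgroupOf (S : Subgroup G) with hD'
  haveI hD'n : D'.Normal := ⟨fun d hd s => hDconj s s.2 d hd⟩
  obtain ⟨c, hc, hcC⟩ := C.full.dvd_card
  by_cases hcyc : ∃ s ∈ (S : Subgroup G), s * s ∉ C.D
  · -- cyclic quotient
    obtain ⟨s0, hs0, hs0D⟩ := hcyc
    have hs0T : s0 ∉ C.T := fun h => hs0D (C.sq_mem h)
    have hA4 : Nat.card ((S : Subgroup G) ⧸ D') = 4 := by
      have e := D'.card_mul_index
      rw [Nat.card_congr (Subgroup.subgroupOfEquivOfLe (show C.D ≤ (S : Subgroup G) from fun d hd =>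
        hlt.le (C.DT hd))).toEquiv, hS, C.card_T] at e
      rw [← Subgroup.index_eq_card]
      exact Nat.eq_of_mul_eq_mul_left (Nat.card_pos (α := C.D)) (e.trans (by ring))
    letI : CommGroup ((S : Subgroup G) ⧸ D') :=
      IsPGroup.commGroupOfCardEqPrimeSq (p := 2) (by rw [hA4]; norm_num)
    let φ : (S : Subgroup G) →* (S : Subgroup G) ⧸ D' := QuotientGroup.mk' D'
    set ε := φ ⟨C.t, hlt.le C.tT⟩ with hε
    have hval : ∀ (y : G) (hy : y ∈ (S : Subgroup G)), φ ⟨y, hy⟩ = ε ↔ y ∈ C.T ∧ C.t * y ∈ C.D := by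
      intro y hy
      rw [hε]
      show (QuotientGroup.mk (⟨y, hy⟩ : (S : Subgroup G)) : (S : Subgroup G) ⧸ D') = _ ↔ _
      rw [eq_comm]
      show (QuotientGroup.mk (⟨C.t, hlt.le C.tT⟩ : (S : Subgroup G)) : (S : Subgroup G) ⧸ D') = QuotientGroup.mk ⟨y, hy⟩ ↔ _
      rw [QuotientGroup.eq]
      show C.t⁻¹ * y ∈ C.D ↔ _
      rw [inv_eq_of_mul_eq_one_right C.tsq]
      exact ⟨fun h => ⟨(C.memT y).2 (Or.inr h), h⟩, fun h => h.2⟩
    set I := {d : G | d ∈ C.D ∧ d * d = 1 ∧ d ≠ 1}
    have hset : SixInv.conjOf (SixInv.valSet φ ε) C.t = (fun d => C.t * d) '' (insert 1 I) := by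
      ext u
      constructor
      · rintro ⟨hcu, huS, hu⟩
        obtain ⟨-, huD⟩ := (hval u huS).1 hu
        have hu2 : u * u = 1 := SixInv.conj_square C.tsq hcu
        refine ⟨C.t * u, ?_, C.tt_mul u⟩
        by_cases h1 : C.t * u = 1
        · exact Or.inl h1
        · refine Or.inr ⟨huD, ?_, h1⟩
          have := C.sq_t_mul huD
          rw [C.tt_mul, hu2] at this
          exact this.symm
      · rintro ⟨d, hd, rfl⟩
        have hdD : d ∈ C.D ∧ d * d = 1 := by
          rcases hd with rfl | hd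
          · exact ⟨C.D.one_mem, one_mul 1⟩
          · exact ⟨hd.1, hd.2.1⟩
        have hT : C.t * d ∈ C.T := C.T.mul_mem C.tT (C.DT hdD.1)
        exact ⟨htD d hdD.1 hdD.2, hlt.le hT, (hval _ (hlt.le hT)).2 ⟨hT, by rw [C.tt_mul]; exact hdD.1⟩⟩
    obtain ⟨j, hj⟩ := C.count
    have hcount : Nat.card (SixInv.conjOf (SixInv.valSet φ ε) C.t) = 2 * (2 * j + 1) := by
      rw [hset, Nat.card_coe_set_eq, Set.ncard_image_of_injective _ (mul_right_injective C.t),
        Set.ncard_insert_of_notMem (fun h => h.2.2 rfl), hj]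
      ring
    obtain ⟨a, ha⟩ := hcC
    have hodd : Odd a := by
      rw [← Nat.not_even_iff_odd, even_iff_two_dvd]
      rintro ⟨a', rfl⟩
      obtain ⟨P, hP⟩ := Sylow.exists_subgroup_card_pow_prime (G := centralizer ({C.t} : Set G)) 2
        (n := c + 1) ⟨a', by rw [ha, pow_succ]; ring⟩
      have h := C.full.card_le (P := P.map (centralizer ({C.t} : Set G)).subtype)
        ((IsPGroup.of_card hP).map _) (by
          rintro _ ⟨y, -, rfl⟩
          exact mem_centralizer_singleton_iff.1 y.2)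
      rw [Subgroup.card_map_of_injective (Subgroup.subtype_injective _), hP, hc] at h
      have := (Nat.pow_le_pow_iff_right (le_refl 2)).1 h
      omega
    obtain ⟨H', hH'⟩ := SixInv.index_two_of_value φ C.tsq (ε := ε) (M := (2 * j + 1) * a)
      ((odd_two_mul_add_one j).mul hodd)
      (fun h => C.tnot ((QuotientGroup.eq_one_iff (⟨C.t, hlt.le C.tT⟩ : (S : Subgroup G))).1 h))
      (by rw [hcount, ha, hS, hc]; ring) (fun a' ha' ha1 => ⟨0, Even.zero, by
        have : SixInv.conjOf (SixInv.valSet φ a') C.t = ∅ := by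
          refine Set.eq_empty_iff_forall_notMem.2 ?_
          rintro u ⟨hcu, huS, hu⟩
          have hu2 : u * u = 1 := SixInv.conj_square C.tsq hcu
          by_cases huT : u ∈ C.T
          · rcases (C.memT u).1 huT with h | h
            · exact ha1 (hu ▸ (QuotientGroup.eq_one_iff _).2 h)
            · exact ha' (hu ▸ (hval u huS).2 ⟨huT, h⟩)
          · have hw : s0⁻¹ * u ∈ C.T := hmulT (inv_mem hs0) huS (fun h => hs0T (inv_mem_iff.1 h)) huT
            apply hs0D
            have hwS : s0⁻¹ * u ∈ (S : Subgroup G) := hlt.le hw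
            have e1 : φ ⟨u, huS⟩ = φ ⟨s0, hs0⟩ * φ ⟨_, hwS⟩ := by
              rw [← map_mul]; congr 1; exact Subtype.ext (mul_inv_cancel_left _ _).symm
            have e2 : φ ⟨_, hwS⟩ * φ ⟨_, hwS⟩ = 1 := by
              rw [← map_mul]; exact (QuotientGroup.eq_one_iff _).2 (C.sq_mem hw)
            have e3 : φ ⟨u, huS⟩ * φ ⟨u, huS⟩ = 1 := by
              rw [← map_mul]; exact (QuotientGroup.eq_one_iff _).2 (show u * u ∈ C.D by rw [hu2]; exact one_mem _)
            rw [e1, mul_mul_mul_comm, e2, mul_one, ← map_mul] at e3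
            exact (QuotientGroup.eq_one_iff ((⟨s0, hs0⟩ : (S : Subgroup G)) * (⟨s0, hs0⟩ : (S : Subgroup G)))).1 e3
        rw [this]; simp⟩)
    exact h2 H' hH'
  · push Not at hcyc
    obtain ⟨y, hy, hyT⟩ := SetLike.exists_of_lt hlt
    -- an extremal conjugate in each of the two cosets
    have key : ∀ s ∈ (S : Subgroup G), s ∉ C.T → ∃ v : G, IsConj C.t v ∧ v ∈ (S : Subgroup G) ∧
        s⁻¹ * v ∈ C.D ∧ Nat.card C.T ≤ Nat.card ↥((S : Subgroup G) ⊓ centralizer ({v} : Set G)) := by
      intro s hs hsT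
      let M : Subgroup G :=
        { carrier := {x | x ∈ C.D ∨ s⁻¹ * x ∈ C.D}
          one_mem' := Or.inl C.D.one_mem
          mul_mem' := by
            have hsD : ∀ d ∈ C.D, s⁻¹ * d * s ∈ C.D := fun d hd => by
              have := hDconj s⁻¹ (inv_mem hs) d hd
              rwa [inv_inv] at this
            rintro a b (ha | ha) (hb | hb)
            · exact Or.inl (C.D.mul_mem ha hb)
            · refine Or.inr ?_
              rw [show s⁻¹ * (a * b) = s⁻¹ * a * s * (s⁻¹ * b) by group]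
              exact C.D.mul_mem (hsD a ha) hb
            · refine Or.inr ?_
              rw [← mul_assoc]
              exact C.D.mul_mem ha hb
            · refine Or.inl ?_
              rw [show a * b = s * (s⁻¹ * a) * s⁻¹ * (s * s) * (s⁻¹ * b) by group]
              exact C.D.mul_mem (C.D.mul_mem (hDconj s hs _ ha) (hcyc s hs)) hb
          inv_mem' := by
            rintro a (ha | ha)
            · exact Or.inl (C.D.inv_mem ha)
            · refine Or.inr ?_
              have h1 := C.D.mul_mem (C.D.inv_mem (hDconj s hs _ ha)) (C.D.inv_mem (hcyc s hs))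
              have h2 := hDconj s⁻¹ (inv_mem hs) _ (C.D.inv_mem ha)
              rw [show s⁻¹ * a⁻¹ = (s⁻¹ * s⁻¹) * (s * (s⁻¹ * a)⁻¹ * s⁻¹) by group]
              refine C.D.mul_mem ?_ (hDconj s hs _ (C.D.inv_mem ha))
              rw [← mul_inv_rev]; exact C.D.inv_mem (hcyc s hs) }
      have hMS : M ≤ (S : Subgroup G) := by
        rintro a (ha | ha)
        · exact hlt.le (C.DT ha)
        · have := mul_mem hs (hlt.le (C.DT ha))
          rwa [mul_inv_cancel_left] at this
      have hsM : s ∈ M := Or.inr (by rw [inv_mul_cancel]; exact one_mem _)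
      have hMcard : 2 * Nat.card M = Nat.card (S : Subgroup G) := by
        have hi : (C.D.subgroupOf M).index = 2 := by
          rw [Subgroup.index_eq_two_iff_exists_notMem_and']
          refine ⟨⟨s, hsM⟩, fun h => hsT (C.DT h), fun b => ?_⟩
          rcases b.2 with h | h
          · exact Or.inr h
          · left
            show s * (b : G) ∈ C.D
            rw [show s * (b : G) = s * s * (s⁻¹ * b) by group]
            exact C.D.mul_mem (hcyc s hs) h
        rw [← (C.D.subgroupOf M).card_mul_index, hi,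
          Nat.card_congr (Subgroup.subgroupOfEquivOfLe (show C.D ≤ M from fun d hd => Or.inl hd)).toEquiv, hS, C.card_T]
        ring
      obtain ⟨v, hvM, hv, hdiv⟩ := exists_extremal h2 S hMS hMcard C.tsq hcC
      refine ⟨v, hv, hMS hvM, (show v ∈ C.D ∨ s⁻¹ * v ∈ C.D from hvM).resolve_left (fun h => hD v h hv), ?_⟩
      rw [hc]
      exact Nat.le_of_dvd Nat.card_pos hdiv
    obtain ⟨v, hv, hvS, hv1, hvC⟩ := key y hy hyT
    have hty : C.t * y ∉ C.T := fun h => hyT ((Subgroup.mul_mem_cancel_left _ C.tT).1 h)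
    obtain ⟨w, hw, hwS, hw1, -⟩ := key (C.t * y) (mul_mem (hlt.le C.tT) hy) hty
    have hvT : v ∉ C.T := fun h => hyT (by
      have := C.T.mul_mem h (C.T.inv_mem (C.DT hv1))
      rwa [mul_inv_rev, inv_inv, mul_inv_cancel_left] at this)
    have hwT : w ∉ C.T := fun h => hty (by
      have := C.T.mul_mem h (C.T.inv_mem (C.DT hw1))
      rwa [mul_inv_rev, inv_inv, mul_inv_cancel_left] at this)
    have hv2 : v * v = 1 := SixInv.conj_square C.tsq hv
    have hw2 : w * w = 1 := SixInv.conj_square C.tsq hw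
    have hxT : v * w ∈ C.T := hmulT hvS hwS hvT hwT
    have hxD : v * w ∉ C.D := by
      intro h
      have h1 := C.D.mul_mem hv1 (C.D.mul_mem h (C.D.inv_mem hw1))
      have e : y⁻¹ * v * (v * w * ((C.t * y)⁻¹ * w)⁻¹) = y⁻¹ * C.t * y := by
        rw [show y⁻¹ * v * (v * w * ((C.t * y)⁻¹ * w)⁻¹) = y⁻¹ * (v * v) * C.t * y by group, hv2, mul_one]
      rw [e] at h1
      have h2' := hDconj y hy _ h1
      rw [show y * (y⁻¹ * C.t * y) * y⁻¹ = C.t by group] at h2'
      exact C.tnot h2'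
    obtain ⟨f, hf_def⟩ : ∃ f, f = C.t * (v * w) := ⟨_, rfl⟩
    have hfD : f ∈ C.D := hf_def ▸ ((C.memT _).1 hxT).resolve_left hxD
    have hwv : w = v * C.t * f := by
      rw [hf_def, mul_assoc v, C.tt_mul, ← mul_assoc, hv2, one_mul]
    have hvt := hmoves v hvS hvT
    have hvz : v * C.z = C.z * v := hzS v hvS
    by_cases hf2 : f * f = 1
    · have hx2 : v * w * (v * w) = 1 := by
        have := C.sq_t_mul hfD
        rw [hf2, hf_def, C.tt_mul] at this
        exact this
      have hcomm : w * v = v * w := by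
        have := eq_inv_of_mul_eq_one_right hx2
        rw [mul_inv_rev, inv_eq_of_mul_eq_one_right hv2, inv_eq_of_mul_eq_one_right hw2] at this
        exact this.symm
      refine (C.rule hD htD hv hw2 hcomm (fun h => hwT (h ▸ C.T.one_mem)) (fun h => hxD (by
        rw [h, hv2]; exact one_mem _))).1 hw ?_
      have := htD f hfD hf2
      rwa [hf_def, C.tt_mul] at this
    have hvinv : v * (C.t * f) * v⁻¹ = f⁻¹ * C.t := by
      have e1 : C.t * f = v * w := by rw [hf_def, C.tt_mul]
      rw [e1, show f⁻¹ * C.t = (C.t * f)⁻¹ by rw [mul_inv_rev, inv_eq_of_mul_eq_one_right C.tsq], e1, mul_inv_rev,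
        ← mul_assoc, hv2, one_mul, inv_eq_of_mul_eq_one_right hv2, inv_eq_of_mul_eq_one_right hw2]
    have hfv : v * f * v⁻¹ = f⁻¹ * C.z := by
      rw [OCfg.conj_mul', hvt] at hvinv
      rw [C.commD _ (C.D.inv_mem hfD), mul_assoc] at hvinv
      have h1 := mul_left_cancel hvinv
      calc v * f * v⁻¹ = C.z * (C.z * (v * f * v⁻¹)) := by rw [← mul_assoc, C.z2, one_mul]
        _ = C.z * f⁻¹ := by rw [h1]
        _ = f⁻¹ * C.z := by rw [C.zc _ (C.D.inv_mem hfD)]
    set K := centralizer ({v} : Set G)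
    have htwo : ∀ {a b}, a ∈ C.D → b ∈ C.D → a * v ≠ v * a → b * v ≠ v * b → a * b * v = v * (a * b) := by
      intro a b ha hb ha' hb'
      set SK := K.subgroupOf (S : Subgroup G)
      have hle : Nat.card C.T ≤ Nat.card SK := by
        refine hvC.trans (le_of_eq ?_)
        rw [show SK = ((S : Subgroup G) ⊓ K).subgroupOf (S : Subgroup G) by rw [Subgroup.inf_subgroupOf_left]]
        exact (Nat.card_congr (Subgroup.subgroupOfEquivOfLe inf_le_left).toEquiv).symm
      have hi : SK.index = 2 := by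
        have hane : (⟨a, hlt.le (C.DT ha)⟩ : (S : Subgroup G)) ∉ SK := fun h =>
          ha' (mem_centralizer_singleton_iff.1 h)
        have h1 : SK.index ≠ 1 := fun h => hane (Subgroup.index_eq_one.1 h ▸ Subgroup.mem_top _)
        have h0 : SK.index ≠ 0 := Subgroup.index_ne_zero_of_finite
        have h3 : SK.index ≤ 2 := by
          have e := SK.card_mul_index
          rw [hS] at e
          refine Nat.le_of_mul_le_mul_left (?_ : Nat.card C.T * SK.index ≤ Nat.card C.T * 2) Nat.card_pos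
          calc Nat.card C.T * SK.index ≤ Nat.card SK * SK.index := Nat.mul_le_mul_right _ hle
            _ = Nat.card C.T * 2 := by rw [e, mul_comm]
        omega
      exact mem_centralizer_singleton_iff.1 ((Subgroup.mul_mem_iff_of_index_two hi (a := ⟨a, hlt.le (C.DT ha)⟩)
        (b := ⟨b, hlt.le (C.DT hb)⟩)).2 (iff_of_false (fun h => ha' (mem_centralizer_singleton_iff.1 h))
          (fun h => hb' (mem_centralizer_singleton_iff.1 h))))
    have hfz : f * f = C.z := by
      by_cases hcf : f * v = v * f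
      · rw [← hcf, mul_inv_cancel_right] at hfv
        calc f * f = f * (f⁻¹ * C.z) := by rw [← hfv]
          _ = C.z := by group
      · have h := htwo hfD hfD hcf hcf
        have h1 : v * (f * f) * v⁻¹ = f * f := by rw [← h, mul_inv_cancel_right]
        rw [OCfg.conj_mul', hfv] at h1
        have e : f⁻¹ * C.z * (f⁻¹ * C.z) = f⁻¹ * f⁻¹ := by
          rw [mul_assoc, ← mul_assoc C.z, ← C.zc _ (C.D.inv_mem hfD), mul_assoc f⁻¹ C.z C.z, C.z2, mul_one]
        rw [e] at h1
        refine (C.sq2 f hfD ?_).resolve_left hf2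
        calc f * f * (f * f) = f * f * (f⁻¹ * f⁻¹) := by rw [h1]
          _ = 1 := by group
    have hvf : v * f = f * v := by
      have e : f⁻¹ * C.z = f := by rw [← hfz]; group
      rw [e] at hfv
      exact mul_inv_eq_iff_eq_mul.1 hfv
    obtain ⟨d, hdD, hd2, hdf⟩ := C.inverter f hfD hfz
    by_cases hvd : v * d = d * v
    · exact C.clash hD htD hv hw hvT hwT hvt hwv hfD hfz hdD hd2 hdf hvf hvd hvz
    obtain ⟨e, he⟩ : ∃ e, e = d * (v * d * v⁻¹) := ⟨_, rfl⟩
    have hdvD := hDconj v hvS d hdD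
    have heD : e ∈ C.D := he ▸ C.D.mul_mem hdD hdvD
    have hef : e * f = f * e := by
      have h1 : v * d * v⁻¹ * f * (v * d * v⁻¹) = f⁻¹ := by
        have h0 : v⁻¹ * f * v = f := by rw [mul_assoc, ← hvf, inv_mul_cancel_left]
        calc v * d * v⁻¹ * f * (v * d * v⁻¹) = v * (d * (v⁻¹ * f * v) * d) * v⁻¹ := by group
          _ = v * f⁻¹ * v⁻¹ := by rw [h0, hdf]
          _ = f⁻¹ := by
            have h3 : v * f⁻¹ = f⁻¹ * v := (Commute.inv_right (hvf : Commute v f)).eq
            rw [h3, mul_inv_cancel_right]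
      have hdi : d⁻¹ = d := inv_eq_of_mul_eq_one_right hd2
      have hd'2 : v * d * v⁻¹ * (v * d * v⁻¹) = 1 := by rw [← OCfg.conj_mul', hd2]; group
      have h2' : v * d * v⁻¹ * f = f⁻¹ * (v * d * v⁻¹) := by
        calc v * d * v⁻¹ * f = v * d * v⁻¹ * f * (v * d * v⁻¹) * (v * d * v⁻¹) := by
              rw [mul_assoc _ (v * d * v⁻¹) (v * d * v⁻¹), hd'2, mul_one]
          _ = f⁻¹ * (v * d * v⁻¹) := by rw [h1]
      have h3' : d * f⁻¹ = f * d := by rw [← hdf, mul_assoc d f d, ← mul_assoc d d, hd2, one_mul]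
      rw [he, mul_assoc, h2', ← mul_assoc, h3', mul_assoc]
    have hecomm : ∀ h ∈ C.D, h * v = v * h → e * h = h * e := by
      intro h hh hhv
      have hdh : d * h * v ≠ v * (d * h) := by
        intro h'
        apply hvd
        have e2 : d * v * h = v * d * h := by
          rw [mul_assoc, ← hhv, ← mul_assoc, h', mul_assoc]
        exact (mul_right_cancel e2).symm
      have h3 := htwo (C.D.mul_mem hdD hh) hdD hdh (Ne.symm hvd)
      have h4 : v * (d * h * d) * v⁻¹ = d * h * d := by rw [← h3, mul_inv_cancel_right]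
      have hhv' : v * h * v⁻¹ = h := by rw [← hhv, mul_inv_cancel_right]
      rw [OCfg.conj_mul', OCfg.conj_mul', hhv'] at h4
      have hd'2 : v * d * v⁻¹ * (v * d * v⁻¹) = 1 := by rw [← OCfg.conj_mul', hd2]; group
      have h5 : d * (v * d * v⁻¹ * h * (v * d * v⁻¹)) = h * d := by rw [h4, ← mul_assoc, ← mul_assoc, hd2, one_mul]
      calc e * h = d * (v * d * v⁻¹ * h * (v * d * v⁻¹)) * (v * d * v⁻¹) := by
            rw [he, mul_assoc d (v * d * v⁻¹ * h * _), mul_assoc (v * d * v⁻¹ * h), hd'2, mul_one, mul_assoc d (v * d * v⁻¹) h]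
        _ = h * e := by rw [h5, he, mul_assoc]
    have hev : e * v = v * e := by
      by_contra hne
      have hed := htwo heD hdD hne (Ne.symm hvd)
      have hed' := hecomm (e * d) (C.D.mul_mem heD hdD) hed
      have hde : d * e = e * d := (mul_left_cancel (a := e) (hed'.trans (mul_assoc e d e))).symm
      have hcen : ∀ h ∈ C.D, h * e = e * h := by
        intro h hh
        by_cases hhv : h * v = v * h
        · exact (hecomm h hh hhv).symm
        · have h6 := hecomm (h * d) (C.D.mul_mem hh hdD) (htwo hh hdD hhv (Ne.symm hvd))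
          refine mul_right_cancel (b := d) ?_
          rw [mul_assoc, ← hde, ← mul_assoc, ← h6, mul_assoc]
      rcases C.centre e heD hcen with h | h
      · exact hne (by rw [h, one_mul, mul_one])
      · exact hne (by rw [h, hvz])
    have hvdv : v * (v * d * v⁻¹) * v⁻¹ = d := by
      rw [inv_eq_of_mul_eq_one_right hv2, ← mul_assoc, ← mul_assoc, hv2, one_mul, mul_assoc, hv2, mul_one]
    have he2 : e * e = 1 := by
      have h1 : v * e * v⁻¹ = e := by rw [← hev, mul_inv_cancel_right]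
      rw [he, OCfg.conj_mul', hvdv] at h1
      have hd'2 : v * d * v⁻¹ * (v * d * v⁻¹) = 1 := by rw [← OCfg.conj_mul', hd2]; group
      calc e * e = d * (v * d * v⁻¹) * (v * d * v⁻¹ * d) := by rw [h1, he]
        _ = 1 := by rw [mul_assoc, ← mul_assoc (v * d * v⁻¹), hd'2, one_mul, hd2]
    rcases C.commf f hfD hfz e heD he2 hef with h | h
    · apply hvd
      rw [he] at h
      have := eq_inv_of_mul_eq_one_right h
      rw [inv_eq_of_mul_eq_one_right hd2] at this
      exact mul_inv_eq_iff_eq_mul.1 this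
    · have hdz : v * d * v⁻¹ = d * C.z := by
        rw [← h, he, ← mul_assoc, hd2, one_mul]
      -- the roles of `v` and `w` swapped
      have hfdf : f * d * f⁻¹ = C.z * d := by
        have h' : d * f⁻¹ = f * d := by
          rw [← hdf, mul_assoc d f d, ← mul_assoc d d, hd2, one_mul]
        rw [mul_assoc, h', ← mul_assoc, hfz]
      have hwd : w * d = d * w := by
        apply mul_inv_eq_iff_eq_mul.1
        calc w * d * w⁻¹ = v * (C.t * (f * d * f⁻¹) * C.t⁻¹) * v⁻¹ := by rw [hwv]; group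
          _ = v * (C.z * d) * v⁻¹ := by
            rw [hfdf, ← C.commD _ (C.D.mul_mem C.zD hdD), mul_inv_cancel_right]
          _ = d := by
            rw [OCfg.conj_mul', hvz, mul_inv_cancel_right, hdz, C.zc d hdD, ← mul_assoc, C.z2, one_mul]
      have hwf : w * f = f * w := by
        rw [hwv, show f * (v * C.t * f) = f * v * C.t * f by group, ← hvf]
        calc v * C.t * f * f = v * (C.t * f) * f := by group
          _ = v * (f * C.t) * f := by rw [C.commD f hfD]
          _ = v * f * C.t * f := by group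
      have hfi : f⁻¹ * f⁻¹ = C.z := by
        rw [← mul_inv_rev, hfz, inv_eq_of_mul_eq_one_right C.z2]
      have hdfi : d * f⁻¹ * d = f⁻¹⁻¹ := by
        rw [inv_inv]
        calc d * f⁻¹ * d = d * (d * f * d) * d := by rw [hdf]
          _ = (d * d) * f * (d * d) := by group
          _ = f := by rw [hd2, one_mul, mul_one]
      refine C.clash hD htD hw hv hwT hvT (hmoves w hwS hwT) ?_ (C.D.inv_mem hfD) hfi hdD hd2 hdfi
        (Commute.inv_right (hwf : Commute w f)).eq hwd (hzS w hwS)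
      rw [hwv, mul_assoc _ C.t f⁻¹, ← C.commD _ (C.D.inv_mem hfD),
        show v * C.t * f * (f⁻¹ * C.t) = v * (C.t * C.t) by group, C.tsq, mul_one]

theorem four_le_false (h2 : ∀ H : Subgroup G, H.index ≠ 2) (S : Sylow 2 G) (hlt : C.T < (S : Subgroup G))
    (h4 : 4 * Nat.card C.T ≤ Nat.card (S : Subgroup G)) {x : G} (hxS : x ∈ (S : Subgroup G)) (hx2 : x * x = 1)
    (hx1 : x ≠ 1) (hxz : x ≠ C.z) (hxcl : ∀ s ∈ (S : Subgroup G), s * x * s⁻¹ = x ∨ s * x * s⁻¹ = x * C.z)
    (hxt : x * C.t = C.t * x)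
    (hM : 2 * Nat.card ↥((S : Subgroup G) ⊓ centralizer ({x} : Set G)) = Nat.card (S : Subgroup G)) : False := by
  obtain ⟨hzS, hD, htD, m, hmS, hmN, hmt⟩ := C.fusion S hlt
  have hxT := C.full.inter S.2 hlt.le hxS hxt
  rcases C.cls_or hD htD hxT hx2 with hxD | hcls
  · refine C.klein_false h2 S hlt.le hD htD hzS hxD hx2 hx1 hxz hxcl ?_ hM
    exact C.refl8 x hxD hx2 hx1 hxz fun d hd => hxcl d (hlt.le (C.DT hd))
  · obtain ⟨g, hg⟩ := isConj_iff.1 hcls
    have h := C.full.card_le (P := ((S : Subgroup G) ⊓ centralizer ({x} : Set G)).map (MulAut.conj g⁻¹).toMonoidHom)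
      ((S.2.to_le inf_le_left).map _) (by
        rintro _ ⟨y, hy, rfl⟩
        show g⁻¹ * y * g⁻¹⁻¹ * C.t = C.t * (g⁻¹ * y * g⁻¹⁻¹)
        calc _ = g⁻¹ * (y * (g * C.t * g⁻¹)) * g := by group
          _ = _ := by rw [hg, mem_centralizer_singleton_iff.1 hy.2, ← hg]; group)
    rw [Subgroup.card_map_of_injective (MulEquiv.injective _)] at h
    have : 0 < Nat.card C.T := Nat.card_pos
    omega

/-- There is no such group. -/
theorem false_of_simple [IsSimpleGroup G] (hG : ¬ IsMulCommutative G) (h2 : ∀ H : Subgroup G, H.index ≠ 2)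
    (C : OCfg G) : False := by
  classical
  haveI : Fact (Nat.Prime 2) := ⟨Nat.prime_two⟩
  obtain ⟨S, hTS⟩ := C.full.exists_sylow
  have hlt := C.lt_sylow hG S hTS
  obtain ⟨hzS, hD, htD, m, hmS, hmN, hmt⟩ := C.fusion S hlt
  obtain ⟨a, ha⟩ := IsPGroup.iff_card.1 C.full.pg
  obtain ⟨b, hb⟩ := IsPGroup.iff_card.1 S.2
  have hab : a < b := by
    by_contra h
    exact hlt.ne (Subgroup.eq_of_le_of_card_ge hlt.le (by rw [ha, hb]; exact Nat.pow_le_pow_right (by norm_num) (by omega)))
  by_cases hb1 : b = a + 1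
  · exact C.two_false h2 S hlt (by rw [ha, hb, hb1, pow_succ'])
  have h4 : 4 * Nat.card C.T ≤ Nat.card (S : Subgroup G) := by
    rw [ha, hb, show 4 * 2 ^ a = 2 ^ (a + 2) by ring]
    exact Nat.pow_le_pow_right (by norm_num) (by omega)
  have htS : C.t ∈ (S : Subgroup G) := hlt.le C.tT
  -- a normal four-group
  obtain ⟨V, hVn, hV4, hV2⟩ : ∃ V : Subgroup (S : Subgroup G), V.Normal ∧ Nat.card V = 4 ∧ ∀ v ∈ V, v * v = 1 := by
    by_contra hno
    push Not at hno
    rcases KleinGammaRank.structure_of_no_normal_four S.2 (⊤ : Subgroup (S : Subgroup G))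
      (fun V hV _ h4' h2' => by
        obtain ⟨v, hv, hv'⟩ := hno V hV h4'
        exact hv' (h2' v hv)) with ⟨r, hr⟩ | ⟨r, n, -, hrn, -, hcos, -⟩
    · have hcomm : ∀ p q : (S : Subgroup G), p * q = q * p := by
        intro p q
        obtain ⟨i, rfl⟩ := (hr ▸ Subgroup.mem_top p : p ∈ Subgroup.zpowers r)
        obtain ⟨j, rfl⟩ := (hr ▸ Subgroup.mem_top q : q ∈ Subgroup.zpowers r)
        exact (Commute.zpow_zpow_self r i j).eq
      have h := congrArg Subtype.val (hcomm ⟨m, hmS⟩ ⟨C.t, htS⟩)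
      simp only [Subgroup.coe_mul] at h
      rw [h, mul_inv_cancel_right] at hmt
      exact C.z1 (mul_eq_left.1 hmt.symm)
    · obtain ⟨f0, hf0D, hf0⟩ := C.zsq
      obtain ⟨d, hdD, hd2, hdf⟩ := C.inverter f0 hf0D hf0
      have hdS : d ∈ (S : Subgroup G) := hlt.le (C.DT hdD)
      have hzS' : C.z ∈ (S : Subgroup G) := hlt.le (C.DT C.zD)
      have hd1 : d ≠ 1 := fun h => C.z1 (by
        rw [h, one_mul, mul_one] at hdf
        rw [← hf0]; nth_rw 2 [hdf]; rw [mul_inv_cancel])
      -- one of `p`, `q`, `p * q` is in the cyclic group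
      have hone : ∀ p q : (S : Subgroup G), p * p = 1 →
          p ∈ Subgroup.zpowers r ∨ q ∈ Subgroup.zpowers r ∨ p * q ∈ Subgroup.zpowers r := by
        intro p q hp
        by_cases h1 : p ∈ Subgroup.zpowers r
        · exact Or.inl h1
        by_cases h2' : q ∈ Subgroup.zpowers r
        · exact Or.inr (Or.inl h2')
        have := hcos p (Subgroup.mem_top _) h1 q (Subgroup.mem_top _) h2'
        rw [inv_eq_of_mul_eq_one_right hp] at this
        exact Or.inr (Or.inr this)
      set T' : (S : Subgroup G) := ⟨C.t, htS⟩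
      set Z' : (S : Subgroup G) := ⟨C.z, hzS'⟩
      set E' : (S : Subgroup G) := ⟨d, hdS⟩
      have hinvTZ : T' * Z' * (T' * Z') = 1 := Subtype.ext (by
        show C.t * C.z * (C.t * C.z) = 1; rw [C.sq_t_mul C.zD, C.z2])
      have hinvTE : T' * E' * (T' * E') = 1 := Subtype.ext (by
        show C.t * d * (C.t * d) = 1; rw [C.sq_t_mul hdD, hd2])
      have huniq := fun (p q : (S : Subgroup G)) (hp : p ∈ Subgroup.zpowers r) (hq : q ∈ Subgroup.zpowers r) =>
        RankTwoSylow.cyc_unique hp hq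
      have hTz : T' ∈ Subgroup.zpowers r := by
        rcases hone T' Z' (Subtype.ext C.tsq) with h | h | h
        · exact h
        all_goals rcases hone T' E' (Subtype.ext C.tsq) with h' | h' | h'
        all_goals try exact h'
        · exfalso
          have e := huniq _ _ h h' (Subtype.ext C.z2) (Subtype.ext hd2) (fun e => C.z1 (congrArg Subtype.val e))
            (fun e => hd1 (congrArg Subtype.val e))
          have e' : C.z = d := congrArg Subtype.val e
          rw [← e', C.zc _ hf0D |>.symm, mul_assoc, C.z2, mul_one] at hdf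
          exact C.z1 (by rw [← hf0]; nth_rw 2 [hdf]; rw [mul_inv_cancel])
        · exfalso
          have e := huniq _ _ h h' (Subtype.ext C.z2) hinvTE (fun e => C.z1 (congrArg Subtype.val e))
            (fun e => C.tnot (by
              have e' : C.t * d = 1 := congrArg Subtype.val e
              rw [eq_inv_of_mul_eq_one_left e']; exact C.D.inv_mem hdD))
          have e' : C.z = C.t * d := congrArg Subtype.val e
          exact C.tnot ((Subgroup.mul_mem_cancel_right _ hdD).1 (e' ▸ C.zD))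
        · exfalso
          have e := huniq _ _ h' h (Subtype.ext hd2) hinvTZ (fun e => hd1 (congrArg Subtype.val e))
            (fun e => C.tnot (by
              have e' : C.t * C.z = 1 := congrArg Subtype.val e
              rw [eq_inv_of_mul_eq_one_left e']; exact C.D.inv_mem C.zD))
          have e' : d = C.t * C.z := congrArg Subtype.val e
          exact C.tnot ((Subgroup.mul_mem_cancel_right _ C.zD).1 (e' ▸ hdD))
        · exfalso
          have e := huniq _ _ h' h hinvTE hinvTZ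
            (fun e => C.tnot (by
              have e' : C.t * d = 1 := congrArg Subtype.val e
              rw [eq_inv_of_mul_eq_one_left e']; exact C.D.inv_mem hdD))
            (fun e => C.tnot (by
              have e' : C.t * C.z = 1 := congrArg Subtype.val e
              rw [eq_inv_of_mul_eq_one_left e']; exact C.D.inv_mem C.zD))
          have e' : C.t * d = C.t * C.z := congrArg Subtype.val e
          have e'' := mul_left_cancel e'
          rw [e'', C.zc _ hf0D |>.symm, mul_assoc, C.z2, mul_one] at hdf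
          exact C.z1 (by rw [← hf0]; nth_rw 2 [hdf]; rw [mul_inv_cancel])
      have hconjT := hrn.conj_mem T' hTz ⟨m, hmS⟩
      have e := huniq _ _ hconjT hTz (Subtype.ext (by
          show m * C.t * m⁻¹ * (m * C.t * m⁻¹) = 1
          rw [← OCfg.conj_mul', C.tsq]; group)) (Subtype.ext C.tsq)
        (fun e => C.tne (conj_eq_one_iff.1 (congrArg Subtype.val e))) (fun e => C.tne (congrArg Subtype.val e))
      have e' : m * C.t * m⁻¹ = C.t := congrArg Subtype.val e
      rw [hmt] at e'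
      exact C.z1 (mul_eq_left.1 e')
  -- it contains `z`
  have hzV : (⟨C.z, hlt.le (C.DT C.zD)⟩ : (S : Subgroup G)) ∈ V := by
    haveI := hVn
    have hne : V ≠ ⊥ := fun e => by rw [e, Subgroup.card_bot] at hV4; omega
    obtain ⟨c', hc'⟩ := Subgroup.ne_bot_iff_exists_ne_one.1 (PushUp3.inf_center_ne_bot S.2 hne)
    obtain ⟨c, hc, hc1⟩ : ∃ c, c ∈ V ⊓ Subgroup.center (S : Subgroup G) ∧ c ≠ 1 :=
      ⟨c'.1, c'.2, fun e => hc' (Subtype.ext e)⟩
    have hcc : ∀ s ∈ (S : Subgroup G), s * (c : G) = (c : G) * s := fun s hs =>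
      congrArg Subtype.val (Subgroup.mem_center_iff.1 hc.2 ⟨s, hs⟩)
    have hcT := C.full.inter S.2 hlt.le c.2 (hcc C.t htS).symm
    have hcm := hcc m hmS
    rcases C.centT hcT (fun d hd => hcc d (hlt.le (C.DT hd))) with h | h | h | h
    · exact absurd (Subtype.ext h) hc1
    · rw [h] at hcm
      rw [hcm, mul_inv_cancel_right] at hmt
      exact absurd (mul_eq_left.1 hmt.symm) C.z1
    · have : c = ⟨C.z, hlt.le (C.DT C.zD)⟩ := Subtype.ext h
      exact this ▸ hc.1
    · rw [h] at hcm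
      have h2' : m * (C.t * C.z) * m⁻¹ = C.t * C.z := by rw [hcm, mul_inv_cancel_right]
      rw [OCfg.conj_mul', hmt, C.z_fix hmN, mul_assoc, C.z2, mul_one] at h2'
      exact absurd (mul_eq_left.1 h2'.symm) C.z1
  set Z' : (S : Subgroup G) := ⟨C.z, hlt.le (C.DT C.zD)⟩
  obtain ⟨x', hx'V, hx'1, hx'z⟩ : ∃ x ∈ V, x ≠ 1 ∧ x ≠ Z' := by
    by_contra hc
    push Not at hc
    have hsub : (V : Set (S : Subgroup G)) ⊆ {1, Z'} := fun v hv => by
      by_cases v1 : v = 1
      · exact Or.inl v1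
      · exact Or.inr (hc v hv v1)
    have h1 := Set.ncard_le_ncard hsub
    rw [← Nat.card_coe_set_eq, SetLike.coe_sort_coe, hV4] at h1
    have := Set.ncard_insert_le (1 : (S : Subgroup G)) {Z'}
    rw [Set.ncard_singleton] at this
    omega
  set x : G := (x' : G) with hx
  have hxS : x ∈ (S : Subgroup G) := x'.2
  have hx2 : x * x = 1 := congrArg Subtype.val (hV2 x' hx'V)
  have hx1 : x ≠ 1 := fun e => hx'1 (Subtype.ext e)
  have hxz : x ≠ C.z := fun e => hx'z (Subtype.ext e)
  -- the four elements of `V`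
  have hVel : ∀ v ∈ V, v = 1 ∨ v = x' ∨ v = Z' ∨ v = x' * Z' := by
    intro v hv
    by_contra! hne
    obtain ⟨n1, n2, n3, n4⟩ := hne
    haveI : Fintype V := Fintype.ofFinite _
    let g : Fin 5 → V := ![1, ⟨x', hx'V⟩, ⟨Z', hzV⟩, ⟨x' * Z', mul_mem hx'V hzV⟩, ⟨v, hv⟩]
    have hz'1 : Z' ≠ 1 := fun e => C.z1 (congrArg Subtype.val e)
    have hxz1 : x' * Z' ≠ 1 := fun e => hx'z (by
      rw [eq_inv_of_mul_eq_one_left e, inv_eq_of_mul_eq_one_right (hV2 Z' hzV)])
    have hxzx : x' * Z' ≠ x' := fun e => hz'1 (mul_eq_left.1 e)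
    have hxzz : x' * Z' ≠ Z' := fun e => hx'1 (mul_eq_right.1 e)
    have hinj : Function.Injective g := by
      intro i j hij
      have h' := congrArg (fun y : V => (y : (S : Subgroup G))) hij
      fin_cases i <;> fin_cases j <;> simp [g] at h' ⊢ <;>
        first
          | exact hx'1 h' | exact hx'1 h'.symm | exact hz'1 h' | exact hz'1 h'.symm | exact hxz1 h'
          | exact hxz1 h'.symm | exact n1 h' | exact n1 h'.symm | exact hx'z h' | exact hx'z h'.symm
          | exact hxzx h' | exact hxzx h'.symm | exact hxzz h' | exact hxzz h'.symm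
          | exact n2 h' | exact n2 h'.symm | exact n3 h' | exact n3 h'.symm | exact n4 h' | exact n4 h'.symm
    have := Fintype.card_le_of_injective g hinj
    rw [Fintype.card_fin, ← Nat.card_eq_fintype_card, hV4] at this
    omega
  have hxcl : ∀ s ∈ (S : Subgroup G), s * x * s⁻¹ = x ∨ s * x * s⁻¹ = x * C.z := by
    intro s hs
    rcases hVel _ (hVn.conj_mem x' hx'V ⟨s, hs⟩) with h | h | h | h
    · exact absurd (conj_eq_one_iff.1 (congrArg Subtype.val h)) hx1
    · exact Or.inl (congrArg Subtype.val h)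
    · exfalso
      have h' : s * x * s⁻¹ = C.z := congrArg Subtype.val h
      refine hxz (OCfg.conj_inj (g := s).1 (h'.trans ?_))
      rw [hzS s hs, mul_inv_cancel_right]
    · exact Or.inr (congrArg Subtype.val h)
  have hM : 2 * Nat.card ↥((S : Subgroup G) ⊓ centralizer ({x} : Set G)) = Nat.card (S : Subgroup G) := by
    set Kx := (centralizer ({x} : Set G)).subgroupOf (S : Subgroup G)
    have hmem : ∀ a : (S : Subgroup G), a ∈ Kx ↔ (a : G) * x * (a : G)⁻¹ = x := fun a => by
      rw [mem_subgroupOf, mem_centralizer_singleton_iff, mul_inv_eq_iff_eq_mul]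
    obtain ⟨s, hs⟩ : ∃ s : (S : Subgroup G), s ∉ Kx := by
      by_contra hall
      push Not at hall
      have hcc : ∀ s ∈ (S : Subgroup G), s * x = x * s := fun s hs => mem_centralizer_singleton_iff.1 (hall ⟨s, hs⟩)
      have hxT := C.full.inter S.2 hlt.le hxS (hcc C.t htS).symm
      have hxm := hcc m hmS
      rcases C.centT hxT (fun d hd => hcc d (hlt.le (C.DT hd))) with h | h | h | h
      · exact hx1 h
      · rw [h] at hxm
        rw [hxm, mul_inv_cancel_right] at hmt
        exact C.z1 (mul_eq_left.1 hmt.symm)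
      · exact hxz h
      · rw [h] at hxm
        have h2' : m * (C.t * C.z) * m⁻¹ = C.t * C.z := by rw [hxm, mul_inv_cancel_right]
        rw [OCfg.conj_mul', hmt, C.z_fix hmN, mul_assoc, C.z2, mul_one] at h2'
        exact C.z1 (mul_eq_left.1 h2'.symm)
    have hi : Kx.index = 2 := by
      rw [Subgroup.index_eq_two_iff_exists_notMem_and']
      refine ⟨s, hs, fun b => ?_⟩
      by_cases hb : b ∈ Kx
      · exact Or.inr hb
      left
      rw [hmem] at hb hs ⊢
      have e1 := ((hxcl s s.2).resolve_left hs)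
      have e2 := ((hxcl b b.2).resolve_left hb)
      show (s : G) * b * x * ((s : G) * b)⁻¹ = x
      rw [show (s : G) * b * x * ((s : G) * b)⁻¹ = (s : G) * ((b : G) * x * (b : G)⁻¹) * (s : G)⁻¹ by group, e2,
        OCfg.conj_mul', e1, hzS s s.2, mul_inv_cancel_right, mul_assoc, C.z2, mul_one]
    rw [← Kx.card_mul_index, hi, show Kx = ((S : Subgroup G) ⊓ centralizer ({x} : Set G)).subgroupOf _ by
        rw [Subgroup.inf_subgroupOf_left], Nat.card_congr (Subgroup.subgroupOfEquivOfLe inf_le_left).toEquiv]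
    ring
  by_cases hxt : x * C.t = C.t * x
  · exact C.four_le_false h2 S hlt h4 hxS hx2 hx1 hxz hxcl hxt hM
  -- replace `t` by an extremal conjugate in the centralizer of `x`
  obtain ⟨c, hc, hcC⟩ := C.full.dvd_card
  obtain ⟨v, hvM, hv, hdiv⟩ := exists_extremal h2 S (M := (S : Subgroup G) ⊓ centralizer ({x} : Set G))
    inf_le_left hM C.tsq hcC
  obtain ⟨g, hg⟩ := isConj_iff.1 hv
  obtain ⟨c0, hc0, hc0T⟩ := C.full.max (((S : Subgroup G) ⊓ centralizer ({v} : Set G)).map (MulAut.conj g⁻¹).toMonoidHom)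
    ((S.2.to_le inf_le_left).map _) (by
      rintro _ ⟨y, hy, rfl⟩
      show g⁻¹ * y * g⁻¹⁻¹ * C.t = C.t * (g⁻¹ * y * g⁻¹⁻¹)
      calc _ = g⁻¹ * (y * (g * C.t * g⁻¹)) * g := by group
        _ = _ := by rw [hg, mem_centralizer_singleton_iff.1 hy.2, ← hg]; group)
  set h := g * c0⁻¹ with hh
  have hmap : C.T.map (MulAut.conj h).toMonoidHom = (S : Subgroup G) ⊓ centralizer ({v} : Set G) := by
    refine (Subgroup.eq_of_le_of_card_ge ?_ ?_).symm
    · intro y hy
      refine ⟨_, hc0T _ ⟨y, hy, rfl⟩, ?_⟩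
      show h * (c0 * (g⁻¹ * y * g⁻¹⁻¹) * c0⁻¹) * h⁻¹ = y
      rw [hh]; group
    · rw [Subgroup.card_map_of_injective (MulEquiv.injective _), hc]
      exact Nat.le_of_dvd Nat.card_pos hdiv
  have hht : h * C.t * h⁻¹ = v := by
    have e : c0⁻¹ * C.t * c0 = C.t := by rw [mul_assoc, ← hc0, inv_mul_cancel_left]
    rw [hh, show g * c0⁻¹ * C.t * (g * c0⁻¹)⁻¹ = g * (c0⁻¹ * C.t * c0) * g⁻¹ by group, e, hg]
  set C' := C.map h
  have hT' : C'.T ≤ (S : Subgroup G) := hmap.le.trans inf_le_left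
  have hlt' := C'.lt_sylow hG S hT'
  have hz' : C'.z = C.z := by
    obtain ⟨hz1, hD1, htD1, m1, hm1S, hm1N, hm1t⟩ := C'.fusion S hlt'
    -- `z` and `C'.z` are central in `S`, so both lie in the centre of `T`
    have hzT := C.full.inter S.2 hlt.le (hT' (C'.DT C'.zD)) (hz1 C.t htS).symm
    rcases C.centT hzT (fun d hd => hz1 d (hlt.le (C.DT hd))) with h | h | h | h
    · exact absurd h C'.z1
    · exfalso
      have := hz1 m hmS
      rw [h] at this
      rw [this, mul_inv_cancel_right] at hmt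
      exact C.z1 (mul_eq_left.1 hmt.symm)
    · exact h
    · exfalso
      have hxm := hz1 m hmS
      rw [h] at hxm
      have h2' : m * (C.t * C.z) * m⁻¹ = C.t * C.z := by rw [hxm, mul_inv_cancel_right]
      rw [OCfg.conj_mul', hmt, C.z_fix hmN, mul_assoc, C.z2, mul_one] at h2'
      exact C.z1 (mul_eq_left.1 h2'.symm)
  have hcard' : Nat.card C'.T = Nat.card C.T :=
    Subgroup.card_map_of_injective (MulEquiv.injective _)
  refine C'.four_le_false h2 S hlt' (by rw [hcard']; exact h4) hxS hx2 hx1 (hz'.symm ▸ hxz) (hz'.symm ▸ hxcl) ?_ hM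
  show x * (h * C.t * h⁻¹) = h * C.t * h⁻¹ * x
  rw [hht]
  exact (mem_centralizer_singleton_iff.1 hvM.2).symm

end OCfg

end Cfsg.Agent.TwoXDih
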