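import Cfsg.Agent.Lib.TwoXDih.EFinal
import Cfsg.Agent.Lib.TwoXDih.Odd

/-!
# Simple groups with `C(t)` of shape `2 × L₂(q)`
-/

set_option autoImplicit false
set_option linter.unusedSectionVars false
set_option linter.style.haveILetI false

namespace Cfsg.Agent.TwoXDih

universe u

variable {G : Type u} [Group G] [Finite G]

theorem no_index_two [IsSimpleGroup G] (hG : ¬ IsMulCommutative G) (H : Subgroup G) : H.index ≠ 2 := by
  intro hH
  rcases (Subgroup.normal_of_index_eq_two hH).eq_bot_or_eq_top with h | h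
  · rw [h, Subgroup.index_bot] at hH
    haveI : Fact (Nat.Prime 2) := ⟨Nat.prime_two⟩
    exact hG (isCyclic_of_prime_card hH).isMulCommutative
  · rw [h, Subgroup.index_top] at hH
    omega

/-- From the two configurations to the conclusion. -/
theorem goal_of_cfg [IsSimpleGroup G] (hG : ¬ IsMulCommutative G)
    (h : (∃ C : ECfg G, 8 ≤ Nat.card C.D → Nonempty (Coord C)) ∨ Nonempty (OCfg G)) (S : Sylow 2 G) :
    Nat.card (S : Subgroup G) = 8 ∧ ∀ x ∈ (S : Subgroup G), x ^ 2 = 1 := by
  rcases h with ⟨C, hC⟩ | ⟨⟨C⟩⟩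
  · exact ECfg.goal hG (no_index_two hG) C hC S
  · exact (OCfg.false_of_simple hG (no_index_two hG) C).elim

end Cfsg.Agent.TwoXDih
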