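import Cfsg.Agent.Lib.TwoXDih.OCfg

/-!
# Elementary facts in the dihedral configuration
-/

set_option autoImplicit false
set_option linter.unusedSectionVars false
set_option linter.style.haveILetI false
set_option linter.unusedVariables false

namespace Cfsg.Agent.TwoXDih.OCfg

open Subgroup

universe u

variable {G : Type u} [Group G] [Finite G] (C : OCfg G)

theorem DT {d : G} (hd : d ∈ C.D) : d ∈ C.T := (C.memT d).2 (Or.inl hd)

theorem tT : C.t ∈ C.T := C.full.tT

theorem tne : C.t ≠ 1 := fun e => C.tnot (e ▸ C.D.one_mem)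

theorem tt_mul (x : G) : C.t * (C.t * x) = x := by rw [← mul_assoc, C.tsq, one_mul]

theorem card_T : Nat.card C.T = 2 * Nat.card C.D := by
  have hle : C.D ≤ C.T := fun d => C.DT
  have hi : (C.D.subgroupOf C.T).index = 2 := by
    rw [Subgroup.index_eq_two_iff_exists_notMem_and']
    exact ⟨⟨C.t, C.tT⟩, C.tnot, fun b => ((C.memT b.1).1 b.2).symm⟩
  rw [← (C.D.subgroupOf C.T).card_mul_index, hi, Nat.card_congr (Subgroup.subgroupOfEquivOfLe hle).toEquiv,
    mul_comm]

theorem sq_t_mul {d : G} (hd : d ∈ C.D) : C.t * d * (C.t * d) = d * d := by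
  calc C.t * d * (C.t * d) = C.t * (d * C.t) * d := by group
    _ = C.t * (C.t * d) * d := by rw [C.commD d hd]
    _ = d * d := by rw [C.tt_mul]

theorem sq_mem {x : G} (hx : x ∈ C.T) : x * x ∈ C.D := by
  rcases (C.memT x).1 hx with h | h
  · exact C.D.mul_mem h h
  · rw [← C.tt_mul x, C.sq_t_mul h]
    exact C.D.mul_mem h h

theorem zT {x : G} (hx : x ∈ C.T) : x * C.z = C.z * x := by
  rcases (C.memT x).1 hx with h | h
  · exact C.zc x h
  · have h1 := C.zc _ h
    rw [← mul_assoc C.z, C.commD _ C.zD, mul_assoc, mul_assoc] at h1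
    exact mul_left_cancel h1

/-- The central elements of `T`. -/
theorem centT {c : G} (hc : c ∈ C.T) (hcomm : ∀ d ∈ C.D, d * c = c * d) :
    c = 1 ∨ c = C.t ∨ c = C.z ∨ c = C.t * C.z := by
  rcases (C.memT c).1 hc with h | h
  · rcases C.centre c h hcomm with e | e
    · exact Or.inl e
    · exact Or.inr (Or.inr (Or.inl e))
  · rcases C.centre _ h fun d hd => by
      rw [← mul_assoc, C.commD d hd, mul_assoc, hcomm d hd, mul_assoc] with e | e
    · refine Or.inr (Or.inl ?_)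
      rw [← C.tt_mul c, e, mul_one]
    · refine Or.inr (Or.inr (Or.inr ?_))
      rw [← C.tt_mul c, e]

/-- A square of an element of `T` which is an involution is `z`. -/
theorem sq_eq_z {y : G} (hy : y ∈ C.T) (h2 : y * y * (y * y) = 1) (h1 : y * y ≠ 1) : y * y = C.z := by
  rcases (C.memT y).1 hy with h | h
  · exact (C.sq2 y h h2).resolve_left h1
  · rw [← C.tt_mul y, C.sq_t_mul h] at h1 h2 ⊢
    exact (C.sq2 _ h h2).resolve_left h1

/-- `z` is fixed by the normalizer of `T`. -/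
theorem z_fix {n : G} (hn : n ∈ Subgroup.normalizer (C.T : Set G)) : n * C.z * n⁻¹ = C.z := by
  obtain ⟨y, hy, e⟩ := C.zsq
  have h1 : n * y * n⁻¹ ∈ C.T := (Subgroup.mem_normalizer_iff.1 hn y).1 (C.DT hy)
  have e' : n * y * n⁻¹ * (n * y * n⁻¹) = n * C.z * n⁻¹ := by rw [← e]; group
  rw [← e']
  refine C.sq_eq_z h1 ?_ ?_
  · rw [e', ← OCfg.conj_mul', C.z2]; group
  · rw [e']; exact fun h => C.z1 (conj_eq_one_iff.1 h)

/-- An involution centralising a conjugate of `t`. -/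
theorem rule (hD : ∀ d ∈ C.D, ¬ IsConj C.t d) (htD : ∀ d ∈ C.D, d * d = 1 → IsConj C.t (C.t * d))
    {u v : G} (hu : IsConj C.t u) (hv : v * v = 1) (hc : v * u = u * v) (h1 : v ≠ 1) (hne : v ≠ u) :
    IsConj C.t v ↔ ¬ IsConj C.t (u * v) := by
  obtain ⟨g, hg⟩ := isConj_iff.1 hu
  set w := g⁻¹ * v * g with hw
  have hwc : w * C.t = C.t * w := by
    calc w * C.t = g⁻¹ * (v * (g * C.t * g⁻¹)) * g := by rw [hw]; group
      _ = C.t * w := by rw [hg, hc, ← hg, hw]; group
  have hw2 : w * w = 1 := by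
    rw [hw, show g⁻¹ * v * g * (g⁻¹ * v * g) = g⁻¹ * (v * v) * g by group, hv, mul_one, inv_mul_cancel]
  have hP : IsPGroup 2 (Subgroup.zpowers w) := Full.pg_zpowers (by
    by_cases hw1 : w = 1
    · exact ⟨0, by rw [hw1, orderOf_one, pow_zero]⟩
    · exact ⟨1, by
        haveI : Fact (Nat.Prime 2) := ⟨Nat.prime_two⟩
        rw [pow_one]; exact orderOf_eq_prime (by rw [pow_two]; exact hw2) hw1⟩)
  obtain ⟨c, hct, hcT⟩ := C.full.max _ hP (by
    rintro _ ⟨i, rfl⟩
    exact ((Commute.zpow_left (hwc : Commute w C.t)) i).eq)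
  set w' := c * w * c⁻¹ with hw'
  have hw'T : w' ∈ C.T := hcT w (Subgroup.mem_zpowers w)
  have hw'2 : w' * w' = 1 := by rw [hw', ← OCfg.conj_mul', hw2]; group
  have hconj : IsConj v w' := isConj_iff.2 ⟨c * g⁻¹, by rw [hw', hw]; group⟩
  have hconj2 : IsConj (u * v) (C.t * w') := isConj_iff.2 ⟨c * g⁻¹, by
    have e : c * C.t * c⁻¹ = C.t := by rw [hct, mul_inv_cancel_right]
    calc c * g⁻¹ * (u * v) * (c * g⁻¹)⁻¹ = c * (g⁻¹ * (g * C.t * g⁻¹) * v * g) * c⁻¹ := by rw [hg]; group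
      _ = (c * C.t * c⁻¹) * (c * (g⁻¹ * v * g) * c⁻¹) := by group
      _ = C.t * w' := by rw [e, ← hw, ← hw']⟩
  have i1 : IsConj C.t v ↔ IsConj C.t w' := ⟨fun h => h.trans hconj, fun h => h.trans hconj.symm⟩
  have i2 : IsConj C.t (u * v) ↔ IsConj C.t (C.t * w') :=
    ⟨fun h => h.trans hconj2, fun h => h.trans hconj2.symm⟩
  rw [i1, i2]
  rcases (C.memT w').1 hw'T with h | h
  · exact iff_of_false (hD _ h) (not_not.2 (htD _ h hw'2))
  · have h2 := C.sq_t_mul h
    rw [C.tt_mul, hw'2] at h2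
    have h3 := htD _ h h2.symm
    rw [C.tt_mul] at h3
    exact iff_of_true h3 (hD _ h)

/-- A `2`-element of `T` whose square is one. -/
theorem cls_or (hD : ∀ d ∈ C.D, ¬ IsConj C.t d) (htD : ∀ d ∈ C.D, d * d = 1 → IsConj C.t (C.t * d))
    {x : G} (hx : x ∈ C.T) (h2 : x * x = 1) : x ∈ C.D ∨ IsConj C.t x := by
  rcases (C.memT x).1 hx with h | h
  · exact Or.inl h
  · right
    have h3 := C.sq_t_mul h
    rw [C.tt_mul, h2] at h3
    have := htD _ h h3.symm
    rwa [C.tt_mul] at this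

end Cfsg.Agent.TwoXDih.OCfg
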