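import Cfsg.Agent.Lib.TwoXDih.Layers

/-!
# The action on `Z` modulo the squares
-/

set_option autoImplicit false
set_option linter.unusedSectionVars false
set_option linter.style.haveILetI false
set_option linter.unusedVariables false

namespace Cfsg.Agent.TwoXDih

universe u

theorem sqs_le_of_index_two {Q : Type u} [Group Q] {Z : Subgroup Q} (h : Z.index = 2) : sqs Q ≤ Z := by
  rw [sqs, Subgroup.closure_le]
  rintro _ ⟨x, rfl⟩
  exact Subgroup.mul_self_mem_of_index_two h x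

theorem sqs_inv {Q : Type u} [Group Q] (o : MulAut Q) {x : Q} (hx : x ∈ sqs Q) : o x ∈ sqs Q := by
  have : sqs Q ≤ (sqs Q).comap o.toMonoidHom := by
    rw [sqs, Subgroup.closure_le]
    rintro _ ⟨y, rfl⟩
    show o (y * y) ∈ sqs Q
    rw [map_mul]
    exact sq_mem_sqs _
  exact this hx

instance sqs_normal {Q : Type u} [Group Q] : (sqs Q).Normal :=
  ⟨fun x hx g => sqs_inv (MulAut.conj g) hx⟩

namespace Tw

variable {Q : Type u} [Group Q] [Finite Q] (h : Tw Q)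

theorem sqs_map_mem [h.D.Normal] (hnf : ¬ h.Flat) {x : Q} :
    (QuotientGroup.mk x : Q ⧸ h.D) ∈ sqs (Q ⧸ h.D) ↔ x ∈ sqs Q := by
  rw [← sqs_map]
  constructor
  · rintro ⟨y, hy, e⟩
    have := (sqs Q).mul_mem hy (h.D_le_sqs hnf (QuotientGroup.eq.1 e))
    rwa [mul_inv_cancel_left] at this
  · exact fun hx => ⟨x, hx, rfl⟩

/-- The automorphisms `κ ^ i` permute the non-trivial elements of `Z / sqs Q` transitively. -/
theorem trans_quot : ∀ (Q : Type u) [Group Q] [Finite Q] (h : Tw Q) (Z : Subgroup Q), h.IsZ Z →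
    ∀ y ∈ Z, y ∉ sqs Q → ∀ y' ∈ Z, y' ∉ sqs Q → ∃ i : ℕ, ((h.κ ^ i) y)⁻¹ * y' ∈ sqs Q := by
  refine Tw.induction ?_ ?_
  · intro Q _ _ h hf Z hZ y hy hy1 y' hy' hy1'
    have hD : h.D = Z := Subgroup.eq_of_le_of_card_ge hZ.D_le (le_of_eq (by
      have e1 := Z.card_mul_index
      rw [hZ.index, ← Subgroup.card_mul_index h.D, h.index_D_flat hf] at e1
      omega))
    rw [h.sqs_flat hf, Subgroup.mem_bot] at hy1 hy1'
    obtain ⟨i, hi⟩ := h.trans y (hD ▸ hy) y' (hD ▸ hy') hy1 hy1'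
    exact ⟨i, by rw [hi, inv_mul_cancel]; exact one_mem _⟩
  · intro Q _ _ h _ hnf ih Z hZ y hy hy1 y' hy' hy1'
    obtain ⟨i, hi⟩ := ih _ (hZ.map hnf) (QuotientGroup.mk y) ⟨y, hy, rfl⟩
      (fun e => hy1 ((h.sqs_map_mem hnf).1 e)) (QuotientGroup.mk y') ⟨y', hy', rfl⟩
      (fun e => hy1' ((h.sqs_map_mem hnf).1 e))
    refine ⟨i, (h.sqs_map_mem hnf).1 ?_⟩
    rw [QuotientGroup.mk_mul, QuotientGroup.mk_inv, ← h.κbar_pow_mk]
    exact hi

/-- A power of `κ` fixing `Z / sqs Q` is trivial on `D`. -/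
theorem fix_D : ∀ (Q : Type u) [Group Q] [Finite Q] (h : Tw Q) (Z : Subgroup Q), h.IsZ Z →
    ∀ i : ℕ, (∀ y ∈ Z, ((h.κ ^ i) y)⁻¹ * y ∈ sqs Q) → ∀ d ∈ h.D, (h.κ ^ i) d = d := by
  refine Tw.induction ?_ ?_
  · intro Q _ _ h hf Z hZ i hfix d hd
    have := hfix d (hZ.D_le hd)
    rw [h.sqs_flat hf, Subgroup.mem_bot, inv_mul_eq_one] at this
    exact this
  · intro Q _ _ h _ hnf ih Z hZ i hfix d hd
    obtain ⟨x, hx, hxR, rfl⟩ := h.Rbar_surj hnf hd
    have h1 := ih _ (hZ.map hnf) i (fun y hy => by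
      obtain ⟨y, hy, rfl⟩ := hy
      show ((h.κbar ^ i) (QuotientGroup.mk y))⁻¹ * QuotientGroup.mk y ∈ sqs (Q ⧸ h.D)
      rw [h.κbar_pow_mk, ← QuotientGroup.mk_inv, ← QuotientGroup.mk_mul]
      exact (h.sqs_map_mem hnf).2 (hfix y hy)) (QuotientGroup.mk x) hxR
    have h1' : (QuotientGroup.mk ((h.κ ^ i) x) : Q ⧸ h.D) = QuotientGroup.mk x := by
      rw [← h.κbar_pow_mk]; exact h1
    rw [QuotientGroup.eq] at h1'
    rw [h.κpowc]
    conv_rhs => rw [show x = (h.κ ^ i) x * (((h.κ ^ i) x)⁻¹ * x) by group]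
    rw [h.c_mul (h.comm_mem_P (h.commD h1')), h.c_of_comm (h.commD h1'), mul_one]

theorem index_sqs_sub {Z : Subgroup Q} (hZ : h.IsZ Z) :
    Nat.card Z = Nat.card h.D * Nat.card (sqs Q) := by
  have e1 := Z.card_mul_index
  have e2 := (sqs Q).card_mul_index
  rw [hZ.index, ← e2, (exists_isZ Q h).2] at e1
  refine Nat.eq_of_mul_eq_mul_right (show 0 < 2 by norm_num) (e1.trans ?_)
  ring

/-- `Z` is determined by `κ`. -/
theorem IsZ.eq {h : Tw Q} {Z Z' : Subgroup Q} (hZ : h.IsZ Z) (hZ' : h.IsZ Z') : Z = Z' := by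
  by_contra hne
  have hnle : ¬ Z ≤ Z' := fun hle => hne (Subgroup.eq_of_le_of_card_ge hle (le_of_eq (by
    rw [h.index_sqs_sub hZ, h.index_sqs_sub hZ'])))
  obtain ⟨y', hy', hy'n⟩ := SetLike.not_le_iff_exists.1 hnle
  by_cases hall : ∀ y ∈ Z, y ∈ Z' → y ∈ sqs Q
  · have hcard : Nat.card Z ≤ 2 * Nat.card (sqs Q) := by
      have hi : (Z'.subgroupOf Z).index = 2 := by
        rw [Subgroup.index_eq_two_iff_exists_notMem_and']
        refine ⟨⟨y', hy'⟩, hy'n, fun b => ?_⟩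
        by_cases hb : (b : Q) ∈ Z'
        · exact Or.inr hb
        · exact Or.inl (show y' * (b : Q) ∈ Z' from
            (Subgroup.mul_mem_iff_of_index_two hZ'.index).2 (iff_of_false hy'n hb))
      have e := (Z'.subgroupOf Z).card_mul_index
      rw [hi] at e
      have hle : Nat.card (Z'.subgroupOf Z) ≤ Nat.card (sqs Q) :=
        Nat.card_le_card_of_injective (fun y => (⟨y.1.1, hall y.1.1 y.1.2 y.2⟩ : sqs Q))
          fun a b e' => Subtype.ext (Subtype.ext (congrArg (fun w : sqs Q => (w : Q)) e'))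
      omega
    rw [h.index_sqs_sub hZ] at hcard
    have := Nat.le_of_mul_le_mul_right hcard Nat.card_pos
    have := h.four
    omega
  · push Not at hall
    obtain ⟨y, hy, hyZ', hys⟩ := hall
    obtain ⟨i, hi⟩ := trans_quot Q h Z hZ y hy hys y' hy' (fun hs => hy'n (sqs_le_of_index_two hZ'.index hs))
    refine hy'n ?_
    have hκ : ∀ j : ℕ, (h.κ ^ j) y ∈ Z' := by
      intro j
      induction j with
      | zero => simpa using hyZ'
      | succ j ih => rw [pow_succ', MulAut.mul_apply]; exact hZ'.inv _ ih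
    have := Z'.mul_mem (hκ i) (sqs_le_of_index_two hZ'.index hi)
    rwa [mul_inv_cancel_left] at this

end Tw

end Cfsg.Agent.TwoXDih
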