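import Cfsg.Agent.Lib.TwoXDih.Tower

/-!
# The passage from `Q` to `Q / D`
-/

set_option autoImplicit false
set_option linter.unusedSectionVars false
set_option linter.style.haveILetI false
set_option linter.unusedVariables false

namespace Cfsg.Agent.TwoXDih.Tw

universe u

variable {Q : Type u} [Group Q] [Finite Q] (h : Tw Q)

theorem map_D : h.D.map h.κ.toMonoidHom = h.D := by
  refine le_antisymm ?_ ?_
  · rintro _ ⟨d, hd, rfl⟩
    exact h.κD d hd
  · intro e he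
    by_cases e1 : e = 1
    · exact ⟨1, h.D.one_mem, by simp [e1]⟩
    obtain ⟨f, hf, hf1, -⟩ := h.exists_ne h.D.one_mem
    obtain ⟨i, hi⟩ := h.trans f hf e he hf1 e1
    cases i with
    | zero =>
      obtain ⟨j, hj⟩ := h.trans (h.κ e) (h.κD e he) e he (by simpa using e1) e1
      exact ⟨(h.κ ^ j) e, h.κpow_D j he, by
        rw [MulEquiv.coe_toMonoidHom, ← MulAut.mul_apply, ← pow_succ', pow_succ, MulAut.mul_apply, hj]⟩
    | succ i =>
      exact ⟨(h.κ ^ i) f, h.κpow_D i hf, by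
        rw [MulEquiv.coe_toMonoidHom, ← MulAut.mul_apply, ← pow_succ', hi]⟩

/-- The induced automorphism of `Q / D`. -/
noncomputable def κbar [h.D.Normal] : MulAut (Q ⧸ h.D) := QuotientGroup.congr h.D h.D h.κ h.map_D

theorem κbar_mk [h.D.Normal] (x : Q) : h.κbar (QuotientGroup.mk x) = QuotientGroup.mk (h.κ x) := rfl

theorem κbar_pow_mk [h.D.Normal] (i : ℕ) (x : Q) :
    (h.κbar ^ i) (QuotientGroup.mk x) = QuotientGroup.mk ((h.κ ^ i) x) := by
  induction i with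
  | zero => simp
  | succ i ih => rw [pow_succ', MulAut.mul_apply, ih, h.κbar_mk, pow_succ', MulAut.mul_apply]

theorem mk_eq_one [h.D.Normal] {x : Q} : (QuotientGroup.mk x : Q ⧸ h.D) = 1 ↔ x ∈ h.D :=
  QuotientGroup.eq_one_iff x

theorem mk_sqP [h.D.Normal] {x : Q} (hx : x ∈ h.P) :
    (QuotientGroup.mk x : Q ⧸ h.D) * QuotientGroup.mk x = 1 := by
  rw [← QuotientGroup.mk_mul, h.mk_eq_one]; exact h.sq_P hx

theorem mk_commP [h.D.Normal] {x y : Q} (hx : x ∈ h.P) (hy : y ∈ h.P) :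
    (QuotientGroup.mk x : Q ⧸ h.D) * QuotientGroup.mk y = QuotientGroup.mk y * QuotientGroup.mk x := by
  have h1 := inv_eq_of_mul_eq_one_right (h.mk_sqP (h.P.mul_mem hx hy))
  rwa [QuotientGroup.mk_mul, mul_inv_rev, inv_eq_of_mul_eq_one_right (h.mk_sqP hx),
    inv_eq_of_mul_eq_one_right (h.mk_sqP hy), eq_comm] at h1

/-- The commutators of `P / D` with `κ`. -/
def Rbar [h.D.Normal] : Subgroup (Q ⧸ h.D) where
  carrier := {y | ∃ p ∈ h.P, QuotientGroup.mk (h.κ p * p) = y}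
  one_mem' := ⟨1, h.P.one_mem, by simp⟩
  mul_mem' := by
    rintro _ _ ⟨p, hp, rfl⟩ ⟨r, hr, rfl⟩
    refine ⟨p * r, h.P.mul_mem hp hr, ?_⟩
    rw [map_mul]
    simp only [QuotientGroup.mk_mul, mul_assoc]
    rw [← mul_assoc (QuotientGroup.mk (h.κ r)), ← h.mk_commP hp (h.κP hr)]
    simp only [mul_assoc]
  inv_mem' := by
    rintro _ ⟨p, hp, rfl⟩
    exact ⟨p, hp, (inv_eq_of_mul_eq_one_right (h.mk_sqP (h.P.mul_mem (h.κP hp) hp))).symm⟩

theorem exists_rep [h.D.Normal] {y : Q ⧸ h.D} (hy : y ∈ h.Rbar) :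
    ∃ x ∈ h.P, QuotientGroup.mk x = y := by
  obtain ⟨p, hp, rfl⟩ := hy
  exact ⟨_, h.P.mul_mem (h.κP hp) hp, rfl⟩

/-- An element of `R` centralising `t` lies in `D`. -/
theorem Rbar_kernel [h.D.Normal] {x : Q} (hx : x ∈ h.P) (hR : QuotientGroup.mk x ∈ h.Rbar)
    (hc : h.c x = 1) : x ∈ h.D := by
  obtain ⟨p, hp, hpx⟩ := hR
  rw [QuotientGroup.eq] at hpx
  have e : h.c (h.κ p * p) = 1 := by
    have e1 : h.c x = h.c (h.κ p * p) * h.c ((h.κ p * p)⁻¹ * x) := by
      rw [← h.c_mul (h.P.mul_mem (h.P.inv_mem (h.P.mul_mem (h.κP hp) hp)) hx), mul_inv_cancel_left]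
    rw [hc, h.c_of_comm (h.commD hpx), mul_one] at e1
    exact e1.symm
  rw [h.c_mul hp, ← h.κc] at e
  have e2 : h.κ (h.c p) = h.c p := by rw [mul_eq_one_iff_eq_inv.1 e, h.invD hp]
  have e3 : h.c p = 1 := by
    by_contra hne
    exact h.κ_moves hp hne e2
  have hm : h.κ p * p ∈ h.D := by
    rcases (h.cent p).1 (h.c_eq_one e3) with hd | hd
    · exact h.D.mul_mem (h.κD p hd) hd
    · have h2 := h.D.mul_mem (h.κD _ hd) hd
      rw [map_mul, h.κt, mul_assoc, ← mul_assoc (h.κ p)] at h2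
      have hc2 : h.κ p * h.t = h.t * h.κ p := by
        have h3 : p * h.t = h.t * p := h.c_eq_one e3
        have := congrArg h.κ h3
        rwa [map_mul, map_mul, h.κt] at this
      rwa [hc2, mul_assoc, ← mul_assoc h.t, h.tsq, one_mul] at h2
  have hfin := h.D.mul_mem hm hpx
  rwa [mul_inv_cancel_left] at hfin

theorem Rbar_surj [h.D.Normal] (hnf : ¬ h.Flat) {d : Q} (hd : d ∈ h.D) :
    ∃ x ∈ h.P, QuotientGroup.mk x ∈ h.Rbar ∧ h.c x = d := by
  let f : h.D → h.D := fun e => ⟨h.κ e.1 * e.1, h.D.mul_mem (h.κD _ e.2) e.2⟩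
  have hinj : Function.Injective f := by
    rintro ⟨a, ha⟩ ⟨b, hb⟩ e
    have e' : h.κ a * a = h.κ b * b := congrArg Subtype.val e
    have e1 : h.κ (a * b) * (a * b) = 1 := by
      rw [map_mul, mul_assoc, ← mul_assoc (h.κ b) a b, h.mul_commD (h.κD _ hb) ha,
        mul_assoc a (h.κ b) b, ← mul_assoc (h.κ a) a, e']
      exact h.sqD _ (h.D.mul_mem (h.κD _ hb) hb)
    have e2 : a * b = 1 := by
      by_contra hne
      exact h.κ_moves (h.D.mul_mem ha hb) hne (by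
        rw [mul_eq_one_iff_eq_inv.1 e1, h.invD (h.D.mul_mem ha hb)])
    exact Subtype.ext (show a = b by rw [mul_eq_one_iff_eq_inv.1 e2, h.invD hb])
  obtain ⟨⟨e, he⟩, hfe⟩ := (Finite.injective_iff_surjective.1 hinj) ⟨d, hd⟩
  obtain ⟨p, hp, rfl⟩ := h.c_surj hnf he
  refine ⟨h.κ p * p, h.P.mul_mem (h.κP hp) hp, ⟨p, hp, rfl⟩, ?_⟩
  rw [h.c_mul hp, ← h.κc]
  exact congrArg Subtype.val hfe

theorem Rbar_bij [h.D.Normal] (hnf : ¬ h.Flat) :
    Nat.card h.Rbar = Nat.card h.D := by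
  have hrep := fun y : h.Rbar => h.exists_rep y.2
  choose rep hrP hry using hrep
  refine Nat.card_congr (Equiv.ofBijective (fun y => (⟨h.c (rep y), hrP y⟩ : h.D)) ⟨?_, ?_⟩)
  · intro y z e
    have e' : h.c (rep y) = h.c (rep z) := congrArg Subtype.val e
    have hm : rep y * rep z ∈ h.D := h.Rbar_kernel (h.P.mul_mem (hrP y) (hrP z))
      (by rw [QuotientGroup.mk_mul, hry, hry]; exact h.Rbar.mul_mem y.2 z.2)
      (by rw [h.c_mul (hrP z), e']; exact h.sqD _ (hrP z))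
    rw [← h.mk_eq_one, QuotientGroup.mk_mul, hry, hry] at hm
    refine Subtype.ext ?_
    rw [mul_eq_one_iff_eq_inv.1 hm, inv_eq_of_mul_eq_one_right]
    have := h.mk_sqP (hrP z)
    rwa [hry] at this
  · rintro ⟨d, hd⟩
    obtain ⟨x, hx, hxR, rfl⟩ := h.Rbar_surj hnf hd
    refine ⟨⟨_, hxR⟩, Subtype.ext ?_⟩
    have hm : (rep ⟨_, hxR⟩)⁻¹ * x ∈ h.D := QuotientGroup.eq.1 (hry ⟨_, hxR⟩)
    show h.c (rep ⟨_, hxR⟩) = h.c x
    conv_rhs => rw [show x = rep ⟨_, hxR⟩ * ((rep ⟨_, hxR⟩)⁻¹ * x) by group]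
    rw [h.c_mul (h.comm_mem_P (h.commD hm)), h.c_of_comm (h.commD hm), mul_one]

/-- The hypothesis for `Q / D`. -/
noncomputable def next [h.D.Normal] (hnf : ¬ h.Flat) : Tw (Q ⧸ h.D) where
  t := QuotientGroup.mk h.t
  D := h.Rbar
  κ := h.κbar
  pgroup := h.pgroup.to_quotient _
  tsq := by rw [← QuotientGroup.mk_mul, h.tsq]; rfl
  tnot := fun hR => h.tnot (h.Rbar_kernel h.t_mem_P hR (h.c_of_comm rfl))
  κt := by rw [h.κbar_mk, h.κt]
  κD := by
    rintro _ ⟨p, hp, rfl⟩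
    exact ⟨h.κ p, h.κP hp, by rw [h.κbar_mk, map_mul]⟩
  sqD := fun y hy => by
    obtain ⟨x, hx, rfl⟩ := h.exists_rep hy
    exact h.mk_sqP hx
  four := by rw [h.Rbar_bij hnf]; exact h.four
  cent := fun y => by
    obtain ⟨x, rfl⟩ := QuotientGroup.mk_surjective y
    have hP : (QuotientGroup.mk x : Q ⧸ h.D) * QuotientGroup.mk h.t = QuotientGroup.mk h.t * QuotientGroup.mk x
        ↔ x ∈ h.P := by
      rw [mem_P, ← QuotientGroup.mk_mul, ← QuotientGroup.mk_mul, QuotientGroup.eq]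
      have e : (x * h.t)⁻¹ * (h.t * x) = (x * h.t)⁻¹ * (h.c x) * (x * h.t) := by
        unfold c
        rw [mul_inv_rev, h.invt]
        simp [mul_assoc, h.tsq]
      rw [e]
      constructor
      · intro hm
        have := h.normalD.conj_mem _ hm (x * h.t)
        rwa [show x * h.t * ((x * h.t)⁻¹ * h.c x * (x * h.t)) * (x * h.t)⁻¹ = h.c x by group] at this
      · intro hm
        have := h.normalD.conj_mem _ hm (x * h.t)⁻¹
        rwa [inv_inv] at this
    rw [hP]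
    constructor
    · intro hx
      obtain ⟨r, hr, hrR, hrc⟩ := h.Rbar_surj hnf hx
      have e : h.c (x * r) = 1 := by rw [h.c_mul hr, hrc]; exact h.sqD _ hx
      have er : (QuotientGroup.mk r : Q ⧸ h.D) = (QuotientGroup.mk r)⁻¹ :=
        (inv_eq_of_mul_eq_one_right (h.mk_sqP hr)).symm
      rcases (h.cent _).1 (h.c_eq_one e) with hd | hd
      · left
        rw [← h.mk_eq_one, QuotientGroup.mk_mul, mul_eq_one_iff_eq_inv, ← er] at hd
        rwa [hd]
      · right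
        rw [← h.mk_eq_one, QuotientGroup.mk_mul, QuotientGroup.mk_mul, ← mul_assoc, mul_eq_one_iff_eq_inv,
          ← er] at hd
        rwa [hd]
    · rintro (hR | hR)
      · obtain ⟨r, hr, e⟩ := h.exists_rep hR
        have := h.P.mul_mem hr (h.comm_mem_P (h.commD (QuotientGroup.eq.1 e)))
        rwa [mul_inv_cancel_left] at this
      · obtain ⟨r, hr, e⟩ := h.exists_rep hR
        rw [← QuotientGroup.mk_mul] at e
        have := h.P.mul_mem h.t_mem_P (h.P.mul_mem hr (h.comm_mem_P (h.commD (QuotientGroup.eq.1 e))))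
        rwa [mul_inv_cancel_left, ← mul_assoc, h.tsq, one_mul] at this
  trans := by
    intro y hy z hz hy1 hz1
    obtain ⟨a, ha, rfl⟩ := h.exists_rep hy
    obtain ⟨b, hb, rfl⟩ := h.exists_rep hz
    have hne : ∀ {a : Q}, a ∈ h.P → QuotientGroup.mk a ∈ h.Rbar → (QuotientGroup.mk a : Q ⧸ h.D) ≠ 1 →
        h.c a ≠ 1 := fun hx hR h1 e => h1 (h.mk_eq_one.2 (h.Rbar_kernel hx hR e))
    obtain ⟨i, hi⟩ := h.trans _ ha _ hb (hne ha hy hy1) (hne hb hz hz1)
    refine ⟨i, ?_⟩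
    rw [h.κpowc] at hi
    have hR : QuotientGroup.mk ((h.κ ^ i) a) ∈ h.Rbar := by
      rw [← h.κbar_pow_mk]
      clear hi
      induction i with
      | zero => simpa using hy
      | succ i ih =>
        rw [pow_succ', MulAut.mul_apply]
        obtain ⟨p, hp, e⟩ := ih
        exact ⟨h.κ p, h.κP hp, by rw [← e, h.κbar_mk, map_mul]⟩
    have hm : (h.κ ^ i) a * b ∈ h.D := h.Rbar_kernel (h.P.mul_mem (h.κpowP i ha) hb)
      (by rw [QuotientGroup.mk_mul]; exact h.Rbar.mul_mem hR hz)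
      (by rw [h.c_mul hb, hi]; exact h.sqD _ hb)
    rw [← h.mk_eq_one, QuotientGroup.mk_mul, mul_eq_one_iff_eq_inv,
      inv_eq_of_mul_eq_one_right (h.mk_sqP hb)] at hm
    rw [h.κbar_pow_mk, hm]

theorem next_card [h.D.Normal] (hnf : ¬ h.Flat) : Nat.card (h.next hnf).D = Nat.card h.D :=
  h.Rbar_bij hnf

/-- Induction along the passage to `Q / D`. -/
theorem induction {motive : ∀ (Q : Type u) [Group Q] [Finite Q], Tw Q → Prop}
    (flat : ∀ (Q : Type u) [Group Q] [Finite Q] (h : Tw Q), h.Flat → motive Q h)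
    (step : ∀ (Q : Type u) [Group Q] [Finite Q] (h : Tw Q) [h.D.Normal] (hnf : ¬ h.Flat),
      motive (Q ⧸ h.D) (h.next hnf) → motive Q h) :
    ∀ (Q : Type u) [Group Q] [Finite Q] (h : Tw Q), motive Q h := by
  intro Q _ _
  induction hn : Nat.card Q using Nat.strong_induction_on generalizing Q with
  | _ n ih =>
    intro h
    by_cases hf : h.Flat
    · exact flat Q h hf
    haveI := h.normalD
    refine step Q h hf (ih _ ?_ _ rfl _)
    rw [← hn, Subgroup.card_eq_card_quotient_mul_card_subgroup h.D]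
    exact lt_mul_of_one_lt_right Nat.card_pos (by have := h.four; omega)

end Cfsg.Agent.TwoXDih.Tw
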