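import Cfsg.Agent.Lib.TwoXDih.Orbit
import Cfsg.Agent.Lib.TwoXDih.Gl3

/-!
# The Sylow subgroup of the normalizer when `q = 8`
-/

set_option autoImplicit false
set_option linter.unusedSectionVars false
set_option linter.style.haveILetI false
set_option linter.unusedVariables false

namespace Cfsg.Agent.TwoXDih

open Subgroup
open Loc (cj)

universe u

theorem flip_pair {E : Type u} [Group E] {a b : E} (ha : a * a = 1) (hb : b * b = 1) :
    ∀ i : ℕ, a * (a * b) ^ i = (a * b)⁻¹ ^ i * a := by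
  intro i
  induction i with
  | zero => simp
  | succ i ih =>
    rw [pow_succ, ← mul_assoc, ih, pow_succ, mul_inv_rev, inv_eq_of_mul_eq_one_right ha,
      inv_eq_of_mul_eq_one_right hb, mul_assoc _ a, mul_assoc _ (b * a) a,
      ← mul_assoc a a b, ha, one_mul, mul_assoc b, ha, mul_one]

/-- The elements of a group generated by two involutions with product of order dividing four. -/
theorem closure_pair {E : Type u} [Group E] {a b : E} (ha : a * a = 1) (hb : b * b = 1) (h4 : (a * b) ^ 4 = 1)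
    {y : E} (hy : y ∈ Subgroup.closure ({a, b} : Set E)) :
    ∃ i : ℕ, i < 4 ∧ (y = (a * b) ^ i ∨ y = (a * b) ^ i * a) := by
  have hai : a⁻¹ = a := inv_eq_of_mul_eq_one_right ha
  have hbi : b⁻¹ = b := inv_eq_of_mul_eq_one_right hb
  have hred : ∀ i : ℕ, (a * b) ^ i = (a * b) ^ (i % 4) := fun i => by
    conv_lhs => rw [← Nat.mod_add_div i 4, pow_add, pow_mul, h4, one_pow, mul_one]
  have hinv : ∀ i : ℕ, (a * b)⁻¹ ^ i = (a * b) ^ (3 * i) := fun i => by
    rw [pow_mul]
    congr 1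
    rw [inv_eq_iff_mul_eq_one, ← pow_succ']
    exact h4
  induction hy using Subgroup.closure_induction_right with
  | one => exact ⟨0, by norm_num, Or.inl (pow_zero _).symm⟩
  | mul_right x y hx hy ih =>
    obtain ⟨i, hi, h⟩ := ih
    rcases hy with rfl | hy
    · rcases h with rfl | rfl
      · exact ⟨i, hi, Or.inr rfl⟩
      · exact ⟨i, hi, Or.inl (by rw [mul_assoc, ha, mul_one])⟩
    · rw [Set.mem_singleton_iff] at hy
      subst hy
      rcases h with rfl | rfl
      · refine ⟨(i + 3) % 4, Nat.mod_lt _ (by norm_num), Or.inr ?_⟩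
        rw [← hred, pow_add, mul_assoc]
        congr 1
        rw [show (3 : ℕ) = 3 * 1 from rfl, ← hinv, pow_one, mul_inv_rev, hai, hbi, mul_assoc, ha, mul_one]
      · refine ⟨(i + 1) % 4, Nat.mod_lt _ (by norm_num), Or.inl ?_⟩
        rw [← hred, pow_succ, mul_assoc]
  | mul_inv_cancel x y hx hy ih =>
    obtain ⟨i, hi, h⟩ := ih
    rcases hy with rfl | hy
    · rw [hai]
      rcases h with rfl | rfl
      · exact ⟨i, hi, Or.inr rfl⟩
      · exact ⟨i, hi, Or.inl (by rw [mul_assoc, ha, mul_one])⟩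
    · rw [Set.mem_singleton_iff] at hy
      subst hy
      rw [hbi]
      rcases h with rfl | rfl
      · refine ⟨(i + 3) % 4, Nat.mod_lt _ (by norm_num), Or.inr ?_⟩
        rw [← hred, pow_add, mul_assoc]
        congr 1
        rw [show (3 : ℕ) = 3 * 1 from rfl, ← hinv, pow_one, mul_inv_rev, hai, hbi, mul_assoc, ha, mul_one]
      · refine ⟨(i + 1) % 4, Nat.mod_lt _ (by norm_num), Or.inl ?_⟩
        rw [← hred, pow_succ, mul_assoc]

theorem pow_four_of_pair {E : Type u} [Group E] {a b : E} (ha : a * a = 1) (hb : b * b = 1) (h4 : (a * b) ^ 4 = 1)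
    {y : E} (hy : y ∈ Subgroup.closure ({a, b} : Set E)) : y ^ 4 = 1 := by
  obtain ⟨i, -, rfl | rfl⟩ := closure_pair ha hb h4 hy
  · rw [← pow_mul, mul_comm, pow_mul, h4, one_pow]
  · have e : ((a * b) ^ i * a) * ((a * b) ^ i * a) = 1 := by
      rw [mul_assoc, ← mul_assoc a, flip_pair ha hb, mul_assoc _ a a, ha, mul_one, inv_pow, mul_inv_cancel]
    rw [show (4 : ℕ) = 2 * 2 from rfl, pow_mul, sq ((a * b) ^ i * a), e, one_pow]

namespace Loc.Sys

variable {G : Type u} [Group G] [Finite G] {L : Loc G} {Q : Subgroup G} {k : G}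

/-- `Z` is invariant when all cosets occur. -/
theorem Z_inv (F : L.Sys Q k) {Z : Subgroup Q} (hZ : F.tw.IsZ Z)
    (hfull : ∀ y ∈ Z.map (QuotientGroup.mk' (sqs Q)), ∃ n, F.cl n = y)
    (n : Subgroup.normalizer (Q : Set G)) {z : Q} (hz : z ∈ Z) : cj Q n z ∈ Z := by
  obtain ⟨m, hm⟩ := hfull _ ⟨z, hz, rfl⟩
  unfold Fit.cl at hm
  simp only [QuotientGroup.mk'_apply, QuotientGroup.eq] at hm
  have h1 := sqs_le_of_index_two hZ.index (sqs_inv (cj Q n) hm)
  rw [map_mul, map_inv, map_mul] at h1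
  have h2 : cj Q n F.tw.t * cj Q n (cj Q m F.tw.t) ∈ Z := by
    rw [← MulAut.mul_apply, ← map_mul]
    exact (Subgroup.mul_mem_iff_of_index_two hZ.index).2 (iff_of_false
      (F.tw.image_notMem hZ _ (F.image_notD n)) (F.tw.image_notMem hZ _ (F.image_notD (n * m))))
  have := Z.mul_mem h2 h1
  rwa [mul_inv_cancel_left] at this

theorem comm_t_Z (F : L.Sys Q k) {Z : Subgroup Q} (hZ : F.tw.IsZ Z) (n : Subgroup.normalizer (Q : Set G)) :
    cj Q n F.tw.t * F.tw.t ∈ Z :=
  (Subgroup.mul_mem_iff_of_index_two hZ.index).2 (iff_of_false (F.tw.image_notMem hZ _ (F.image_notD n)) hZ.tnot)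

end Loc.Sys

namespace ECfg

variable {G : Type u} [Group G] [Finite G] {C : ECfg G}

theorem mem_Q_of_H {hn : ∀ d ∈ C.D, ¬ IsConj C.t d} {Q : Subgroup G} {k : G} (F : (C.toLoc hn).Sys Q k)
    (htD : ∀ d ∈ C.D, IsConj C.t (C.t * d)) {n : Subgroup.normalizer (Q : Set G)} (hnH : n ∈ F.H)
    (hord : ∃ m : ℕ, orderOf (n : G) = 2 ^ m) : (n : G) ∈ Q := by
  haveI : Fact (Nat.Prime 2) := ⟨Nat.prime_two⟩
  haveI := F.normal_NC htD
  obtain ⟨Z, hZ⟩ := (Tw.exists_isZ Q F.tw).1
  obtain ⟨m, hm⟩ := hord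
  let N := Loc.Sys.NC (C.toLoc hn) Q
  have h1 : orderOf (QuotientGroup.mk' N n) ∣ 2 ^ m := by
    rw [← hm, Subgroup.orderOf_coe]; exact orderOf_map_dvd _ _
  have h2 : orderOf (QuotientGroup.mk' N n) ∣ N.relIndex F.H := by
    have hc : Nat.card (F.H.map (QuotientGroup.mk' N)) ∣ N.relIndex F.H := by
      rw [← Subgroup.relIndex_bot_left, ← (by simp : N.map (QuotientGroup.mk' N) = ⊥),
        Subgroup.relIndex_map_map, QuotientGroup.ker_mk', sup_idem, sup_eq_left.2 (show N ≤ F.H from F.NC_le_H htD hZ)]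
    refine dvd_trans ?_ hc
    rw [← Subgroup.orderOf_mk (QuotientGroup.mk' N n) (Subgroup.mem_map.2 ⟨n, hnH, rfl⟩ : QuotientGroup.mk' N n ∈ F.H.map (QuotientGroup.mk' N))]
    exact orderOf_dvd_natCard _
  have hcop : (2 ^ m).Coprime (N.relIndex F.H) :=
    Nat.Coprime.pow_left _ ((Nat.prime_two.coprime_iff_not_dvd).2
      (by rw [← even_iff_two_dvd, Nat.not_even_iff_odd]; exact H_index_odd F htD))
  have h3 : n ∈ N := (QuotientGroup.eq_one_iff n).1 (orderOf_eq_one_iff.1 (Nat.eq_one_of_dvd_coprimes hcop h1 h2))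
  have hle : Subgroup.zpowers (n : G) ≤ Subgroup.normalizer (Q : Set G) := Subgroup.zpowers_le.2 n.2
  have hP := IsPGroup.to_sup_of_normal_right' (Full.pg_zpowers ⟨m, hm⟩) F.pg hle
  have hC : Subgroup.zpowers (n : G) ⊔ Q ≤ centralizer (C.D : Set G) := by
    refine sup_le (Subgroup.zpowers_le.2 ?_) fun x hx => mem_centralizer_iff.2 fun d hd => (F.le x hx d hd).symm
    exact mem_centralizer_iff.2 fun d hd => (Loc.Sys.mem_NC.1 h3 d hd).symm
  exact F.max _ hP le_sup_right (fun x hx d hd => (mem_centralizer_iff.1 (hC hx) d hd).symm)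
    (Subgroup.mem_sup_left (Subgroup.mem_zpowers _))

/-- A 2-element whose square is in `Q` has its square in `Z`. -/
theorem sq_mem_Z {hn : ∀ d ∈ C.D, ¬ IsConj C.t d} {Q : Subgroup G} {k : G} (F : (C.toLoc hn).Sys Q k)
    (htD : ∀ d ∈ C.D, IsConj C.t (C.t * d)) {Z : Subgroup Q} (hZ : F.tw.IsZ Z)
    (hfull : ∀ y ∈ Z.map (QuotientGroup.mk' (sqs Q)), ∃ n, F.cl n = y)
    {w : Subgroup.normalizer (Q : Set G)} (hord : ∃ m : ℕ, orderOf (w : G) = 2 ^ m)
    (hw : (w : G) * w ∈ Q) : (⟨_, hw⟩ : Q) ∈ Z := by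
  by_contra hnot
  set y : Q := ⟨_, hw⟩ with hy
  have hty : F.tw.t * y ∈ Z := (Subgroup.mul_mem_iff_of_index_two hZ.index).2 (iff_of_false hZ.tnot hnot)
  obtain ⟨n, hcl⟩ := hfull _ ⟨_, hty, rfl⟩
  unfold Loc.Fit.cl at hcl
  simp only [QuotientGroup.mk'_apply, QuotientGroup.mk_mul, mul_left_cancel_iff, QuotientGroup.eq] at hcl
  have hfix : cj Q w y = y := Subtype.ext (show (w : G) * (w * w) * (w : G)⁻¹ = (w : G) * w by group)
  have h1 : (cj Q w (cj Q n F.tw.t))⁻¹ * y ∈ sqs Q := by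
    have := sqs_inv (cj Q w) hcl
    rwa [map_mul, map_inv, hfix] at this
  have h2 : (cj Q n F.tw.t)⁻¹ * cj Q w (cj Q n F.tw.t) ∈ sqs Q := by
    have := mul_mem hcl (inv_mem h1)
    simpa [mul_assoc] using this
  have h3 := sqs_inv (cj Q n⁻¹) h2
  rw [map_mul, map_inv, ← MulAut.mul_apply, ← map_mul, inv_mul_cancel, map_one, MulAut.one_apply, F.tw.invt] at h3
  have hH : n⁻¹ * (w * n) ∈ F.H := by
    show F.tw.t * cj Q (n⁻¹ * (w * n)) F.tw.t ∈ sqs Q
    rw [map_mul (cj Q), map_mul (cj Q), MulAut.mul_apply, MulAut.mul_apply]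
    exact h3
  have hQ := mem_Q_of_H F htD hH (by
    obtain ⟨m, hm⟩ := hord
    refine ⟨m, ?_⟩
    rw [← hm, show ((n⁻¹ * (w * n) : Subgroup.normalizer (Q : Set G)) : G) = (n : G)⁻¹ * w * (n : G) by push_cast; group]
    have := orderOf_injective (MulAut.conj (n : G)⁻¹).toMonoidHom (MulEquiv.injective _) (w : G)
    simpa [mul_assoc] using this)
  have hwQ : (w : G) ∈ Q := by
    have h4 := (Subgroup.mem_normalizer_iff.1 n.2 _).1 hQ
    have e : (n : G) * ((n⁻¹ * (w * n) : Subgroup.normalizer (Q : Set G)) : G) * (n : G)⁻¹ = w := by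
      push_cast; group
    rwa [e] at h4
  refine hnot (sqs_le_of_index_two hZ.index ?_)
  exact sq_mem_sqs (⟨w, hwQ⟩ : Q)

/-- A Sylow subgroup `R` of `N(Q)` and its subgroup of index two avoiding `t`. -/
theorem exists_sylow_eight {hn : ∀ d ∈ C.D, ¬ IsConj C.t d} {Q : Subgroup G} {k : G}
    (F : (C.toLoc hn).Sys Q k) (htD : ∀ d ∈ C.D, IsConj C.t (C.t * d)) {Z : Subgroup Q} (hZ : F.tw.IsZ Z)
    (hfull : ∀ y ∈ Z.map (QuotientGroup.mk' (sqs Q)), ∃ n, F.cl n = y) (h8 : Nat.card C.D = 8)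
    (hidx : (Loc.Sys.NC (C.toLoc hn) Q).index = 168) :
    ∃ R M : Subgroup G, IsPGroup 2 R ∧ Q ≤ R ∧ R ≤ Subgroup.normalizer (Q : Set G) ∧
      (∀ P : Subgroup G, IsPGroup 2 P → P ≤ Subgroup.normalizer (Q : Set G) → Nat.card P ≤ Nat.card R) ∧
      M ≤ R ∧ 2 * Nat.card M = Nat.card R ∧ ∀ x ∈ M, ∀ hx : x ∈ Q, (⟨x, hx⟩ : Q) ∈ Z := by
  classical
  haveI : Fact (Nat.Prime 2) := ⟨Nat.prime_two⟩
  haveI := F.normal_NC htD
  set NQ := Subgroup.normalizer (Q : Set G)
  set N := Loc.Sys.NC (C.toLoc hn) Q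
  letI : CommGroup C.D := { (inferInstance : Group C.D) with
    mul_comm := fun a b => Subtype.ext ((C.toLoc hn).comm a.2 b.2) }
  let f : NQ →* MulAut C.D :=
    { toFun := fun n =>
        { toFun := fun d => ⟨(n : G) * d * (n : G)⁻¹, F.normD htD n d.2⟩
          invFun := fun d => ⟨((n⁻¹ : NQ) : G) * d * ((n⁻¹ : NQ) : G)⁻¹, F.normD htD n⁻¹ d.2⟩
          left_inv := fun d => Subtype.ext (by push_cast; group)
          right_inv := fun d => Subtype.ext (by push_cast; group)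
          map_mul' := fun a b => Subtype.ext (by push_cast; group) }
      map_one' := MulEquiv.ext fun d => Subtype.ext (by simp)
      map_mul' := fun a b => MulEquiv.ext fun d => Subtype.ext (by
        show ((a * b : NQ) : G) * d * ((a * b : NQ) : G)⁻¹ = (a : G) * ((b : G) * d * (b : G)⁻¹) * (a : G)⁻¹
        push_cast; group) }
  have hker : f.ker = N := by
    ext n
    rw [MonoidHom.mem_ker, Loc.Sys.mem_NC]
    constructor
    · intro h d hd
      have := congrArg (fun e : MulAut C.D => ((e ⟨d, hd⟩ : C.D) : G)) h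
      exact mul_inv_eq_iff_eq_mul.1 this
    · intro h
      refine MulEquiv.ext fun d => Subtype.ext ?_
      exact mul_inv_eq_iff_eq_mul.2 (h _ d.2)
  obtain ⟨hle168, a, b, ha, hb, hab, hab4⟩ := exists_gl3 C.D (fun x => Subtype.ext (C.sqD _ x.2)) h8
  have hsurj : Function.Surjective f := by
    rw [← MonoidHom.range_eq_top]
    refine Subgroup.eq_top_of_le_card _ ?_
    rw [← Subgroup.index_ker, hker, hidx]
    exact hle168
  have hcardMA : Nat.card (MulAut C.D) = 168 := by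
    refine le_antisymm hle168 ?_
    rw [← hidx, ← hker, Subgroup.index_ker]
    exact Subgroup.card_le_card_group _
  set Pim := Subgroup.closure ({a, b} : Set (MulAut C.D)) with hPim
  have hPim2 : IsPGroup 2 Pim := fun y => ⟨2, Subtype.ext (by
    show (y : MulAut C.D) ^ (2 ^ 2) = 1
    exact pow_four_of_pair ha hb hab4 y.2)⟩
  set P := Pim.comap f
  have hNP : N ≤ P := by rw [← hker]; exact MonoidHom.ker_le_comap _ _
  have hQP : IsPGroup 2 ((Q.subgroupOf NQ).subgroupOf P) := F.pg.of_injective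
    ((Subgroup.subgroupOfEquivOfLe (le_normalizer : Q ≤ NQ)).toMonoidHom.comp
      (Subgroup.subgroupOfEquivOfLe (F.Q_le_NC.trans hNP)).toMonoidHom)
    ((Subgroup.subgroupOfEquivOfLe le_normalizer).injective.comp
      (Subgroup.subgroupOfEquivOfLe (F.Q_le_NC.trans hNP)).injective)
  obtain ⟨R0, hR0⟩ := hQP.exists_le_sylow
  set R1 : Subgroup NQ := (R0 : Subgroup P).map P.subtype with hR1
  set R : Subgroup G := R1.map NQ.subtype with hR
  have hRpg : IsPGroup 2 R := (R0.2.map _).map _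
  have hR1pg : IsPGroup 2 R1 := R0.2.map _
  have hQR1 : Q.subgroupOf NQ ≤ R1 := fun x hx => ⟨⟨x, hNP (F.Q_le_NC hx)⟩, hR0 hx, rfl⟩
  have hQR : Q ≤ R := fun x hx => ⟨⟨x, le_normalizer hx⟩, hQR1 (show (⟨x, le_normalizer hx⟩ : NQ) ∈ Q.subgroupOf NQ from hx), rfl⟩
  have hord : ∀ x ∈ R1, ∃ m : ℕ, orderOf ((x : NQ) : G) = 2 ^ m := by
    intro x hx
    obtain ⟨m, hm⟩ := IsPGroup.iff_orderOf.1 hR1pg ⟨x, hx⟩
    exact ⟨m, by rw [← hm, Subgroup.orderOf_mk, Subgroup.orderOf_coe]⟩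
  have hRN : ∀ x ∈ R1, x ∈ N → (x : G) ∈ Q := fun x hx hxN => mem_Q_of_H F htD (F.NC_le_H htD hZ hxN) (hord x hx)
  -- the image of `R1`
  obtain ⟨q', hq'⟩ := IsPGroup.iff_card.1 F.pg
  obtain ⟨p', hp'⟩ := IsPGroup.iff_card.1 hPim2
  have hQcard : Nat.card (R1 ⊓ N : Subgroup NQ) ≤ Nat.card Q :=
    Nat.card_le_card_of_injective (fun x => (⟨_, hRN x.1 x.2.1 x.2.2⟩ : Q)) fun c d e =>
      Subtype.ext (Subtype.ext (congrArg (fun w : Q => (w : G)) e))
  have hRge : Nat.card Q * Nat.card Pim ≤ Nat.card R1 := by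
    rw [hR1, Subgroup.card_map_of_injective (Subgroup.subtype_injective _), hq', hp', ← pow_add,
      Sylow.card_eq_multiplicity]
    refine Nat.pow_le_pow_right (by norm_num) ((Nat.prime_two.pow_dvd_iff_le_factorization Nat.card_pos.ne').1 ?_)
    rw [pow_add, ← hq', ← hp', ← Loc.Sys.card_Qsub Q]
    have e : Nat.card N * Nat.card Pim = Nat.card P := by
      have e1 := (N.subgroupOf P).card_mul_index
      rw [Nat.card_congr (Subgroup.subgroupOfEquivOfLe hNP).toEquiv] at e1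
      rw [← e1]
      congr 1
      rw [← Subgroup.relIndex, ← hker, ← MonoidHom.comap_bot, Subgroup.relIndex_comap,
        Subgroup.map_comap_eq_self_of_surjective hsurj, Subgroup.relIndex_bot_left]
    rw [← e]
    exact Nat.mul_dvd_mul_right (Subgroup.card_dvd_of_le F.Q_le_NC) _
  have hR1cardmul : Nat.card (R1 ⊓ N : Subgroup NQ) * Nat.card (R1.map f) = Nat.card R1 := by
    have e1 := ((N.subgroupOf R1)).card_mul_index
    rw [← e1]
    congr 1
    · rw [← Subgroup.inf_subgroupOf_right]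
      exact Nat.card_congr (Subgroup.subgroupOfEquivOfLe (inf_le_right : N ⊓ R1 ≤ R1)).toEquiv |>.trans (by rw [inf_comm]) |>.symm
    · rw [← Subgroup.relIndex, ← hker, ← MonoidHom.comap_bot, Subgroup.relIndex_comap, Subgroup.relIndex_bot_left]
  have himg : R1.map f = Pim := by
    refine Subgroup.eq_of_le_of_card_ge ?_ ?_
    · rintro _ ⟨x, ⟨y, -, rfl⟩, rfl⟩
      exact y.2
    · refine Nat.le_of_mul_le_mul_left ?_ (Nat.card_pos (α := Q))
      refine hRge.trans ?_
      rw [← hR1cardmul]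
      exact Nat.mul_le_mul_right _ hQcard
  have h8P : 8 ≤ Nat.card Pim := by
    have hne : a * b * (a * b) ≠ 1 := fun e => hab (by
      rw [eq_inv_of_mul_eq_one_left e, mul_inv_rev, inv_eq_of_mul_eq_one_right ha, inv_eq_of_mul_eq_one_right hb])
    have hord4 : orderOf (a * b) = 4 := by
      refine orderOf_eq_prime_pow (p := 2) (n := 1) ?_ (by simpa using hab4)
      rw [pow_one, sq]
      exact hne
    have hma : a ∈ Pim := Subgroup.subset_closure (Set.mem_insert _ _)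
    have hmb : b ∈ Pim := Subgroup.subset_closure (Set.mem_insert_of_mem _ rfl)
    have hlt : Subgroup.zpowers (a * b) < Pim := by
      refine lt_of_le_of_ne (Subgroup.zpowers_le.2 (mul_mem hma hmb)) fun e => ?_
      obtain ⟨i, hi⟩ := (e ▸ hma : a ∈ Subgroup.zpowers (a * b))
      obtain ⟨j, hj⟩ := (e ▸ hmb : b ∈ Subgroup.zpowers (a * b))
      simp only at hi hj
      apply hab
      have h := (Commute.zpow_zpow_self (a * b) i j).eq
      rw [hi, hj] at h
      exact h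
    have h1 : Nat.card (Subgroup.zpowers (a * b)) = 4 := by rw [Nat.card_zpowers, hord4]
    have h2 : 4 < Nat.card Pim := by
      by_contra hle
      exact hlt.ne (Subgroup.eq_of_le_of_card_ge hlt.le (by omega))
    rw [hp'] at h2 ⊢
    calc 8 = 2 ^ 3 := by norm_num
      _ ≤ _ := Nat.pow_le_pow_right (by norm_num) (by
        by_contra h
        have := Nat.pow_le_pow_right (show 0 < 2 by norm_num) (show p' ≤ 2 by omega)
        omega)
  have hmax : ∀ P' : Subgroup G, IsPGroup 2 P' → P' ≤ NQ → Nat.card P' ≤ Nat.card R := by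
    intro P' hP' hle
    rw [hR, Subgroup.card_map_of_injective (Subgroup.subtype_injective _)]
    refine le_trans ?_ hRge
    set P1 := P'.subgroupOf NQ
    have hP1 : IsPGroup 2 P1 := hP'.of_injective (Subgroup.subgroupOfEquivOfLe hle).toMonoidHom (MulEquiv.injective _)
    have e1 := (N.subgroupOf P1).card_mul_index
    rw [← Nat.card_congr (Subgroup.subgroupOfEquivOfLe hle).toEquiv, ← e1]
    refine Nat.mul_le_mul ?_ ?_
    · rw [← Subgroup.inf_subgroupOf_right]
      refine le_of_eq_of_le (Nat.card_congr (Subgroup.subgroupOfEquivOfLe inf_le_right).toEquiv) ?_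
      refine Nat.card_le_card_of_injective (fun x => (⟨(x.1 : G), ?_⟩ : Q)) fun c d e =>
        Subtype.ext (Subtype.ext (congrArg (fun w : Q => (w : G)) e))
      obtain ⟨m, hm⟩ := IsPGroup.iff_orderOf.1 hP1 ⟨x.1, x.2.2⟩
      exact mem_Q_of_H F htD (F.NC_le_H htD hZ x.2.1) ⟨m, by rw [← hm, Subgroup.orderOf_mk, Subgroup.orderOf_coe]⟩
    · rw [← Subgroup.relIndex, ← hker, ← MonoidHom.comap_bot, Subgroup.relIndex_comap, Subgroup.relIndex_bot_left]
      refine le_trans ?_ h8P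
      obtain ⟨j, hj⟩ := IsPGroup.iff_card.1 (hP1.map f)
      have hd : 2 ^ j ∣ 168 := hj ▸ hcardMA ▸ Subgroup.card_subgroup_dvd_card _
      rw [hj]
      by_contra hlt
      have : 2 ^ 4 ∣ 168 := (pow_dvd_pow 2 (show 4 ≤ j by
        by_contra h
        have := Nat.pow_le_pow_right (show 0 < 2 by norm_num) (show j ≤ 3 by omega)
        omega)).trans hd
      norm_num at this
  -- the subgroup of index two
  have hliftA : a ∈ R1.map f := himg ▸ Subgroup.subset_closure (Set.mem_insert _ _)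
  have hliftB : b ∈ R1.map f := himg ▸ Subgroup.subset_closure (Set.mem_insert_of_mem _ rfl)
  obtain ⟨la, hla, hfa⟩ := hliftA
  obtain ⟨lb, hlb, hfb⟩ := hliftB
  let Z1 : Subgroup R1 :=
    { carrier := {x | ∃ h : ((x : NQ) : G) ∈ Q, (⟨_, h⟩ : Q) ∈ Z}
      one_mem' := ⟨Q.one_mem, Z.one_mem⟩
      mul_mem' := by
        rintro x y ⟨hx, hx'⟩ ⟨hy, hy'⟩
        exact ⟨Q.mul_mem hx hy, Z.mul_mem hx' hy'⟩
      inv_mem' := by
        rintro x ⟨hx, hx'⟩
        exact ⟨Q.inv_mem hx, Z.inv_mem hx'⟩ }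
  haveI : Z1.Normal := ⟨by
    rintro x ⟨hx, hx'⟩ g
    exact ⟨(Subgroup.mem_normalizer_iff.1 (g : NQ).2 _).1 hx, F.Z_inv hZ hfull (g : NQ) hx'⟩⟩
  have hsqZ : ∀ x : R1, f (x : NQ) * f (x : NQ) = 1 → x * x ∈ Z1 := by
    intro x hx
    have hm : ((x * x : R1) : NQ) ∈ N := by rw [← hker, MonoidHom.mem_ker, Subgroup.coe_mul, map_mul, hx]
    exact ⟨hRN _ (x * x).2 hm, sq_mem_Z F htD hZ hfull (hord _ x.2) (hRN _ (x * x).2 hm)⟩
  set A : R1 := ⟨la, hla⟩
  set B : R1 := ⟨lb, hlb⟩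
  have hA : (QuotientGroup.mk A : R1 ⧸ Z1) * QuotientGroup.mk A = 1 :=
    (QuotientGroup.eq_one_iff _).2 (hsqZ A (by rw [hfa, ha]))
  have hB : (QuotientGroup.mk B : R1 ⧸ Z1) * QuotientGroup.mk B = 1 :=
    (QuotientGroup.eq_one_iff _).2 (hsqZ B (by rw [hfb, hb]))
  have hAB : ((QuotientGroup.mk A : R1 ⧸ Z1) * QuotientGroup.mk B) ^ 4 = 1 := by
    rw [show (4 : ℕ) = 2 + 2 from rfl, pow_add, ← QuotientGroup.mk_mul, ← QuotientGroup.mk_pow,
      ← QuotientGroup.mk_mul, QuotientGroup.eq_one_iff]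
    refine hsqZ _ ?_
    rw [← pow_two, Subgroup.coe_pow, Subgroup.coe_mul, map_pow, map_mul, hfa, hfb, ← pow_mul]
    exact hab4
  let K : Subgroup (R1 ⧸ Z1) := Subgroup.closure {(QuotientGroup.mk A : R1 ⧸ Z1), QuotientGroup.mk B}
  let fb : R1 ⧸ Z1 →* MulAut C.D := QuotientGroup.lift Z1 (f.comp R1.subtype) (by
    rintro x ⟨hx, -⟩
    show f (x : NQ) = 1
    rw [← MonoidHom.mem_ker, hker]
    exact F.Q_le_NC hx)
  set T1 : R1 := ⟨⟨C.t, le_normalizer F.tQ⟩, hQR1 (show (⟨C.t, le_normalizer F.tQ⟩ : NQ) ∈ Q.subgroupOf NQ from F.tQ)⟩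
  have hft : fb (QuotientGroup.mk T1) = 1 := by
    show f (T1 : NQ) = 1
    rw [← MonoidHom.mem_ker, hker]
    exact F.Q_le_NC (show (C.t : G) ∈ Q from F.tQ)
  have hTK : (QuotientGroup.mk T1 : R1 ⧸ Z1) ∉ K := by
    intro hm
    obtain ⟨i, hi4, h | h⟩ := closure_pair hA hB hAB hm
    · have h1 := congrArg fb h
      rw [hft, map_pow, map_mul] at h1
      have h2 : (a * b) ^ i = 1 := by
        rw [h1]
        show (a * b) ^ i = (f la * f lb) ^ i
        rw [hfa, hfb]
      have hi0 : i = 0 := by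
        by_contra h0
        have h22 : a * b * (a * b) = 1 → False := fun e => hab (by
          rw [eq_inv_of_mul_eq_one_left e, mul_inv_rev, inv_eq_of_mul_eq_one_right ha,
            inv_eq_of_mul_eq_one_right hb])
        interval_cases i
        · exact absurd rfl h0
        · exact h22 (by rw [pow_one] at h2; rw [h2, mul_one])
        · exact h22 (by rwa [pow_two] at h2)
        · refine h22 ?_
          have h3 : a * b = 1 := by
            have := hab4
            rw [show (4 : ℕ) = 3 + 1 from rfl, pow_succ, h2, one_mul] at this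
            exact this
          rw [h3, mul_one]
      rw [hi0, pow_zero, QuotientGroup.eq_one_iff] at h
      obtain ⟨ht, ht'⟩ := h
      exact hZ.tnot ht'
    · have h1 := congrArg fb h
      rw [hft, map_mul, map_pow, map_mul] at h1
      have h2 : (a * b) ^ i * a = 1 := by
        rw [h1]
        show (a * b) ^ i * a = (f la * f lb) ^ i * f la
        rw [hfa, hfb]
      have h3 : Commute a (a * b) := by
        have h5 : Commute ((a * b) ^ i)⁻¹ (a * b) := ((Commute.refl (a * b)).pow_left i).inv_left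
        rwa [← eq_inv_of_mul_eq_one_right h2] at h5
      have h4 : a * (a * b) = a * b * a := h3
      rw [mul_assoc] at h4
      exact hab (mul_left_cancel h4)
  set M1 : Subgroup R1 := K.comap (QuotientGroup.mk' Z1)
  have hidx2 : M1.index = 2 := by
    rw [Subgroup.index_eq_two_iff_exists_notMem_and']
    refine ⟨T1, hTK, fun s => ?_⟩
    have hs : f (s : NQ) ∈ K.map fb := by
      rw [MonoidHom.map_closure, Set.image_pair]
      have h1 : f (s : NQ) ∈ Pim := himg ▸ ⟨_, s.2, rfl⟩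
      rwa [show fb (QuotientGroup.mk A) = a from hfa, show fb (QuotientGroup.mk B) = b from hfb]
    obtain ⟨mq, hmq, hms⟩ := hs
    obtain ⟨m, rfl⟩ := QuotientGroup.mk_surjective mq
    have hd : ((m⁻¹ * s : R1) : NQ) ∈ N := by
      rw [← hker, MonoidHom.mem_ker, Subgroup.coe_mul, map_mul, Subgroup.coe_inv, map_inv,
        inv_mul_eq_one]
      exact hms
    have hdQ := hRN _ (m⁻¹ * s).2 hd
    by_cases hz : (⟨_, hdQ⟩ : Q) ∈ Z
    · right
      show (QuotientGroup.mk s : R1 ⧸ Z1) ∈ K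
      rw [show (QuotientGroup.mk s : R1 ⧸ Z1) = QuotientGroup.mk m from (QuotientGroup.eq.2 (show m⁻¹ * s ∈ Z1 from ⟨hdQ, hz⟩)).symm]
      exact hmq
    · left
      show (QuotientGroup.mk (T1 * s) : R1 ⧸ Z1) ∈ K
      have e : (QuotientGroup.mk (T1 * s) : R1 ⧸ Z1) = QuotientGroup.mk m := by
        symm
        rw [QuotientGroup.eq]
        have hmem : ((m⁻¹ * (T1 * s) : R1) : NQ).1 ∈ Q := by
          show ((m : NQ) : G)⁻¹ * (C.t * ((s : NQ) : G)) ∈ Q
          have h1 := (Subgroup.mem_normalizer_iff.1 ((m : NQ)⁻¹).2 _).1 F.tQ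
          have h2 := Q.mul_mem h1 hdQ
          convert h2 using 1
          push_cast
          group
          rfl
        refine ⟨hmem, ?_⟩
        have h3 := F.comm_t_Z hZ ((m : NQ)⁻¹)
        have h4 : F.tw.t * (⟨_, hdQ⟩ : Q) ∈ Z :=
          (Subgroup.mul_mem_iff_of_index_two hZ.index).2 (iff_of_false hZ.tnot hz)
        have h5 := Z.mul_mem h3 h4
        rw [mul_assoc, ← mul_assoc F.tw.t F.tw.t, F.tw.tsq, one_mul] at h5
        convert h5 using 1
        apply Subtype.ext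
        show ((m : NQ) : G)⁻¹ * (C.t * ((s : NQ) : G)) =
          ((m : NQ) : G)⁻¹ * C.t * (((m : NQ) : G)⁻¹)⁻¹ * (((m : NQ) : G)⁻¹ * ((s : NQ) : G))
        group
      rw [e]
      exact hmq
  refine ⟨R, (M1.map R1.subtype).map NQ.subtype, hRpg, hQR, Subgroup.map_subtype_le _, hmax,
    Subgroup.map_mono (Subgroup.map_subtype_le _), ?_, ?_⟩
  · rw [hR, Subgroup.card_map_of_injective (Subgroup.subtype_injective _),
      Subgroup.card_map_of_injective (Subgroup.subtype_injective _),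
      Subgroup.card_map_of_injective (Subgroup.subtype_injective _), ← M1.card_mul_index, hidx2, mul_comm]
  · rintro _ ⟨_, ⟨x, hx, rfl⟩, rfl⟩ hxQ
    by_contra hz
    apply hTK
    have hmem : x⁻¹ * T1 ∈ Z1 := by
      refine ⟨Q.mul_mem (Q.inv_mem hxQ) F.tQ, ?_⟩
      have h := (Subgroup.mul_mem_iff_of_index_two hZ.index (a := (⟨_, hxQ⟩ : Q)⁻¹) (b := F.tw.t)).2
        (iff_of_false (fun h => hz (inv_mem_iff.1 h)) hZ.tnot)
      exact h
    rw [show (QuotientGroup.mk T1 : R1 ⧸ Z1) = QuotientGroup.mk x from (QuotientGroup.eq.2 hmem).symm]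
    exact hx

end ECfg

end Cfsg.Agent.TwoXDih
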