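import Mathlib.GroupTheory.PGroup
import Mathlib.GroupTheory.Index
import Mathlib.GroupTheory.Nilpotent
import Mathlib.GroupTheory.QuotientGroup.Basic
import Mathlib.Tactic.Group

/-!
# A 2-group with an involution centralised by a small abelian group

`Q` is a 2-group, `t` an involution with `C_Q(t) = ⟨t⟩ × D` and `κ` an automorphism fixing `t` which is
transitive on `D#`.  Then modulo the subgroup generated by the squares `Q` is `⟨t⟩ × D` again, and an index-two
subgroup `Z` not containing `t` has only elements with large centralisers outside `D`.  This is proved by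
passing from `Q` to `Q / D`.
-/

set_option autoImplicit false
set_option linter.unusedSectionVars false
set_option linter.style.haveILetI false
set_option linter.unusedVariables false

namespace Cfsg.Agent.TwoXDih

universe u

/-- The subgroup generated by the squares. -/
def sqs (Q : Type u) [Group Q] : Subgroup Q := Subgroup.closure (Set.range fun x : Q => x * x)

theorem sq_mem_sqs {Q : Type u} [Group Q] (x : Q) : x * x ∈ sqs Q :=
  Subgroup.subset_closure ⟨x, rfl⟩

/-- The hypothesis. -/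
structure Tw (Q : Type u) [Group Q] where
  t : Q
  D : Subgroup Q
  κ : MulAut Q
  pgroup : IsPGroup 2 Q
  tsq : t * t = 1
  tnot : t ∉ D
  κt : κ t = t
  κD : ∀ d ∈ D, κ d ∈ D
  sqD : ∀ d ∈ D, d * d = 1
  four : 4 ≤ Nat.card D
  cent : ∀ x : Q, x * t = t * x ↔ (x ∈ D ∨ t * x ∈ D)
  trans : ∀ d ∈ D, ∀ e ∈ D, d ≠ 1 → e ≠ 1 → ∃ i : ℕ, (κ ^ i) d = e

namespace Tw

variable {Q : Type u} [Group Q] [Finite Q] (h : Tw Q)

theorem commD {d : Q} (hd : d ∈ h.D) : d * h.t = h.t * d := (h.cent d).2 (Or.inl hd)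

theorem invD {d : Q} (hd : d ∈ h.D) : d⁻¹ = d := inv_eq_of_mul_eq_one_right (h.sqD d hd)

theorem invt : h.t⁻¹ = h.t := inv_eq_of_mul_eq_one_right h.tsq

theorem mul_commD {d e : Q} (hd : d ∈ h.D) (he : e ∈ h.D) : d * e = e * d := by
  have := h.invD (h.D.mul_mem hd he)
  rwa [mul_inv_rev, h.invD hd, h.invD he, eq_comm] at this

theorem κpow_t (i : ℕ) : (h.κ ^ i) h.t = h.t := by
  induction i with
  | zero => simp
  | succ i ih => rw [pow_succ, MulAut.mul_apply, h.κt, ih]

theorem κpow_D (i : ℕ) {d : Q} (hd : d ∈ h.D) : (h.κ ^ i) d ∈ h.D := by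
  induction i with
  | zero => simpa using hd
  | succ i ih => rw [pow_succ', MulAut.mul_apply]; exact h.κD _ ih

theorem exists_ne {d : Q} (hd : d ∈ h.D) : ∃ e ∈ h.D, e ≠ 1 ∧ e ≠ d := by
  by_contra hc
  push Not at hc
  have hsub : (h.D : Set Q) ⊆ {1, d} := fun e he => by
    by_cases e1 : e = 1
    · exact Or.inl e1
    · exact Or.inr (hc e he e1)
  have := Nat.card_mono (Set.toFinite _) hsub
  have h2 : Nat.card ({1, d} : Set Q) ≤ 2 := by
    rw [Nat.card_coe_set_eq]
    exact Set.ncard_le_ncard (t := {1, d}) subset_rfl |>.trans ((Set.ncard_insert_le _ _).trans (by simp))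
  have := h.four
  simp only [SetLike.coe_sort_coe] at *
  omega

theorem κ_moves {d : Q} (hd : d ∈ h.D) (h1 : d ≠ 1) : h.κ d ≠ d := by
  intro e
  obtain ⟨e', he', he1, hed⟩ := h.exists_ne hd
  obtain ⟨i, hi⟩ := h.trans d hd e' he' h1 he1
  apply hed
  rw [← hi]
  clear hi
  induction i with
  | zero => simp
  | succ i ih => rw [pow_succ, MulAut.mul_apply, e, ih]

/-- A `κ`-invariant subgroup containing a non-trivial element of `D` contains `D`. -/
theorem D_le {A : Subgroup Q} (hA : ∀ a ∈ A, h.κ a ∈ A) {d : Q} (hd : d ∈ h.D) (hd1 : d ≠ 1) (hdA : d ∈ A) :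
    h.D ≤ A := by
  intro e he
  by_cases e1 : e = 1
  · rw [e1]; exact A.one_mem
  obtain ⟨i, rfl⟩ := h.trans d hd e he hd1 e1
  clear e1 he
  induction i with
  | zero => simpa using hdA
  | succ i ih => rw [pow_succ', MulAut.mul_apply]; exact hA _ ih

/-- `Q` is the centraliser of `t`. -/
def Flat : Prop := ∀ x : Q, x * h.t = h.t * x

theorem centre_notMem {z : Q} (hnf : ¬ h.Flat) (hz : z ∈ Subgroup.center Q) : z ≠ h.t := by
  rintro rfl
  exact hnf fun x => (Subgroup.mem_center_iff.1 hz x)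

theorem centre_le (hnf : ¬ h.Flat) : Subgroup.center Q ≤ h.D := by
  intro z hz
  have hc := Subgroup.mem_center_iff.1 hz h.t
  rcases (h.cent z).1 hc.symm with hd | hd
  · exact hd
  exfalso
  have e1 : h.t * z ≠ 1 := fun e => h.centre_notMem hnf hz (by
    rw [eq_inv_of_mul_eq_one_right e, h.invt])
  have hκz : h.κ z ∈ Subgroup.center Q := by
    rw [Subgroup.mem_center_iff]
    intro x
    have := congrArg h.κ (Subgroup.mem_center_iff.1 hz (h.κ.symm x))
    simpa using this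
  have hm : (h.t * z) * (h.t * h.κ z) ∈ Subgroup.center Q := by
    rw [mul_assoc, ← mul_assoc z h.t, ← hc, mul_assoc, ← mul_assoc h.t, h.tsq, one_mul]
    exact Subgroup.mul_mem _ hz hκz
  have hd2 : h.t * h.κ z ∈ h.D := by
    have := h.κD _ hd
    rwa [map_mul, h.κt] at this
  have hne : (h.t * z) * (h.t * h.κ z) ≠ 1 := by
    intro e
    rw [mul_eq_one_iff_eq_inv, h.invD hd2] at e
    exact h.κ_moves hd e1 (by rw [map_mul, h.κt]; exact e.symm)
  have hinv : ∀ a ∈ Subgroup.center Q, h.κ a ∈ Subgroup.center Q := fun a ha => by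
    rw [Subgroup.mem_center_iff]
    intro x
    have := congrArg h.κ (Subgroup.mem_center_iff.1 ha (h.κ.symm x))
    simpa using this
  have hDle := h.D_le hinv (h.D.mul_mem hd hd2) hne hm
  refine hnf fun x => ?_
  have ht : h.t ∈ Subgroup.center Q := by
    have := Subgroup.mul_mem _ (hDle hd) (Subgroup.inv_mem _ hz)
    rwa [mul_inv_cancel_right] at this
  exact Subgroup.mem_center_iff.1 ht x

theorem centre_inv {a : Q} (ha : a ∈ Subgroup.center Q) : h.κ a ∈ Subgroup.center Q := by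
  rw [Subgroup.mem_center_iff]
  intro x
  have := congrArg h.κ (Subgroup.mem_center_iff.1 ha (h.κ.symm x))
  simpa using this

theorem D_central : h.D ≤ Subgroup.center Q := by
  by_cases hf : h.Flat
  · intro d hd
    rw [Subgroup.mem_center_iff]
    intro x
    rcases (h.cent x).1 (hf x) with hx | hx
    · exact h.mul_commD hx hd
    · have := h.mul_commD hx hd
      rw [← mul_assoc d, h.commD hd, mul_assoc, mul_assoc] at this
      exact mul_left_cancel this
  · haveI : Fact (Nat.Prime 2) := ⟨Nat.prime_two⟩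
    haveI : Nontrivial Q := by
      by_contra hc
      rw [not_nontrivial_iff_subsingleton] at hc
      exact hf fun x => Subsingleton.elim _ _
    haveI := h.pgroup.center_nontrivial
    obtain ⟨⟨z, hz⟩, hz1⟩ := _root_.exists_ne (1 : Subgroup.center Q)
    exact h.D_le (fun a ha => h.centre_inv ha) (h.centre_le hf hz) (fun e => hz1 (Subtype.ext e)) hz

theorem normalD : h.D.Normal :=
  ⟨fun d hd g => by
    rw [Subgroup.mem_center_iff.1 (h.D_central hd) g, mul_assoc, mul_inv_cancel, mul_one]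
    exact hd⟩

theorem comm_left (x : Q) {d : Q} (hd : d ∈ h.D) : x * d = d * x :=
  Subgroup.mem_center_iff.1 (h.D_central hd) x

/-- The commutator with `t`. -/
def c (x : Q) : Q := h.t * x * h.t * x⁻¹

theorem c_eq_one {x : Q} (e : h.c x = 1) : x * h.t = h.t * x := by
  unfold c at e
  rw [mul_inv_eq_one] at e
  calc x * h.t = h.t * x * h.t * h.t := by rw [e]
    _ = h.t * x := by rw [mul_assoc, h.tsq, mul_one]

theorem c_of_comm {x : Q} (e : x * h.t = h.t * x) : h.c x = 1 := by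
  unfold c
  rw [mul_assoc h.t x, e, ← mul_assoc, h.tsq, one_mul, mul_inv_cancel]

/-- Elements moving `t` inside its `D`-coset. -/
def P : Subgroup Q where
  carrier := {x | h.c x ∈ h.D}
  one_mem' := by
    show h.c 1 ∈ h.D
    rw [h.c_of_comm (by rw [one_mul, mul_one])]
    exact h.D.one_mem
  mul_mem' := by
    intro x y hx hy
    show h.c (x * y) ∈ h.D
    have e : h.c (x * y) = h.c x * h.c y := by
      have hcy := h.comm_left x hy
      unfold c at hcy ⊢
      calc h.t * (x * y) * h.t * (x * y)⁻¹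
          = h.t * x * h.t * ((h.t * y * h.t * y⁻¹) * x⁻¹) := by
            rw [show h.t * y * h.t * y⁻¹ = h.t⁻¹ * y * h.t * y⁻¹ by rw [h.invt]]; group
        _ = h.t * x * h.t * (x⁻¹ * (x * (h.t * y * h.t * y⁻¹)) * x⁻¹) := by group
        _ = h.t * x * h.t * (x⁻¹ * ((h.t * y * h.t * y⁻¹) * x) * x⁻¹) := by rw [hcy]
        _ = h.t * x * h.t * x⁻¹ * (h.t * y * h.t * y⁻¹) := by group
    rw [e]
    exact h.D.mul_mem hx hy
  inv_mem' := by
    intro x hx
    show h.c x⁻¹ ∈ h.D
    have hc := h.comm_left x hx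
    have e : h.c x⁻¹ = h.c x := by
      have hi := h.invD hx
      unfold c at hc hi ⊢
      rw [mul_inv_rev, mul_inv_rev, mul_inv_rev, inv_inv, h.invt] at hi
      calc h.t * x⁻¹ * h.t * x⁻¹⁻¹ = x⁻¹ * (x * h.t * x⁻¹ * h.t) * x := by group
        _ = x⁻¹ * (h.t * x * h.t * x⁻¹) * x := by
          rw [show x * h.t * x⁻¹ * h.t = x * (h.t * (x⁻¹ * h.t)) by group, hi]
        _ = x⁻¹ * (x * (h.t * x * h.t * x⁻¹)) := by rw [hc]; group
        _ = _ := by group
    rw [e]
    exact hx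

theorem mem_P {x : Q} : x ∈ h.P ↔ h.c x ∈ h.D := Iff.rfl

theorem c_mul {x y : Q} (hy : y ∈ h.P) : h.c (x * y) = h.c x * h.c y := by
  have hcy := h.comm_left x (h.mem_P.1 hy)
  unfold c at hcy ⊢
  calc h.t * (x * y) * h.t * (x * y)⁻¹
      = h.t * x * h.t * ((h.t * y * h.t * y⁻¹) * x⁻¹) := by
        rw [show h.t * y * h.t * y⁻¹ = h.t⁻¹ * y * h.t * y⁻¹ by rw [h.invt]]; group
    _ = h.t * x * h.t * (x⁻¹ * (x * (h.t * y * h.t * y⁻¹)) * x⁻¹) := by group
    _ = h.t * x * h.t * (x⁻¹ * ((h.t * y * h.t * y⁻¹) * x) * x⁻¹) := by rw [hcy]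
    _ = h.t * x * h.t * x⁻¹ * (h.t * y * h.t * y⁻¹) := by group

theorem κc (x : Q) : h.κ (h.c x) = h.c (h.κ x) := by
  unfold c
  simp [map_mul, h.κt]

theorem κpowc (i : ℕ) (x : Q) : (h.κ ^ i) (h.c x) = h.c ((h.κ ^ i) x) := by
  induction i with
  | zero => simp
  | succ i ih => rw [pow_succ', MulAut.mul_apply, MulAut.mul_apply, ih, h.κc]

theorem κP {x : Q} (hx : x ∈ h.P) : h.κ x ∈ h.P := by
  rw [mem_P, ← h.κc]; exact h.κD _ hx

theorem κpowP (i : ℕ) {x : Q} (hx : x ∈ h.P) : (h.κ ^ i) x ∈ h.P := by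
  rw [mem_P, ← h.κpowc]; exact h.κpow_D i hx

theorem comm_mem_P {x : Q} (hx : x * h.t = h.t * x) : x ∈ h.P := by
  rw [mem_P, h.c_of_comm hx]; exact h.D.one_mem

theorem t_mem_P : h.t ∈ h.P := h.comm_mem_P rfl

/-- Some element moves `t`, unless `Q` centralises it. -/
theorem exists_move (hnf : ¬ h.Flat) : ∃ x ∈ h.P, h.c x ≠ 1 := by
  haveI : Fact (Nat.Prime 2) := ⟨Nat.prime_two⟩
  haveI := h.pgroup.isNilpotent
  set C : Subgroup Q := Subgroup.centralizer ({h.t} : Set Q)
  have hC : ∀ x, x ∈ C ↔ x * h.t = h.t * x := fun x => by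
    rw [Subgroup.mem_centralizer_singleton_iff]
  have hlt : C < ⊤ := lt_top_iff_ne_top.2 fun e => hnf fun x => (hC x).1 (e ▸ Subgroup.mem_top x)
  obtain ⟨x, hxN, hxC⟩ :=
    SetLike.exists_of_lt (Group.normalizerCondition_of_isNilpotent C hlt)
  have hm : x * h.t * x⁻¹ ∈ C := (Subgroup.mem_normalizer_iff.1 hxN _).1 ((hC _).2 rfl)
  refine ⟨x⁻¹, ?_, fun e => hxC ((hC x).2 ?_)⟩
  · rw [mem_P]
    rcases (h.cent _).1 ((hC _).1 hm) with hd | hd
    · exfalso
      refine hxC ((hC x).2 ?_)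
      have ht : h.t ∈ h.D := by
        have := (h.normalD).conj_mem _ hd x⁻¹
        rwa [show x⁻¹ * (x * h.t * x⁻¹) * x⁻¹⁻¹ = h.t by group] at this
      exact absurd ht h.tnot
    · have e : h.c x⁻¹ = x⁻¹ * (h.t * (x * h.t * x⁻¹))⁻¹ * x := by
        unfold c
        rw [mul_inv_rev, mul_inv_rev, mul_inv_rev, inv_inv, h.invt]
        group
      rw [e, h.invD hd]
      have := (h.normalD).conj_mem _ hd x⁻¹
      rwa [inv_inv] at this
  · have := h.c_eq_one e
    calc x * h.t = x * (h.t * x⁻¹) * x := by group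
      _ = x * (x⁻¹ * h.t) * x := by rw [this]
      _ = h.t * x := by group

theorem c_surj (hnf : ¬ h.Flat) {d : Q} (hd : d ∈ h.D) : ∃ x ∈ h.P, h.c x = d := by
  by_cases d1 : d = 1
  · exact ⟨1, h.P.one_mem, by rw [d1]; exact h.c_of_comm (by rw [one_mul, mul_one])⟩
  obtain ⟨x, hx, hx1⟩ := h.exists_move hnf
  obtain ⟨i, hi⟩ := h.trans _ hx d hd hx1 d1
  exact ⟨(h.κ ^ i) x, h.κpowP i hx, by rw [← h.κpowc, hi]⟩

theorem conj_of_c {x : Q} (hx : x ∈ h.P) : x * h.t * x⁻¹ = h.t * h.c x := by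
  unfold c
  rw [show h.t * (h.t * x * h.t * x⁻¹) = (h.t * h.t) * (x * h.t * x⁻¹) by group, h.tsq, one_mul]

/-- The squares in `P` lie in `D`. -/
theorem sq_P {x : Q} (hx : x ∈ h.P) : x * x ∈ h.D := by
  have e : h.c (x * x) = 1 := by rw [h.c_mul hx]; exact h.sqD _ hx
  rcases (h.cent _).1 (h.c_eq_one e) with hd | hd
  · exact hd
  exfalso
  have hcomm : x * h.t = h.t * x := by
    have h1 := h.comm_left x hd
    calc x * h.t = x * (h.t * (x * x)) * (x * x)⁻¹ := by group
      _ = h.t * (x * x) * x * (x * x)⁻¹ := by rw [h1]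
      _ = h.t * x := by group
  rcases (h.cent x).1 hcomm with hd2 | hd2
  · rw [h.sqD _ hd2, mul_one] at hd; exact h.tnot hd
  · have : x * x = 1 := by
      have h2 := h.sqD _ hd2
      rwa [mul_assoc, ← mul_assoc x h.t, hcomm, mul_assoc h.t x, ← mul_assoc, h.tsq, one_mul] at h2
    rw [this, mul_one] at hd; exact h.tnot hd

theorem D_le_sqs (hnf : ¬ h.Flat) : h.D ≤ sqs Q := by
  intro d hd
  obtain ⟨x, hx, rfl⟩ := h.c_surj hnf hd
  have : h.c x = (h.t * x) * (h.t * x) * (x * x)⁻¹ := by unfold c; group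
  rw [this]
  exact Subgroup.mul_mem _ (sq_mem_sqs _) (Subgroup.inv_mem _ (sq_mem_sqs _))

end Tw

end Cfsg.Agent.TwoXDih
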